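import Mathlib

/-! The apolar pairing of polynomials and the invariant functionals on polynomials in matrix entries. -/

set_option autoImplicit false
universe u v

open MvPolynomial

noncomputable section

namespace Groth.Agent.GITLib

section Pair

variable {σ : Type} [Fintype σ] {R : Type u} [CommRing R]

/-- Multi-factorial. -/
def fct (d : σ →₀ ℕ) : ℕ := ∏ i, (d i).factorial

theorem fct_single_add [DecidableEq σ] (d : σ →₀ ℕ) (j : σ) :
    fct (Finsupp.single j 1 + d) = (d j + 1) * fct d := by
  unfold fct
  rw [← Finset.mul_prod_erase _ _ (Finset.mem_univ j), ← Finset.mul_prod_erase _ (fun i => (d i).factorial) (Finset.mem_univ j),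
    ← mul_assoc]
  congr 1
  · simp [Nat.factorial_succ, add_comm 1 (d j)]
  · exact Finset.prod_congr rfl fun i hi => by simp [Finsupp.single_eq_of_ne (Finset.ne_of_mem_erase hi)]

/-- The linear functional with prescribed values on monomials. -/
def ofVals (c : (σ →₀ ℕ) → R) : MvPolynomial σ R →ₗ[R] R := (basisMonomials σ R).constr R c

@[simp] theorem ofVals_monomial (c : (σ →₀ ℕ) → R) (d : σ →₀ ℕ) (a : R) :
    ofVals c (monomial d a) = a * c d := by
  have h : monomial d a = a • basisMonomials σ R d := by
    rw [coe_basisMonomials, smul_monomial, smul_eq_mul, mul_one]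
  rw [h, map_smul, ofVals, Module.Basis.constr_basis, smul_eq_mul]

/-- The apolar pairing. -/
def pair (Q : MvPolynomial σ R) : MvPolynomial σ R →ₗ[R] R := ofVals fun d => (fct d : R) * coeff d Q

theorem pair_X_mul (Q P : MvPolynomial σ R) (j : σ) : pair Q (X j * P) = pair (pderiv j Q) P := by
  classical
  induction P using MvPolynomial.induction_on' with
  | monomial d c =>
    rw [X, monomial_mul, one_mul, pair, pair, ofVals_monomial, ofVals_monomial, fct_single_add, coeff_pderiv,
      add_comm (Finsupp.single j 1) d]
    push_cast; ring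
  | add p q hp hq => rw [mul_add, map_add, map_add, hp, hq]

theorem pair_C (Q : MvPolynomial σ R) (c : R) : pair Q (C c) = c * constantCoeff Q := by
  rw [C_apply, pair, ofVals_monomial]
  simp [fct, constantCoeff_eq]

theorem pair_smul_left (a : R) (Q P : MvPolynomial σ R) : pair (a • Q) P = a * pair Q P := by
  induction P using MvPolynomial.induction_on' with
  | monomial d c =>
    simp only [pair, ofVals_monomial, coeff_smul, smul_eq_mul]
    ring
  | add p q hp hq => simp only [map_add, hp, hq, mul_add]

theorem pair_add_left (Q Q' P : MvPolynomial σ R) : pair (Q + Q') P = pair Q P + pair Q' P := by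
  induction P using MvPolynomial.induction_on' with
  | monomial d c => simp [pair, mul_add]
  | add p q hp hq => simp only [map_add, hp, hq]; abel

theorem pair_sum_left {α : Type*} (s : Finset α) (Q : α → MvPolynomial σ R) (P : MvPolynomial σ R) :
    pair (∑ a ∈ s, Q a) P = ∑ a ∈ s, pair (Q a) P := by
  classical
  induction s using Finset.induction_on with
  | empty =>
    simp only [Finset.sum_empty]
    induction P using MvPolynomial.induction_on' <;> simp_all [pair]
  | insert a s ha ih => rw [Finset.sum_insert ha, Finset.sum_insert ha, pair_add_left, ih]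

theorem pair_map {S : Type v} [CommRing S] (f : R →+* S) (Q P : MvPolynomial σ R) :
    pair (MvPolynomial.map f Q) (MvPolynomial.map f P) = f (pair Q P) := by
  induction P using MvPolynomial.induction_on' with
  | monomial d c => simp [pair, coeff_map]
  | add p q hp hq => simp only [map_add, hp, hq]

/-- Linear substitution of the variables. -/
def subst (A : σ → σ → R) : MvPolynomial σ R →ₐ[R] MvPolynomial σ R := aeval fun i => ∑ l, C (A i l) * X l

theorem pderiv_subst (A : σ → σ → R) (j : σ) (Q : MvPolynomial σ R) :
    pderiv j (subst A Q) = ∑ l, C (A l j) * subst A (pderiv l Q) := by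
  classical
  induction Q using MvPolynomial.induction_on with
  | C a => simp [subst]
  | add p q hp hq => simp only [map_add, hp, hq, mul_add, Finset.sum_add_distrib]
  | mul_X p i hp =>
    simp only [map_mul, pderiv_mul, map_add, Finset.sum_add_distrib, hp, mul_add, pderiv_X, Finset.sum_mul]
    congr 1
    · exact Finset.sum_congr rfl fun l _ => by ring
    · rw [Finset.sum_eq_single i]
      · simp [subst, pderiv_X, Pi.single_apply, Finset.sum_ite_eq]
        ring
      · intro l _ hl; simp [Pi.single_apply, hl.symm]
      · simp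

theorem pair_subst (A : σ → σ → R) (P Q : MvPolynomial σ R) :
    pair Q (subst A P) = pair (subst (fun i l => A l i) Q) P := by
  classical
  induction P using MvPolynomial.induction_on generalizing Q with
  | C c =>
    rw [subst, aeval_C, MvPolynomial.algebraMap_eq, pair_C, pair_C]
    congr 1
    induction Q using MvPolynomial.induction_on with
    | C a => simp [subst]
    | add p q hp hq => simp only [map_add, hp, hq]
    | mul_X p i _ => simp [subst]
  | add p q hp hq => simp only [map_add, hp, hq]
  | mul_X p j hp =>
    rw [mul_comm p, pair_X_mul, pderiv_subst, map_mul, show subst A (X j) = ∑ l, C (A j l) * X l from aeval_X _ _,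
      Finset.sum_mul, map_sum, pair_sum_left]
    refine Finset.sum_congr rfl fun l _ => ?_
    rw [mul_assoc, ← smul_eq_C_mul, map_smul, pair_X_mul, hp, ← smul_eq_C_mul, pair_smul_left, smul_eq_mul]

theorem subst_isHomogeneous (A : σ → σ → R) {P : MvPolynomial σ R} {D : ℕ} (hP : P.IsHomogeneous D) :
    (subst A P).IsHomogeneous D := by
  have h := hP.aeval (fun i => ∑ l, C (A i l) * X l) (fun i => IsHomogeneous.sum Finset.univ _ 1 fun l _ =>
    (isHomogeneous_X R l).C_mul (A i l))
  rw [one_mul] at h
  exact h

theorem pair_eq_zero {Q P : MvPolynomial σ R} {a b : ℕ} (hQ : Q.IsHomogeneous a) (hP : P.IsHomogeneous b)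
    (hab : a ≠ b) : pair Q P = 0 := by
  rw [P.as_sum, map_sum]
  refine Finset.sum_eq_zero fun d hd => ?_
  have h1 : d.degree = b := by
    by_contra h
    exact mem_support_iff.1 hd (hP.coeff_eq_zero h)
  rw [pair, ofVals_monomial, hQ.coeff_eq_zero (by omega), mul_zero, mul_zero]

theorem ofVals_congr {c c' : (σ →₀ ℕ) → R} {P : MvPolynomial σ R} {D : ℕ} (hP : P.IsHomogeneous D)
    (h : ∀ d : σ →₀ ℕ, d.degree = D → c d = c' d) : ofVals c P = ofVals c' P := by
  rw [P.as_sum, map_sum, map_sum]
  refine Finset.sum_congr rfl fun d hd => ?_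
  rw [ofVals_monomial, ofVals_monomial, h d]
  by_contra hne
  exact mem_support_iff.1 hd (hP.coeff_eq_zero hne)

end Pair

section Det

variable {n : ℕ} {R : Type u} [CommRing R]

/-- The determinant polynomial. -/
def detP (n : ℕ) (R : Type u) [CommRing R] : MvPolynomial (Fin n × Fin n) R :=
  (Matrix.mvPolynomialX (Fin n) (Fin n) R).det

theorem aeval_detP {B : Type v} [CommRing B] [Algebra R B] (f : Fin n × Fin n → B) :
    aeval f (detP n R) = (Matrix.of fun i j => f (i, j)).det := by
  rw [detP, AlgHom.map_det]
  congr 1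
  ext i j
  simp [Matrix.mvPolynomialX]

theorem map_detP {S : Type v} [CommRing S] (f : R →+* S) : MvPolynomial.map f (detP n R) = detP n S := by
  rw [detP, detP, RingHom.map_det]
  congr 1
  ext i j
  simp [Matrix.mvPolynomialX]

theorem detP_isHomogeneous : (detP n R).IsHomogeneous n := by
  rw [detP, Matrix.det_apply]
  refine IsHomogeneous.sum _ _ _ fun σ' _ => ?_
  have h : (∏ i, Matrix.mvPolynomialX (Fin n) (Fin n) R (σ' i) i).IsHomogeneous n := by
    simpa [Matrix.mvPolynomialX] using
      IsHomogeneous.prod Finset.univ (fun i => Matrix.mvPolynomialX (Fin n) (Fin n) R (σ' i) i) (fun _ => 1)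
        fun i _ => isHomogeneous_X R (σ' i, i)
  rcases Int.units_eq_one_or (Equiv.Perm.sign σ') with e | e <;> rw [e]
  · simpa using h
  · simpa using h.neg

/-- The substitution `X ↦ X G`. -/
def rmul (G : Matrix (Fin n) (Fin n) R) : Fin n × Fin n → Fin n × Fin n → R :=
  fun p q => if p.1 = q.1 then G q.2 p.2 else 0

theorem rmul_transpose (G : Matrix (Fin n) (Fin n) R) : (fun p q => rmul G q p) = rmul G.transpose := by
  funext p q
  by_cases h : p.1 = q.1
  · simp [rmul, h]
  · simp [rmul, h, Ne.symm h]

theorem subst_rmul_X (G : Matrix (Fin n) (Fin n) R) (i j : Fin n) :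
    subst (rmul G) (X (i, j)) = ∑ b, C (G b j) * X (i, b) := by
  rw [subst, aeval_X, Fintype.sum_prod_type, Finset.sum_eq_single i]
  · simp [rmul]
  · intro a _ ha; simp [rmul, Ne.symm ha]
  · simp

theorem subst_rmul_detP (G : Matrix (Fin n) (Fin n) R) : subst (rmul G) (detP n R) = C G.det * detP n R := by
  rw [detP, AlgHom.map_det, RingHom.map_det, mul_comm, ← Matrix.det_mul]
  congr 1
  ext1 i j
  simp only [AlgHom.mapMatrix_apply, Matrix.map_apply, Matrix.mul_apply, RingHom.mapMatrix_apply,
    Matrix.mvPolynomialX, Matrix.of_apply]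
  rw [subst_rmul_X]
  exact Finset.sum_congr rfl fun b _ => mul_comm _ _

theorem pair_det_pow_subst (G : Matrix (Fin n) (Fin n) R) (q : ℕ) (P : MvPolynomial (Fin n × Fin n) R) :
    pair (detP n R ^ q) (subst (rmul G) P) = G.det ^ q * pair (detP n R ^ q) P := by
  rw [pair_subst, rmul_transpose, map_pow, subst_rmul_detP, mul_pow, ← map_pow, ← smul_eq_C_mul, pair_smul_left,
    Matrix.det_transpose]

end Det

section Field

variable {n : ℕ} {k : Type u} [Field k] [CharZero k]

theorem pair_det_pow_ne_zero (q : ℕ) : pair (detP n k ^ q) (detP n k ^ q) ≠ 0 := by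
  classical
  rw [← map_detP (Int.castRingHom k), ← map_pow, pair_map, eq_intCast, Int.cast_ne_zero]
  set Q := detP n ℤ ^ q with hQ
  have hne : Q ≠ 0 := fun h => by
    have := congrArg (aeval (fun p : Fin n × Fin n => if p.1 = p.2 then (1 : ℤ) else 0)) h
    rw [hQ, map_pow, aeval_detP, map_zero, show (Matrix.of fun i j : Fin n => if i = j then (1 : ℤ) else 0) = 1 from
      Matrix.ext fun i j => (Matrix.one_apply).symm, Matrix.det_one, one_pow] at this
    exact one_ne_zero this
  have h1 : pair Q Q = ∑ d ∈ Q.support, (fct d : ℤ) * (coeff d Q) ^ 2 := by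
    conv_lhs => arg 2; rw [Q.as_sum]
    rw [map_sum]
    refine Finset.sum_congr rfl fun d _ => ?_
    rw [pair, ofVals_monomial]; ring
  rw [h1]
  refine ne_of_gt (Finset.sum_pos (fun d hd => mul_pos ?_ ?_) (support_nonempty.2 hne))
  · exact_mod_cast Finset.prod_pos fun i _ => Nat.factorial_pos _
  · exact sq_pos_iff.2 (mem_support_iff.1 hd)

/-- The normalised invariant functional of weight `det ^ q`, on monomials. -/
def lval (n : ℕ) (k : Type u) [Field k] (q : ℕ) (d : Fin n × Fin n →₀ ℕ) : k :=
  (pair (detP n k ^ q) (detP n k ^ q))⁻¹ * ((fct d : k) * coeff d (detP n k ^ q))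

theorem ofVals_lval {B : Type v} [CommRing B] [Algebra k B] (q : ℕ) (P : MvPolynomial (Fin n × Fin n) B) :
    ofVals (fun d => algebraMap k B (lval n k q d)) P =
      algebraMap k B (pair (detP n k ^ q) (detP n k ^ q))⁻¹ * pair (detP n B ^ q) P := by
  induction P using MvPolynomial.induction_on' with
  | monomial d c =>
    rw [← map_detP (algebraMap k B), ← map_pow]
    simp only [pair, ofVals_monomial, lval, map_mul, coeff_map, map_natCast]
    ring
  | add p q hp hq => simp only [map_add, hp, hq, mul_add]

theorem lfun_eq (q : ℕ) (P : MvPolynomial (Fin n × Fin n) k) :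
    ofVals (lval n k q) P = (pair (detP n k ^ q) (detP n k ^ q))⁻¹ * pair (detP n k ^ q) P := by
  induction P using MvPolynomial.induction_on' with
  | monomial d c =>
    simp only [ofVals_monomial, lval, pair]
    ring
  | add p q hp hq => simp only [map_add, hp, hq, mul_add]

theorem lfun_det_mul (q : ℕ) (P : MvPolynomial (Fin n × Fin n) k) :
    ofVals (lval n k (q + 1)) (detP n k * P) = ofVals (lval n k q) P := by
  classical
  set Q := detP n k ^ (q + 1) with hQ
  set S := ((Finsupp.finite_of_degree_le (σ := Fin n × Fin n) (n * q))).toFinset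
  set Rp : MvPolynomial (Fin n × Fin n) k :=
    ∑ d ∈ S, monomial d ((fct d : k)⁻¹ * pair Q (detP n k * monomial d 1)) with hRp
  have hfct : ∀ d : Fin n × Fin n →₀ ℕ, (fct d : k) ≠ 0 := fun d =>
    Nat.cast_ne_zero.2 (Finset.prod_ne_zero_iff.2 fun i _ => Nat.factorial_ne_zero _)
  have hR : ∀ P, pair Rp P = pair Q (detP n k * P) := by
    intro P
    induction P using MvPolynomial.induction_on' with
    | monomial d c =>
      rw [show monomial d c = c • monomial d (1 : k) by rw [smul_monomial, smul_eq_mul, mul_one], mul_smul_comm,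
        map_smul, map_smul]
      congr 1
      rw [pair, ofVals_monomial, one_mul, hRp, coeff_sum]
      simp only [coeff_monomial, Finset.sum_ite_eq']
      split_ifs with hd
      · rw [← mul_assoc, mul_inv_cancel₀ (hfct d), one_mul]
      · rw [mul_zero]
        refine (pair_eq_zero (b := n + d.degree) (detP_isHomogeneous.pow (q + 1))
          (detP_isHomogeneous.mul (isHomogeneous_monomial 1 rfl)) ?_).symm
        have : ¬ d.degree ≤ n * q := fun h => hd ((Set.Finite.mem_toFinset _).2 h)
        rw [mul_add, mul_one]
        omega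
    | add p r hp hr => simp only [map_add, mul_add, hp, hr]
  have hnd : ∀ Q₁ Q₂ : MvPolynomial (Fin n × Fin n) k, (∀ P, pair Q₁ P = pair Q₂ P) → Q₁ = Q₂ := by
    intro Q₁ Q₂ h
    ext d
    have := h (monomial d 1)
    simp only [pair, ofVals_monomial, one_mul] at this
    exact mul_left_cancel₀ (hfct d) this
  have hequiv : ∀ G : Matrix (Fin n) (Fin n) k, IsUnit G.det →
      subst (rmul G.transpose) Rp = (G.det ^ q) • Rp := by
    intro G hG
    refine hnd _ _ fun P => ?_
    rw [← rmul_transpose, ← pair_subst, hR, pair_smul_left, hR]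
    have h1 : detP n k * subst (rmul G) P = (G.det)⁻¹ • subst (rmul G) (detP n k * P) := by
      rw [map_mul, subst_rmul_detP, smul_eq_C_mul, ← mul_assoc, ← mul_assoc, ← map_mul, inv_mul_cancel₀ hG.ne_zero,
        map_one, one_mul]
    rw [h1, map_smul, hQ, pair_det_pow_subst, smul_eq_mul, pow_succ]
    field_simp [hG.ne_zero]
  set r₀ := aeval (fun p : Fin n × Fin n => if p.1 = p.2 then (1 : k) else 0) Rp with hr₀
  have hRp' : Rp = r₀ • detP n k ^ q := by
    have key : (Rp - r₀ • detP n k ^ q) * detP n k = 0 := by
      refine MvPolynomial.funext fun x => ?_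
      rw [map_zero, map_mul, map_sub]
      by_cases hx : MvPolynomial.eval x (detP n k) = 0
      · rw [hx, mul_zero]
      · have hdet : MvPolynomial.eval x (detP n k) = (Matrix.of fun i j => x (i, j)).det := aeval_detP x
        refine mul_eq_zero_of_left (sub_eq_zero.2 ?_) _
        rw [hdet] at hx
        have := congrArg (aeval (fun p : Fin n × Fin n => if p.1 = p.2 then (1 : k) else 0))
          (hequiv (Matrix.of fun i j => x (i, j)).transpose (by rw [Matrix.det_transpose]; exact Ne.isUnit hx))
        rw [map_smul, ← hr₀, Matrix.det_transpose, Matrix.transpose_transpose] at this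
        rw [smul_eval, map_pow, hdet, mul_comm r₀, ← smul_eq_mul, ← this, ← AlgHom.comp_apply]
        refine DFunLike.congr_fun (MvPolynomial.algHom_ext (f := aeval x) (fun p => ?_)) Rp
        rw [AlgHom.comp_apply, aeval_X, subst_rmul_X, map_sum, Finset.sum_eq_single p.1]
        · simp
        · intro b _ hb; simp [Ne.symm hb]
        · simp
    rcases mul_eq_zero.1 key with h | h
    · exact sub_eq_zero.1 h
    · exact absurd (by rw [h, zero_pow q.succ_ne_zero, map_zero]) (pair_det_pow_ne_zero (n := n) (k := k) (q + 1))
  have hc : r₀ * pair (detP n k ^ q) (detP n k ^ q) = pair Q Q := by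
    rw [← pair_smul_left, ← hRp', hR, hQ, ← pow_succ']
  have hne := pair_det_pow_ne_zero (n := n) (k := k) q
  have hne' : pair Q Q ≠ 0 := pair_det_pow_ne_zero (n := n) (k := k) (q + 1)
  rw [lfun_eq, lfun_eq, ← hQ, ← hR, hRp', pair_smul_left, ← hc]
  rw [← hc] at hne'
  field_simp [hne, left_ne_zero_of_mul hne']

theorem lfun_one : ofVals (lval n k 0) (1 : MvPolynomial (Fin n × Fin n) k) = 1 := by
  rw [lfun_eq]
  have h : pair (detP n k ^ 0) (1 : MvPolynomial (Fin n × Fin n) k) ≠ 0 := by
    simpa using pair_det_pow_ne_zero (n := n) (k := k) 0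
  simp only [pow_zero] at h ⊢
  exact inv_mul_cancel₀ h

/-- The degree-adapted functional, invariant under translations of determinant one. -/
def sval (n : ℕ) (k : Type u) [Field k] (d : Fin n × Fin n →₀ ℕ) : k :=
  if n ∣ d.degree then lval n k (d.degree / n) d else 0

theorem sfun_det_mul (P : MvPolynomial (Fin n × Fin n) k) :
    ofVals (sval n k) (detP n k * P) = ofVals (sval n k) P := by
  rcases Nat.eq_zero_or_pos n with rfl | hn
  · simp [detP, Matrix.det_isEmpty]
  induction P using MvPolynomial.induction_on' with
  | monomial d c =>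
    have hhom := (detP_isHomogeneous (n := n) (R := k)).mul (isHomogeneous_monomial (σ := Fin n × Fin n) c (rfl : d.degree = _))
    rw [ofVals_monomial]
    by_cases hd : n ∣ d.degree
    · obtain ⟨q, hq⟩ := hd
      rw [ofVals_congr (c' := lval n k (q + 1)) hhom fun e he => ?_, lfun_det_mul, ofVals_monomial, sval,
        if_pos ⟨q, hq⟩, hq, Nat.mul_div_cancel_left q hn]
      have he' : e.degree = n * (q + 1) := by rw [he, hq, mul_add, mul_one, add_comm]
      rw [sval, if_pos ⟨q + 1, he'⟩, he', Nat.mul_div_cancel_left _ hn]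
    · rw [ofVals_congr (c' := fun _ => (0 : k)) hhom fun e he => ?_, sval, if_neg hd, mul_zero]
      · exact (detP n k * monomial d c).induction_on' (fun e a => by simp) (fun p q hp hq => by simp [hp, hq])
      · rw [sval, if_neg]
        rw [he]
        exact fun h => hd ((Nat.dvd_add_right (dvd_refl n)).1 h)
  | add p q hp hq => simp only [map_add, mul_add, hp, hq]

end Field

end Groth.Agent.GITLib
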