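import Groth.Agent.GITLib.LinRedGLSL
import Groth.Prelude.Def_GLin6
import Groth.Prelude.Def_GLin2

/-! Points of SL_n moving forms: the orbit morphism in terms of substitution. -/

set_option autoImplicit false
universe u v

open TensorProduct MvPolynomial

noncomputable section

namespace Groth.Agent.GITLib

set_option backward.isDefEq.respectTransparency false

variable {n d : ℕ} {k : Type u} [Field k]

/-- The coaction of `SL_n` on forms. -/
@[reducible] def slForms (k : Type u) [Field k] (n d : ℕ) :
    HopfRep.Comod k (CoordGrp.SLn n k) (CoordGrp.FormRing k n d) :=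
  GLin.comodAlong ((CoordGrp.SLn.mkHom n k).comp (CoordGrp.Mat.toGLn n k)) (CoordGrp.formsCoact k n d)

/-- `slForms` is an action. -/
theorem slForms_isCoactAlg (k : Type u) [Field k] (n d : ℕ) :
    @GLin.IsCoactAlg k _ (CoordGrp.SLn n k) _ _ (CoordGrp.FormRing k n d) _ _ (slForms k n d) :=
  GLin.isCoactAlg_comodAlong _ (CoordGrp.formsCoact k n d) (CoordGrp.formsCoact_isCoactAlg k n d)

theorem slForms_isLinear (k : Type u) [Field k] (n d : ℕ) :
    @GLin.IsLinear k _ (CoordGrp.SLn n k) _ _ (CoordGrp.FormIdx n d) _ (slForms k n d) :=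
  GLin.isLinear_comodAlong _ (CoordGrp.formsCoact k n d) (CoordGrp.formsCoact_isLinear k n d)

/-- The orbit morphism of a form. -/
def formOrbit (a : CoordGrp.FormIdx n d → k) : CoordGrp.FormRing k n d →ₐ[k] CoordGrp.SLn n k :=
  @GLin.orbitHom k _ (CoordGrp.SLn n k) _ _ (CoordGrp.FormRing k n d) _ _ (slForms k n d)
    (slForms_isCoactAlg k n d) (GLin.vecPt k (CoordGrp.FormIdx n d) a)

theorem formOrbit_X (a : CoordGrp.FormIdx n d → k) (m : CoordGrp.FormIdx n d) :
    formOrbit a (X m) = ∑ l, a l • (((CoordGrp.SLn.mkHom n k).comp (CoordGrp.Mat.toGLn n k))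
      (CoordGrp.formCoeff k n d l m) : CoordGrp.SLn n k) := by
  simp only [formOrbit, GLin.orbitHom, AlgHom.comp_apply, GLin.coactAlgHom_apply]
  rw [show (slForms k n d).coact (X m) = TensorProduct.map LinearMap.id
    (((CoordGrp.SLn.mkHom n k).comp (CoordGrp.Mat.toGLn n k)) : CoordGrp.Mat n k →ₗ[k] CoordGrp.SLn n k)
      (CoordGrp.formsCoactAlg k n d (X m)) from rfl, CoordGrp.formsCoactAlg_X]
  simp only [map_sum, TensorProduct.map_tmul, LinearMap.id_coe, id_eq, Algebra.TensorProduct.map_tmul,
    AlgHom.coe_id, AlgEquiv.toAlgHom_eq_coe, AlgHom.coe_coe, Algebra.TensorProduct.lid_tmul, GLin.vecPt,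
    MvPolynomial.aeval_X]
  rfl

variable {B : Type u} [CommRing B] [Algebra k B]

theorem coeff_bc {A : Type u} [CommRing A] [Algebra k A] (f : A →ₐ[k] B) (l : Fin n →₀ ℕ)
    (z : MvPolynomial (Fin n) k ⊗[k] A) :
    f (CoordGrp.coeffT (k := k) l z) =
      coeff l (bc (Fin n) k B (Algebra.TensorProduct.map (AlgHom.id k _) f z)) := by
  induction z with
  | zero => simp
  | add x y hx hy => simp only [map_add, coeff_add, hx, hy]
  | tmul p a =>
    simp [bc, coeff_map, mul_comm _ (C (f a)), Algebra.smul_def]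
    exact mul_comm _ _

theorem fct_mul_multinomial (m : CoordGrp.FormIdx n d) : fct m.1 * m.1.multinomial = d.factorial := by
  have h := Nat.multinomial_spec m.1.support m.1
  rw [← Finsupp.multinomial_eq] at h
  have hsum : ∑ i ∈ m.1.support, m.1 i = d := m.2
  rw [hsum] at h
  rw [← h]
  congr 1
  refine (Finset.prod_subset (Finset.subset_univ _) fun i _ hi => ?_).symm
  rw [Finsupp.notMem_support_iff.1 hi, Nat.factorial_zero]

theorem formPoly_isHomogeneous {R : Type v} [CommRing R] (c : CoordGrp.FormIdx n d → R) :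
    (CoordGrp.formPoly c).IsHomogeneous d :=
  IsHomogeneous.sum _ _ _ fun m _ => isHomogeneous_monomial _ m.2

theorem fct_mul_coeff {R : Type v} [CommRing R] (c : CoordGrp.FormIdx n d → R) (m : CoordGrp.FormIdx n d) :
    (fct m.1 : R) * coeff m.1 (CoordGrp.formPoly c) = (d.factorial : R) * c m := by
  rw [CoordGrp.coeff_formPoly, ← mul_assoc, ← Nat.cast_mul, fct_mul_multinomial]

/-- The substitution `y_i ↦ Σ_j M i j y_j`. -/
def act (M : Matrix (Fin n) (Fin n) B) : MvPolynomial (Fin n) B →ₐ[B] MvPolynomial (Fin n) B :=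
  subst fun i j => M i j

/-- A point of `SL_n` with matrix `M` sends a form `F` to `F(M y)` (characteristic prime to `d!`). -/
theorem formPoly_moved' (hd : (d.factorial : k) ≠ 0) (a : CoordGrp.FormIdx n d → k)
    (ψ : CoordGrp.SLn n k →ₐ[k] B) :
    CoordGrp.formPoly (fun m => ψ (formOrbit a (X m))) =
      act (Matrix.of fun i j => ψ (CoordGrp.SLn.X i j))
        (MvPolynomial.map (algebraMap k B) (CoordGrp.formPoly a)) := by
  classical
  set M : Matrix (Fin n) (Fin n) B := Matrix.of fun i j => ψ (CoordGrp.SLn.X i j) with hM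
  set F := MvPolynomial.map (algebraMap k B) (CoordGrp.formPoly a) with hF
  set f : CoordGrp.Mat n k →ₐ[k] B :=
    ψ.comp (((CoordGrp.SLn.mkHom n k).comp (CoordGrp.Mat.toGLn n k)) : CoordGrp.Mat n k →ₐ[k] CoordGrp.SLn n k)
    with hf
  have hfX : ∀ i j, f (CoordGrp.Mat.X i j) = M i j := fun i j => by
    show ψ ((CoordGrp.SLn.mkHom n k) ((CoordGrp.Mat.toGLn n k) (CoordGrp.Mat.X i j))) = _
    rw [CoordGrp.Mat.toGLn_X]
    rfl
  have hhom : (act M F).IsHomogeneous d := subst_isHomogeneous _ ((formPoly_isHomogeneous a).map _)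
  have hkey : ∀ P : MvPolynomial (Fin n) k,
      bc (Fin n) k B (Algebra.TensorProduct.map (AlgHom.id k _) f (CoordGrp.stdCoactAlg n k P)) =
        subst (fun i l => M l i) (MvPolynomial.map (algebraMap k B) P) := by
    intro P
    induction P using MvPolynomial.induction_on with
    | C c =>
      rw [← MvPolynomial.algebraMap_eq, AlgHom.commutes, AlgHom.commutes, AlgHom.commutes, subst]
      simp [MvPolynomial.algebraMap_eq, IsScalarTower.algebraMap_apply k B (MvPolynomial (Fin n) B)]
    | add p q hp hq => simp only [map_add, hp, hq]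
    | mul_X p i hp =>
      simp only [map_mul, hp, MvPolynomial.map_X]
      congr 1
      rw [CoordGrp.stdCoactAlg_X, subst, aeval_X]
      simp [bc, hfX, mul_comm]
  have hmain : ∀ m : CoordGrp.FormIdx n d,
      (d.factorial : B) * ψ (formOrbit a (X m)) = (fct m.1 : B) * coeff m.1 (act M F) := by
    intro m
    have h1 : pair F (subst (fun i l => M l i) (MvPolynomial.map (algebraMap k B) (monomial m.1 1))) =
        (fct m.1 : B) * coeff m.1 (act M F) := by
      rw [pair_subst, map_monomial, map_one, pair, ofVals_monomial, one_mul]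
      rfl
    rw [← h1]
    have h2 : subst (fun i l => M l i) (MvPolynomial.map (algebraMap k B) (monomial m.1 1)) =
        ∑ l : CoordGrp.FormIdx n d, monomial l.1 (f (CoordGrp.formCoeff k n d l m)) := by
      rw [← hkey, CoordGrp.stdCoactAlg_monomial_expand d m]
      simp [bc, mul_comm _ (C _), C_mul_monomial]
    rw [h2, map_sum, formOrbit_X, map_sum, Finset.mul_sum]
    refine Finset.sum_congr rfl fun l _ => ?_
    rw [pair, ofVals_monomial, hF, coeff_map, ← map_natCast (algebraMap k B) (fct l.1), ← map_mul, fct_mul_coeff,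
      map_mul, map_natCast, map_smul, Algebra.smul_def]
    show _ * (_ * f _) = _
    ring
  have hu : ∀ m : CoordGrp.FormIdx n d, IsUnit ((fct m.1 : ℕ) : B) := fun m => by
    rw [← map_natCast (algebraMap k B)]
    refine (Ne.isUnit ?_).map _
    intro h0
    exact hd (by rw [← fct_mul_multinomial m, Nat.cast_mul, h0, zero_mul])
  ext m
  by_cases hm : m.degree = d
  · have := fct_mul_coeff (R := B) (fun m => ψ (formOrbit a (X m))) ⟨m, hm⟩
    rw [hmain ⟨m, hm⟩] at this
    exact (hu ⟨m, hm⟩).mul_left_cancel this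
  · rw [(formPoly_isHomogeneous _).coeff_eq_zero hm, hhom.coeff_eq_zero hm]

theorem multinomial_ne_zero (hd : (d.factorial : k) ≠ 0) (m : CoordGrp.FormIdx n d) :
    (m.1.multinomial : k) ≠ 0 :=
  fun h0 => hd (by rw [← fct_mul_multinomial m, Nat.cast_mul, h0, mul_zero])

theorem formPoly_injective' (hd : (d.factorial : k) ≠ 0) :
    Function.Injective (CoordGrp.formPoly : (CoordGrp.FormIdx n d → k) → MvPolynomial (Fin n) k) := fun a b h =>
  funext fun m => by
    have := fct_mul_coeff a m
    rw [h, fct_mul_coeff] at this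
    exact (mul_left_cancel₀ hd this).symm

theorem formPoly_moved [CharZero k] (a : CoordGrp.FormIdx n d → k) (ψ : CoordGrp.SLn n k →ₐ[k] B) :
    CoordGrp.formPoly (fun m => ψ (formOrbit a (X m))) =
      act (Matrix.of fun i j => ψ (CoordGrp.SLn.X i j))
        (MvPolynomial.map (algebraMap k B) (CoordGrp.formPoly a)) :=
  formPoly_moved' (Nat.cast_ne_zero.2 (Nat.factorial_ne_zero d)) a ψ

theorem formPoly_injective [CharZero k] :
    Function.Injective (CoordGrp.formPoly : (CoordGrp.FormIdx n d → k) → MvPolynomial (Fin n) k) := fun a b h =>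
  funext fun m => by
    have := fct_mul_coeff a m
    rw [h, fct_mul_coeff] at this
    exact (mul_left_cancel₀ (Nat.cast_ne_zero.2 (Nat.factorial_ne_zero d)) this).symm

theorem map_act {C : Type u} [CommRing C] (g : B →+* C) (M : Matrix (Fin n) (Fin n) B) (P : MvPolynomial (Fin n) B) :
    MvPolynomial.map g (act M P) = act (M.map g) (MvPolynomial.map g P) := by
  induction P using MvPolynomial.induction_on with
  | C c => simp [act, subst]
  | add p q hp hq => simp only [map_add, hp, hq]
  | mul_X p i hp =>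
    simp only [map_mul, hp, map_X]
    congr 1
    simp [act, subst]

theorem act_act (M N : Matrix (Fin n) (Fin n) B) (P : MvPolynomial (Fin n) B) :
    act N (act M P) = act (M * N) P := by
  rw [← AlgHom.comp_apply]
  refine DFunLike.congr_fun (MvPolynomial.algHom_ext fun i => ?_) P
  simp only [act, subst, AlgHom.comp_apply, aeval_X, map_sum, map_mul, aeval_C, MvPolynomial.algebraMap_eq,
    Matrix.mul_apply, Finset.sum_mul, Finset.mul_sum]
  rw [Finset.sum_comm]
  exact Finset.sum_congr rfl fun l _ => Finset.sum_congr rfl fun j _ => by ring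

theorem act_one (P : MvPolynomial (Fin n) B) : act (1 : Matrix (Fin n) (Fin n) B) P = P := by
  refine DFunLike.congr_fun (MvPolynomial.algHom_ext (g := AlgHom.id B _) fun i => ?_) P
  simp [act, subst, Matrix.one_apply, Finset.sum_ite_eq]

end Groth.Agent.GITLib
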