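import Groth.Prelude.Def_GLin
import Mathlib

/-! Semistable and stable vectors for diagonal actions of the multiplicative group. -/

set_option autoImplicit false
universe u

open TensorProduct LaurentPolynomial

noncomputable section

namespace Groth.Agent.GITLib

set_option backward.isDefEq.respectTransparency false

variable {k : Type u} [Field k] {ι : Type u} [Fintype ι]
  [HopfRep.Comod k k[T;T⁻¹] (MvPolynomial ι k)] [GLin.IsCoactAlg k k[T;T⁻¹] (MvPolynomial ι k)]

variable {r : ι → ℤ}

/-- The weight of a monomial. -/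
def wt (r : ι → ℤ) (d : ι →₀ ℕ) : ℤ := ∑ i, (d i : ℤ) * r i

variable (hr : ∀ i : ι, HopfRep.Comod.coact (k := k) (A := k[T;T⁻¹]) (MvPolynomial.X i : MvPolynomial ι k) =
      (MvPolynomial.X i : MvPolynomial ι k) ⊗ₜ[k] (T (r i) : k[T;T⁻¹]))
include hr

theorem coact_monomial (d : ι →₀ ℕ) (c : k) :
    HopfRep.Comod.coact (k := k) (A := k[T;T⁻¹]) (MvPolynomial.monomial d c) =
      MvPolynomial.monomial d c ⊗ₜ[k] (T (wt r d) : k[T;T⁻¹]) := by
  classical
  rw [show MvPolynomial.monomial d c = c • MvPolynomial.monomial d (1 : k) by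
    rw [MvPolynomial.smul_monomial, smul_eq_mul, mul_one], map_smul, ← TensorProduct.smul_tmul']
  congr 1
  induction d using Finsupp.induction with
  | zero =>
    rw [show MvPolynomial.monomial 0 (1 : k) = (1 : MvPolynomial ι k) from rfl, GLin.IsCoactAlg.coact_one]
    simp [wt, Algebra.TensorProduct.one_def]
  | single_add i n d _ _ ih =>
    have h1 : MvPolynomial.monomial (Finsupp.single i n + d) (1 : k) =
        MvPolynomial.X i ^ n * MvPolynomial.monomial d 1 := by
      rw [MvPolynomial.X_pow_eq_monomial, MvPolynomial.monomial_mul, one_mul]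
    have h2 : wt r (Finsupp.single i n + d) = n * r i + wt r d := by
      simp only [wt, Finsupp.add_apply, Nat.cast_add, add_mul, Finset.sum_add_distrib]
      congr 1
      rw [Finset.sum_eq_single i]
      · simp
      · intro j _ hj; simp [hj.symm]
      · simp
    rw [h1, h2, GLin.IsCoactAlg.coact_mul, ih, ← GLin.coactAlgHom_apply, map_pow, GLin.coactAlgHom_apply,
      hr, Algebra.TensorProduct.tmul_pow, Algebra.TensorProduct.tmul_mul_tmul, T_pow, T_add]

theorem invariant_monomial {d : ι →₀ ℕ} (hd : wt r d = 0) :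
    MvPolynomial.monomial d (1 : k) ∈ GLin.invariants k k[T;T⁻¹] (MvPolynomial ι k) := by
  rw [GLin.mem_invariants_iff, coact_monomial hr, hd, T_zero]

theorem wt_of_invariant {F : MvPolynomial ι k} (hF : F ∈ GLin.invariants k k[T;T⁻¹] (MvPolynomial ι k))
    {d : ι →₀ ℕ} (hd : d ∈ F.support) : wt r d = 0 := by
  classical
  let φ : MvPolynomial ι k ⊗[k] k[T;T⁻¹] →ₗ[k] k[T;T⁻¹] :=
    (TensorProduct.lid k k[T;T⁻¹]).toLinearMap ∘ₗ LinearMap.rTensor _ (MvPolynomial.lcoeff k d)
  have h1 := congrArg φ ((GLin.mem_invariants_iff _ _ _ F).1 hF)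
  conv_lhs at h1 => rw [F.as_sum]
  rw [map_sum, map_sum, Finset.sum_congr rfl (fun e _ => by rw [coact_monomial hr])] at h1
  simp only [φ, LinearMap.comp_apply, LinearEquiv.coe_coe, LinearMap.rTensor_tmul, MvPolynomial.lcoeff_apply,
    TensorProduct.lid_tmul, MvPolynomial.coeff_monomial] at h1
  rw [Finset.sum_eq_single d (fun e _ he => by simp [he]) (fun h => absurd hd h), if_pos rfl] at h1
  by_contra hne
  have h2 : (T (wt r d) : k[T;T⁻¹]) = 1 :=
    smul_right_injective _ (MvPolynomial.mem_support_iff.1 hd) h1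
  rw [← T_zero] at h2
  exact hne (AddMonoidAlgebra.single_left_injective one_ne_zero h2)

theorem semistable_iff (v : ι → k) :
    GLin.IsSemistableVec k k[T;T⁻¹] v ↔ ∃ i j : ι, v i ≠ 0 ∧ v j ≠ 0 ∧ r i ≤ 0 ∧ 0 ≤ r j := by
  classical
  constructor
  · intro hss
    simp only [GLin.IsSemistableVec, GLin.IsNullform, not_forall] at hss
    obtain ⟨F, hF, n, hn, hhom, hev⟩ := hss
    obtain ⟨d, hd, hdv⟩ : ∃ d ∈ F.support, MvPolynomial.coeff d F * d.prod (fun i e => v i ^ e) ≠ 0 := by
      refine Finset.exists_ne_zero_of_sum_ne_zero ?_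
      rwa [MvPolynomial.eval_eq] at hev
    have hv : ∀ i, d i ≠ 0 → v i ≠ 0 := fun i hi h0 => right_ne_zero_of_mul hdv
      (Finset.prod_eq_zero (Finsupp.mem_support_iff.2 hi) (by simp [h0, zero_pow hi]))
    have hw := wt_of_invariant hr hF hd
    obtain ⟨i₀, hi₀⟩ : ∃ i, d i ≠ 0 := by
      by_contra hno
      push Not at hno
      rw [show d = 0 from Finsupp.ext hno] at hd
      exact MvPolynomial.mem_support_iff.1 hd (hhom.coeff_eq_zero (by simpa using hn.ne))
    have hle : ∃ i, d i ≠ 0 ∧ r i ≤ 0 := by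
      by_contra hno
      push Not at hno
      refine (ne_of_gt ?_) hw
      refine Finset.sum_pos' (fun i _ => ?_) ⟨i₀, Finset.mem_univ _, ?_⟩
      · rcases eq_or_ne (d i) 0 with h | h
        · simp [h]
        · exact mul_nonneg (by positivity) (hno i h).le
      · exact mul_pos (by positivity) (hno i₀ hi₀)
    have hge : ∃ i, d i ≠ 0 ∧ 0 ≤ r i := by
      by_contra hno
      push Not at hno
      refine (ne_of_lt ?_) hw
      refine Finset.sum_neg' (fun i _ => ?_) ⟨i₀, Finset.mem_univ _, ?_⟩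
      · rcases eq_or_ne (d i) 0 with h | h
        · simp [h]
        · exact mul_nonpos_of_nonneg_of_nonpos (by positivity) (hno i h).le
      · exact mul_neg_of_pos_of_neg (by positivity) (hno i₀ hi₀)
    obtain ⟨i, hi, hri⟩ := hle
    obtain ⟨j, hj, hrj⟩ := hge
    exact ⟨i, j, hv i hi, hv j hj, hri, hrj⟩
  · rintro ⟨i, j, hi, hj, hri, hrj⟩
    obtain ⟨d, hdw, hd0, hdv⟩ : ∃ d : ι →₀ ℕ, wt r d = 0 ∧ d ≠ 0 ∧ ∀ l, d l ≠ 0 → v l ≠ 0 := by
      rcases eq_or_lt_of_le hri with h0 | hlt
      · refine ⟨Finsupp.single i 1, ?_, Finsupp.single_ne_zero.2 one_ne_zero, fun l hl => ?_⟩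
        · rw [wt, Finset.sum_eq_single i]
          · simp [h0]
          · intro l _ hl; simp [hl.symm]
          · simp
        · rwa [show l = i by by_contra h; simp [Ne.symm h] at hl]
      · refine ⟨Finsupp.single i (r j).toNat + Finsupp.single j (-r i).toNat, ?_, fun h => ?_, fun l hl => ?_⟩
        · simp only [wt, Finsupp.add_apply, Nat.cast_add, add_mul, Finset.sum_add_distrib]
          rw [Finset.sum_eq_single i, Finset.sum_eq_single j]
          · simp only [Finsupp.single_eq_same, Int.toNat_of_nonneg hrj, Int.toNat_of_nonneg (show 0 ≤ -r i by omega)]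
            ring
          all_goals intro l; intros; simp_all [eq_comm]
        · have := DFunLike.congr_fun h j
          simp only [Finsupp.add_apply, Finsupp.single_eq_same, Finsupp.zero_apply] at this
          omega
        · by_contra h0
          have h1 : i ≠ l := fun h => hi (h ▸ h0)
          have h2 : j ≠ l := fun h => hj (h ▸ h0)
          simp [h1, h2] at hl
    intro hnull
    refine absurd (hnull _ (invariant_monomial hr hdw) d.degree
      (Nat.pos_of_ne_zero fun h => hd0 ((Finsupp.degree_eq_zero_iff d).1 h))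
      (MvPolynomial.isHomogeneous_monomial 1 rfl)) ?_
    rw [MvPolynomial.eval_monomial, one_mul]
    exact Finset.prod_ne_zero_iff.2 fun l hl => pow_ne_zero _ (hdv l (Finsupp.mem_support_iff.1 hl))

theorem orbitHom_X (v : ι → k) (i : ι) :
    GLin.orbitHom k k[T;T⁻¹] (GLin.vecPt k ι v) (MvPolynomial.X i) = C (v i) * T (r i) := by
  simp only [GLin.orbitHom, AlgHom.comp_apply, GLin.coactAlgHom_apply, hr]
  simp [LaurentPolynomial.smul_eq_C_mul]

theorem not_stable_of_sign (v : ι → k) (s : ℤ) (hs : s = 1 ∨ s = -1) (h : ∀ i, v i ≠ 0 → 0 ≤ s * r i) :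
    ¬ GLin.IsStableVec k k[T;T⁻¹] v := by
  classical
  rintro ⟨hclosed, hfin⟩
  set φ := GLin.orbitHom k k[T;T⁻¹] (GLin.vecPt k ι v) with hφ
  by_cases hall : ∀ i, v i ≠ 0 → r i = 0
  · have hfix : φ = (Algebra.ofId k k[T;T⁻¹]).comp (GLin.vecPt k ι v) := MvPolynomial.algHom_ext fun i => by
      rw [orbitHom_X hr, AlgHom.comp_apply, MvPolynomial.aeval_X, Algebra.ofId_apply, ← C_eq_algebraMap]
      rcases eq_or_ne (v i) 0 with h0 | h0
      · simp [h0]
      · rw [hall i h0, T_zero, mul_one]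
    have hI : GLin.stabIdeal k k[T;T⁻¹] (GLin.vecPt k ι v) = ⊥ := by
      refine le_bot_iff.1 (Ideal.map_le_iff_le_comap.2 fun f hf => ?_)
      rw [Ideal.mem_comap, Ideal.mem_bot, ← hφ, hfix, AlgHom.comp_apply, RingHom.mem_ker.1 hf, map_zero]
    rw [GLin.HasFiniteStab, hI] at hfin
    haveI : Module.Finite k (k[T;T⁻¹] ⧸ (⊥ : Ideal k[T;T⁻¹])) := hfin
    haveI : Module.Finite k k[T;T⁻¹] := Module.Finite.equiv (AlgEquiv.quotientBot k k[T;T⁻¹]).toLinearEquiv
    exact Cardinal.aleph0_le_mk ℤ |>.not_gt ((AddMonoidAlgebra.basis ℤ k).linearIndependent.lt_aleph0_of_finite)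
  · push Not at hall
    obtain ⟨i₀, hi₀, hri₀⟩ := hall
    set y : ι → k := fun i => if r i = 0 then v i else 0 with hy
    obtain ⟨σ, hσ, hσT⟩ : ∃ σ : Polynomial k →ₐ[k] k[T;T⁻¹], Function.Injective σ ∧
        ∀ n : ℕ, ∀ c : k, σ (Polynomial.C c * Polynomial.X ^ n) = C c * T (s * n) := by
      rcases hs with rfl | rfl
      · exact ⟨Polynomial.toLaurentAlg, Polynomial.toLaurent_injective, fun n c => by
          rw [Polynomial.toLaurentAlg_apply, Polynomial.toLaurent_C_mul_X_pow, one_mul]⟩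
      · refine ⟨(invert (R := k)).toAlgHom.comp Polynomial.toLaurentAlg,
          invert.injective.comp Polynomial.toLaurent_injective, fun n c => ?_⟩
        rw [AlgHom.comp_apply, Polynomial.toLaurentAlg_apply, Polynomial.toLaurent_C_mul_X_pow]
        simp
    let g : MvPolynomial ι k →ₐ[k] Polynomial k :=
      MvPolynomial.aeval fun i => Polynomial.C (v i) * Polynomial.X ^ (s * r i).toNat
    have hg : σ.comp g = φ := MvPolynomial.algHom_ext fun i => by
      rw [AlgHom.comp_apply, MvPolynomial.aeval_X, hσT, orbitHom_X hr]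
      rcases eq_or_ne (v i) 0 with h0 | h0
      · simp [h0]
      · rw [Int.toNat_of_nonneg (h i h0), ← mul_assoc, show s * s = 1 by rcases hs with rfl | rfl <;> rfl, one_mul]
    have hgy : (Polynomial.aeval (0 : k)).comp g = GLin.vecPt k ι y := MvPolynomial.algHom_ext fun i => by
      rw [AlgHom.comp_apply, MvPolynomial.aeval_X, MvPolynomial.aeval_X]
      rcases eq_or_ne (v i) 0 with h0 | h0
      · simp [h0, hy]
      have := h i h0
      by_cases hr0 : r i = 0
      · simp [hy, hr0]
      · have hne : (s * r i).toNat ≠ 0 := by rcases hs with rfl | rfl <;> omega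
        simp [hy, hr0, zero_pow hne]
    have hker : RingHom.ker φ.toRingHom ≤ RingHom.ker (GLin.vecPt k ι y).toRingHom := fun f hf => by
      have h1 : g f = 0 := hσ (by rw [map_zero, ← AlgHom.comp_apply, hg]; exact hf)
      simp [RingHom.mem_ker, ← hgy, h1]
    let P : PrimeSpectrum (MvPolynomial ι k) :=
      ⟨RingHom.ker (GLin.vecPt k ι y).toRingHom, RingHom.ker_isPrime _⟩
    have hP : P ∈ Set.range (PrimeSpectrum.comap φ.toRingHom) := by
      rw [← hclosed.closure_eq, PrimeSpectrum.closure_range_comap]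
      exact hker
    obtain ⟨p, hp⟩ := hP
    have hX : MvPolynomial.X i₀ ∈ P.asIdeal := by simp [P, RingHom.mem_ker, hy, hri₀]
    rw [← hp, PrimeSpectrum.comap_asIdeal, Ideal.mem_comap] at hX
    refine p.isPrime.ne_top (Ideal.eq_top_of_isUnit_mem _ hX ?_)
    show IsUnit (φ (MvPolynomial.X i₀))
    rw [orbitHom_X hr]
    exact ((Ne.isUnit hi₀).map _).mul (isUnit_T _)

theorem stable_of_mixed (v : ι → k) {i j : ι} (hi : v i ≠ 0) (hj : v j ≠ 0) (hri : r i < 0) (hrj : 0 < r j) :
    GLin.IsStableVec k k[T;T⁻¹] v := by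
  classical
  set φ := GLin.orbitHom k k[T;T⁻¹] (GLin.vecPt k ι v) with hφ
  have hint : φ.toRingHom.IsIntegral := by
    have hpow : ∀ (l : ι) (n : ℕ) (c : ℤ), v l ≠ 0 → 0 < n → c * n = r l →
        φ.toRingHom.IsIntegralElem (T c : k[T;T⁻¹]) := by
      intro l n c hl hn hc
      refine ⟨Polynomial.X ^ n - Polynomial.C ((v l)⁻¹ • MvPolynomial.X l),
        Polynomial.monic_X_pow_sub_C _ hn.ne', ?_⟩
      simp only [Polynomial.eval₂_sub, Polynomial.eval₂_X_pow, Polynomial.eval₂_C, AlgHom.toRingHom_eq_coe,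
        RingHom.coe_coe, map_smul, orbitHom_X hr, hφ]
      rw [T_pow, mul_comm, hc, LaurentPolynomial.smul_eq_C_mul, ← mul_assoc, ← map_mul, inv_mul_cancel₀ hl,
        map_one, one_mul, sub_self]
    have h1 := hpow j (r j).toNat 1 hj (by omega) (by omega)
    have h2 := hpow i (-r i).toNat (-1) hi (by omega) (by omega)
    intro f
    induction f using LaurentPolynomial.induction_on with
    | h_C a =>
      have : φ.toRingHom (MvPolynomial.C a) = C a := by
        show φ (MvPolynomial.C a) = C a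
        rw [← MvPolynomial.algebraMap_eq, AlgHom.commutes, C_eq_algebraMap]
      rw [← this]; exact RingHom.isIntegralElem_map _
    | h_add hp hq => exact RingHom.IsIntegralElem.add _ hp hq
    | h_C_mul_T n a hn =>
      rw [show (n + 1 : ℤ) = n + 1 from rfl, T_add, ← mul_assoc]
      exact RingHom.IsIntegralElem.mul _ hn h1
    | h_C_mul_T_Z n a hn =>
      rw [show (-(n : ℤ) - 1) = -n + -1 by ring, T_add, ← mul_assoc]
      exact RingHom.IsIntegralElem.mul _ hn h2
  refine ⟨(PrimeSpectrum.isClosedMap_comap_of_isIntegral _ hint).isClosed_range, ?_⟩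
  have hft : φ.toRingHom.FiniteType := by
    refine RingHom.FiniteType.of_comp_finiteType (f := algebraMap k (MvPolynomial ι k)) ?_
    rw [show φ.toRingHom.comp (algebraMap k (MvPolynomial ι k)) = algebraMap k k[T;T⁻¹] from φ.comp_algebraMap]
    exact RingHom.finiteType_algebraMap.2 inferInstance
  have hfin : φ.toRingHom.Finite := RingHom.Finite.of_isIntegral_of_finiteType hint hft
  show Module.Finite k (k[T;T⁻¹] ⧸ Ideal.map φ (RingHom.ker (GLin.vecPt k ι v)))
  set P := RingHom.ker (GLin.vecPt k ι v)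
  haveI : Module.Finite k (MvPolynomial ι k ⧸ P) := Module.Finite.equiv
    (Ideal.quotientKerAlgEquivOfSurjective (f := GLin.vecPt k ι v)
      (fun c => ⟨MvPolynomial.C c, by simp⟩)).toLinearEquiv.symm
  let ψ : MvPolynomial ι k ⧸ P →ₐ[k] k[T;T⁻¹] ⧸ Ideal.map φ P :=
    Ideal.quotientMapₐ _ φ Ideal.le_comap_map
  have hψ : ψ.toRingHom.Finite := by
    refine RingHom.Finite.of_comp_finite (f := Ideal.Quotient.mk P) ?_
    rw [show ψ.toRingHom.comp (Ideal.Quotient.mk P) = (Ideal.Quotient.mk _).comp φ.toRingHom from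
      RingHom.ext fun _ => rfl]
    exact (RingHom.Finite.of_surjective _ Ideal.Quotient.mk_surjective).comp hfin
  refine RingHom.finite_algebraMap.1 ?_
  rw [← ψ.comp_algebraMap]
  exact hψ.comp (RingHom.finite_algebraMap.2 inferInstance)

theorem stable_iff (v : ι → k) :
    GLin.IsStableVec k k[T;T⁻¹] v ↔ ∃ i j : ι, v i ≠ 0 ∧ v j ≠ 0 ∧ r i < 0 ∧ 0 < r j := by
  refine ⟨fun hst => ?_, fun ⟨i, j, hi, hj, hri, hrj⟩ => stable_of_mixed hr v hi hj hri hrj⟩
  by_contra hno
  push Not at hno
  rcases em (∃ i, v i ≠ 0 ∧ r i < 0) with ⟨i, hi, hri⟩ | hn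
  · refine not_stable_of_sign hr v (-1) (Or.inr rfl) (fun l hl => ?_) hst
    have := hno i l hi hl hri
    omega
  · push Not at hn
    exact not_stable_of_sign hr v 1 (Or.inl rfl) (fun l hl => by have := hn l hl; omega) hst

end Groth.Agent.GITLib
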