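import Groth.Agent.GITLib.FormsPt
import Groth.Agent.Comodule.ClosedOrbit
import Groth.Agent.Comodule.HilbertFG
import Groth.Agent.S11796
import Groth.Agent.S11804

/-! The Hilbert–Mumford criterion for forms under SL_n. -/

set_option autoImplicit false
universe u

open TensorProduct MvPolynomial

noncomputable section

namespace Groth.Agent.GITLib

set_option backward.isDefEq.respectTransparency false

variable {k : Type u} [Field k] {n d : ℕ}

/-- The weight of an exponent vector. -/
def ewt (r : Fin n → ℤ) (e : Fin n →₀ ℕ) : ℤ := ∑ i, (e i : ℤ) * r i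

/-- A one-parameter subgroup with all weights of the form non-negative. -/
def NonnegData (F : MvPolynomial (Fin n) k) : Prop :=
  ∃ (g : Matrix (Fin n) (Fin n) k) (r : Fin n → ℤ), g.det = 1 ∧ ∑ i, r i = 0 ∧ r ≠ 0 ∧
    ∀ e, coeff e (act g F) ≠ 0 → 0 ≤ ewt r e

/-- A one-parameter subgroup with all weights of the form positive. -/
def PosData (F : MvPolynomial (Fin n) k) : Prop :=
  ∃ (g : Matrix (Fin n) (Fin n) k) (r : Fin n → ℤ), g.det = 1 ∧ ∑ i, r i = 0 ∧
    ∀ e, coeff e (act g F) ≠ 0 → 0 < ewt r e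

theorem mk_eq_X_or_one (z : CoordGrp.GLPoly.Idx n) :
    CoordGrp.SLn.mk n k (mkP n k (MvPolynomial.X z)) = 1 ∨
      ∃ i j, CoordGrp.SLn.mk n k (mkP n k (MvPolynomial.X z)) = CoordGrp.SLn.X i j := by
  rcases z with ⟨i, j⟩ | ⟨⟩
  · exact Or.inr ⟨i, j, rfl⟩
  · refine Or.inl ?_
    have := congrArg (CoordGrp.SLn.mk n k) (CoordGrp.GLn.det_mul_Dinv (n := n) (k := k))
    rw [map_mul, map_one, CoordGrp.SLn.det_eq_one, one_mul] at this
    rw [mkP_X_inr, this]

theorem finiteType_SL : Algebra.FiniteType k (CoordGrp.SLn n k) :=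
  Algebra.FiniteType.of_surjective ((CoordGrp.SLn.mk n k).comp (mkP n k))
    (Ideal.Quotient.mk_surjective.comp mkP_surjective)

theorem det_pt {B : Type u} [CommRing B] [Algebra k B] (ψ : CoordGrp.SLn n k →ₐ[k] B) :
    (Matrix.of fun i j => ψ (CoordGrp.SLn.X i j)).det = 1 := by
  have h : (CoordGrp.SLn.mk n k).comp (CoordGrp.GLn.mk n k) (CoordGrp.GLb.det n k) = 1 := CoordGrp.SLn.det_eq_one
  rw [← map_one ψ, ← h, CoordGrp.GLb.det, AlgHom.map_det, AlgHom.map_det]
  rfl

theorem coeff_act_diagonal {B : Type u} [CommRing B] (D : Fin n → B) (P : MvPolynomial (Fin n) B)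
    (e : Fin n →₀ ℕ) : coeff e (act (Matrix.diagonal D) P) = coeff e P * ∏ i, D i ^ e i := by
  classical
  induction P using MvPolynomial.induction_on' with
  | monomial e' c =>
    have h : act (Matrix.diagonal D) (monomial e' c) = monomial e' (c * ∏ i, D i ^ e' i) := by
      rw [act, subst, aeval_monomial, Finsupp.prod_fintype _ _ (fun i => by simp), MvPolynomial.algebraMap_eq]
      conv_rhs => rw [monomial_eq, C_mul, map_prod, Finsupp.prod_fintype _ _ (fun i => by simp), mul_assoc,
        ← Finset.prod_mul_distrib]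
      congr 1
      refine Finset.prod_congr rfl fun i _ => ?_
      rw [Finset.sum_eq_single i (fun j _ hj => by simp [Matrix.diagonal_apply_ne _ hj.symm]) (by simp),
        Matrix.diagonal_apply_eq, mul_pow, map_pow]
    rw [h, coeff_monomial, coeff_monomial]
    split_ifs with he
    · rw [he]
    · rw [zero_mul]
  | add p q hp hq => simp only [map_add, coeff_add, hp, hq, add_mul]

theorem map_adjugate_mul {R : Type u} [CommRing R] (g : R →+* R) (A : Matrix (Fin n) (Fin n) R) (hA : A.det = 1) :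
    A * A.adjugate = 1 := by
  rw [Matrix.mul_adjugate, hA, one_smul]

section Place

variable [IsAlgClosed k]

/-- From a valuation ring to a destabilising one-parameter subgroup over `k`. -/
theorem exists_data_of_valuation (a : CoordGrp.FormIdx n d → k) {K : Type u} [Field K] [Algebra k K]
    (V : ValuationSubring K) (hk : ∀ x : k, algebraMap k K x ∈ V) (M : Matrix (Fin n) (Fin n) K) (hM : M.det = 1)
    (hint : ∀ e, coeff e (act M (MvPolynomial.map (algebraMap k K) (CoordGrp.formPoly a))) ∈ V) :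
    ((∃ i j, M i j ∉ V) → NonnegData (CoordGrp.formPoly a)) ∧
      ((∀ e, V.valuation (coeff e (act M (MvPolynomial.map (algebraMap k K) (CoordGrp.formPoly a)))) < 1) →
        PosData (CoordGrp.formPoly a)) := by
  classical
  set F := CoordGrp.formPoly a with hFdef
  obtain ⟨A, B, D, hA, hB, hMeq⟩ := Groth.Agent.S11796.result V K n M
  rw [show algebraMap V K = V.subtype from rfl] at hMeq
  let incl : k →+* V := (algebraMap k K).codRestrict V.toSubring hk
  have hincl : V.subtype.comp incl = algebraMap k K := RingHom.ext fun _ => rfl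
  set F₀ := act A (MvPolynomial.map incl F) with hF₀
  have hFK : MvPolynomial.map (algebraMap k K) F = MvPolynomial.map V.subtype (MvPolynomial.map incl F) := by
    rw [MvPolynomial.map_map, hincl]
  have hmid : ∀ e, coeff e (act (A.map V.subtype * Matrix.diagonal D) (MvPolynomial.map (algebraMap k K) F)) =
      V.subtype (coeff e F₀) * ∏ i, D i ^ e i := fun e => by
    rw [← act_act, hFK, ← map_act, coeff_act_diagonal, coeff_map]
  set G := act M (MvPolynomial.map (algebraMap k K) F) with hG
  obtain ⟨G₀, hG₀⟩ : ∃ G₀ : MvPolynomial (Fin n) V, MvPolynomial.map V.subtype G₀ = G := by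
    refine ⟨∑ e ∈ G.support, monomial e ⟨coeff e G, hint e⟩, ?_⟩
    rw [map_sum]
    simp only [map_monomial]
    exact G.as_sum.symm
  have hback : act (A.map V.subtype * Matrix.diagonal D) (MvPolynomial.map (algebraMap k K) F) =
      MvPolynomial.map V.subtype (act B.adjugate G₀) := by
    have hBB : B * B.adjugate = 1 := by rw [Matrix.mul_adjugate, hB, one_smul]
    rw [map_act, hG₀, hG, act_act, hMeq, Matrix.mul_assoc, Matrix.mul_assoc, ← Matrix.map_mul, hBB,
      Matrix.map_one _ (map_zero _) (map_one _), mul_one]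
  have hv : ∀ e, V.valuation (V.subtype (coeff e F₀) * ∏ i, D i ^ e i) ≤ 1 := fun e => by
    rw [← hmid, hback, coeff_map]
    exact (V.valuation_le_one_iff _).2 (coeff e (act B.adjugate G₀)).2
  have hDprod : ∏ i, D i = 1 := by
    have := congrArg Matrix.det hMeq
    rw [hM, Matrix.det_mul, Matrix.det_mul, Matrix.det_diagonal] at this
    rw [show (A.map V.subtype).det = 1 by rw [← RingHom.mapMatrix_apply, ← RingHom.map_det, hA, map_one],
      show (B.map V.subtype).det = 1 by rw [← RingHom.mapMatrix_apply, ← RingHom.map_det, hB, map_one],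
      one_mul, mul_one] at this
    exact this.symm
  have hD0 : ∀ i, V.valuation (D i) ≠ 0 := fun i => (Valuation.ne_zero_iff _).2 fun h0 => one_ne_zero <|
    hDprod.symm.trans (Finset.prod_eq_zero (Finset.mem_univ i) h0)
  let χ : Fin n → Additive V.ValueGroupˣ := fun i => Additive.ofMul (Units.mk0 _ (hD0 i))
  obtain ⟨r, hr⟩ := Groth.Agent.S11804.result (Additive V.ValueGroupˣ) n χ
    ((Finset.univ.image fun (e : CoordGrp.FormIdx n d) (i : Fin n) => (e.1 i : ℤ)) ∪
      {fun _ => 1} ∪ Finset.univ.image fun i : Fin n => Pi.single i (1 : ℤ))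
  have hval : ∀ e : Fin n →₀ ℕ, (Additive.toMul (∑ i, (e i : ℤ) • χ i) : V.ValueGroupˣ).1 =
      V.valuation (∏ i, D i ^ e i) := fun e => by
    simp [χ, map_prod]
  have hpos : ∀ e : CoordGrp.FormIdx n d, 1 < V.valuation (∏ i, D i ^ e.1 i) ↔ 0 < ewt r e.1 := fun e => by
    rw [ewt, ← (hr _ (Finset.mem_union_left _ (Finset.mem_union_left _
      (Finset.mem_image.2 ⟨e, Finset.mem_univ _, rfl⟩)))).1, ← hval]
    exact Iff.rfl
  have hzero : ∀ e : CoordGrp.FormIdx n d, V.valuation (∏ i, D i ^ e.1 i) = 1 ↔ ewt r e.1 = 0 := fun e => by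
    rw [ewt, ← (hr _ (Finset.mem_union_left _ (Finset.mem_union_left _
      (Finset.mem_image.2 ⟨e, Finset.mem_univ _, rfl⟩)))).2, ← hval]
    exact Units.val_eq_one.trans toMul_eq_one
  have hsum : ∑ i, r i = 0 := by
    have h1 := (hr (fun _ => (1 : ℤ)) (Finset.mem_union_left _ (Finset.mem_union_right _
      (Finset.mem_singleton_self _)))).2
    simp only [one_mul] at h1
    refine h1.1 ?_
    refine toMul_eq_one.1 (Units.ext ?_)
    simp [χ, ← map_prod, hDprod]
  -- the residual form
  let res : k →+* IsLocalRing.ResidueField V := (IsLocalRing.residue V).comp incl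
  letI : Algebra k (IsLocalRing.ResidueField V) := res.toAlgebra
  set hbar := A.map (IsLocalRing.residue V) with hhbar
  have hbar_coeff : ∀ e, coeff e (act hbar (MvPolynomial.map res F)) = IsLocalRing.residue V (coeff e F₀) := fun e => by
    rw [← coeff_map, hF₀, map_act, MvPolynomial.map_map]
  have descend : ∀ Bad : (Fin n →₀ ℕ) → Prop, (∀ e, Bad e → IsLocalRing.residue V (coeff e F₀) = 0) →
      ∃ g : Matrix (Fin n) (Fin n) k, g.det = 1 ∧ ∀ e, Bad e → coeff e (act g F) = 0 := by
    intro Bad hbad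
    let σ := Fin n × Fin n
    let GM : Matrix (Fin n) (Fin n) (MvPolynomial σ k) := Matrix.mvPolynomialX (Fin n) (Fin n) k
    let J : Ideal (MvPolynomial σ k) := Ideal.span ({GM.det - 1} ∪
      {p | ∃ e, Bad e ∧ p = coeff e (act GM (MvPolynomial.map MvPolynomial.C F))})
    let ev : MvPolynomial σ k →ₐ[k] IsLocalRing.ResidueField V := MvPolynomial.aeval fun p => hbar p.1 p.2
    have hGM : GM.map ev = hbar := by ext i j; simp [GM, ev, Matrix.mvPolynomialX]
    have hJ : J ≠ ⊤ := by
      intro htop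
      have hle : J ≤ RingHom.ker ev := by
        rw [Ideal.span_le]
        rintro p (rfl | ⟨e, he, rfl⟩)
        · rw [SetLike.mem_coe, RingHom.mem_ker, map_sub, map_one, AlgHom.map_det, AlgHom.mapMatrix_apply, hGM,
            hhbar, ← RingHom.mapMatrix_apply, ← RingHom.map_det, hA, map_one, sub_self]
        · rw [SetLike.mem_coe, RingHom.mem_ker]
          show ev.toRingHom _ = 0
          rw [← coeff_map, map_act, MvPolynomial.map_map,
            show ev.toRingHom.comp MvPolynomial.C = res from RingHom.ext fun c => ev.commutes c,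
            show GM.map ev.toRingHom = hbar from hGM, hbar_coeff, hbad e he]
      have := hle (htop ▸ Submodule.mem_top : (1 : MvPolynomial σ k) ∈ J)
      rw [RingHom.mem_ker, map_one] at this
      exact one_ne_zero this
    obtain ⟨pt, hpt⟩ := Comodule.ClosedOrbit.exists_pt (k := k) hJ
    refine ⟨GM.map pt, ?_, fun e he => ?_⟩
    · have h1 : pt (GM.det - 1) = 0 := RingHom.mem_ker.1 (hpt (Ideal.subset_span (Or.inl rfl)))
      rwa [map_sub, map_one, sub_eq_zero, AlgHom.map_det] at h1
    · have h1 : pt.toRingHom (coeff e (act GM (MvPolynomial.map MvPolynomial.C F))) = 0 :=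
        RingHom.mem_ker.1 (hpt (Ideal.subset_span (Or.inr ⟨e, he, rfl⟩)))
      rw [← coeff_map, map_act, MvPolynomial.map_map,
        show pt.toRingHom.comp MvPolynomial.C = RingHom.id k from RingHom.ext fun c => pt.commutes c,
        MvPolynomial.map_id] at h1
      exact h1
  have hresz : ∀ e, V.valuation (V.subtype (coeff e F₀)) < 1 → IsLocalRing.residue V (coeff e F₀) = 0 := fun e he =>
    (IsLocalRing.residue_eq_zero_iff _).2 ((V.valuation_lt_one_iff _).2 he)
  have hdeg : ∀ (g : Matrix (Fin n) (Fin n) k) e, coeff e (act g F) ≠ 0 → e.degree = d := fun g e he => by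
    by_contra h
    exact he ((subst_isHomogeneous _ (formPoly_isHomogeneous a)).coeff_eq_zero h)
  have hneg : ∀ e, ewt (fun i => - r i) e = - ewt r e := fun e => by simp [ewt]
  refine ⟨fun hMV => ?_, fun hlt => ?_⟩
  · obtain ⟨g, hg, hgood⟩ := descend (fun e => e.degree = d ∧ 0 < ewt r e) fun e ⟨hed, he⟩ => by
      refine hresz e ?_
      have h1 := hv e
      have h2 := (hpos ⟨e, hed⟩).2 he
      rw [map_mul] at h1
      by_contra hge
      exact absurd h1 (not_le.2 (lt_of_lt_of_le h2 (le_mul_of_one_le_left' (not_lt.1 hge))))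
    refine ⟨g, fun i => - r i, hg, by simp [hsum], fun hr0 => ?_, fun e he => ?_⟩
    · have h1 : ∀ i, V.valuation (D i) = 1 := fun i => by
        have h := (hr (Pi.single i (1 : ℤ)) (Finset.mem_union_right _ (Finset.mem_image.2 ⟨i, Finset.mem_univ _, rfl⟩))).2
        have hi : r i = 0 := by simpa using congrFun hr0 i
        rw [Finset.sum_eq_single i, Finset.sum_eq_single i] at h
        · simpa [χ, Units.ext_iff] using h.2 (by simp [hi])
        all_goals first | (intro j _ hj; simp [Pi.single_eq_of_ne hj]) | simp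
      obtain ⟨i, j, hij⟩ := hMV
      refine hij ?_
      rw [hMeq, Matrix.mul_apply]
      refine sum_mem fun l _ => ?_
      rw [Matrix.mul_diagonal]
      exact mul_mem (mul_mem (A i l).2 ((V.valuation_le_one_iff _).1 (h1 l).le)) (B l j).2
    · rw [hneg]
      have := mt (fun h => hgood e ⟨hdeg g e he, h⟩) he
      omega
  · obtain ⟨g, hg, hgood⟩ := descend (fun e => e.degree = d ∧ 0 ≤ ewt r e) fun e ⟨hed, he⟩ => by
      refine hresz e ?_
      have h1 : V.valuation (V.subtype (coeff e F₀) * ∏ i, D i ^ e i) < 1 := by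
        rw [← hmid, hback, coeff_map]
        have hG1 : ∀ e, G₀.coeff e ∈ IsLocalRing.maximalIdeal V := fun e => by
          rw [V.valuation_lt_one_iff]
          have := hlt e
          rwa [← hG₀, coeff_map] at this
        have hz : MvPolynomial.map (IsLocalRing.residue V) G₀ = 0 := MvPolynomial.ext _ _ fun e => by
          rw [coeff_map, coeff_zero, IsLocalRing.residue_eq_zero_iff]; exact hG1 e
        refine (V.valuation_lt_one_iff _).1 ((IsLocalRing.residue_eq_zero_iff _).1 ?_)
        rw [← coeff_map, map_act, hz, map_zero, coeff_zero]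
      have h2 : 1 ≤ V.valuation (∏ i, D i ^ e i) := by
        rcases he.lt_or_eq with h | h
        · exact ((hpos ⟨e, hed⟩).2 h).le
        · exact ((hzero ⟨e, hed⟩).2 h.symm).ge
      rw [map_mul] at h1
      exact lt_of_le_of_lt (le_mul_of_one_le_right' h2) h1
    refine ⟨g, fun i => - r i, hg, by simp [hsum], fun e he => ?_⟩
    rw [hneg]
    have := mt (fun h => hgood e ⟨hdeg g e he, h⟩) he
    omega

end Place

/-- Stability of forms, in the orbit morphism. -/
def IsStableForm (a : CoordGrp.FormIdx n d → k) : Prop :=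
  @GLin.IsStableVec k _ (CoordGrp.SLn n k) _ _ (CoordGrp.FormIdx n d) (slForms k n d) (slForms_isCoactAlg k n d) a

/-- Semistability of forms. -/
def IsSemistableForm (a : CoordGrp.FormIdx n d → k) : Prop :=
  @GLin.IsSemistableVec k _ (CoordGrp.SLn n k) _ _ (CoordGrp.FormIdx n d) (slForms k n d) (slForms_isCoactAlg k n d) a

section Criterion

variable [IsAlgClosed k]

theorem coeff_moved_mem (hd : (d.factorial : k) ≠ 0) (a : CoordGrp.FormIdx n d → k) {K : Type u} [Field K]
    [Algebra k K] (V : ValuationSubring K) (hk : ∀ x : k, algebraMap k K x ∈ V) (ψ : CoordGrp.SLn n k →ₐ[k] K)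
    (e : Fin n →₀ ℕ) :
    (∀ (γ : V.ValueGroup), (∀ m, V.valuation (ψ (formOrbit a (X m))) ≤ γ) →
      V.valuation (coeff e (act (Matrix.of fun i j => ψ (CoordGrp.SLn.X i j))
        (MvPolynomial.map (algebraMap k K) (CoordGrp.formPoly a)))) ≤ γ) := by
  intro γ h
  rw [← formPoly_moved' hd a ψ]
  by_cases he : e.degree = d
  · rw [CoordGrp.coeff_formPoly _ ⟨e, he⟩, map_mul]
    refine le_trans (mul_le_of_le_one_left zero_le ?_) (h _)
    rw [V.valuation_le_one_iff, ← map_natCast (algebraMap k K)]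
    exact hk _
  · rw [(formPoly_isHomogeneous _).coeff_eq_zero he, map_zero]
    exact zero_le

theorem isIntegral_of_noData (hd : (d.factorial : k) ≠ 0) {a : CoordGrp.FormIdx n d → k}
    (hno : ¬ NonnegData (CoordGrp.formPoly a)) (i j : Fin n) :
    (formOrbit a).toRingHom.IsIntegralElem (CoordGrp.SLn.X i j) := by
  classical
  set φ := formOrbit a
  by_contra hx
  set x : CoordGrp.SLn n k := CoordGrp.SLn.X i j
  let S : Submonoid (CoordGrp.SLn n k) :=
    { carrier := {y | ∃ p : Polynomial (CoordGrp.FormRing k n d), p.Monic ∧ y = p.eval₂ φ.toRingHom x}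
      one_mem' := ⟨1, Polynomial.monic_one, by simp⟩
      mul_mem' := by
        rintro _ _ ⟨p, hp, rfl⟩ ⟨q, hq, rfl⟩
        exact ⟨p * q, hp.mul hq, by rw [Polynomial.eval₂_mul]⟩ }
  have hdisj : Disjoint ((⊥ : Ideal (CoordGrp.SLn n k)) : Set (CoordGrp.SLn n k)) S := by
    rw [Set.disjoint_left]
    rintro y hy ⟨p, hp, rfl⟩
    exact hx ⟨p, hp, by simpa using hy⟩
  obtain ⟨P, hP, -, hPS⟩ := Ideal.exists_le_prime_disjoint ⊥ S hdisj
  haveI := hP
  let K := FractionRing (CoordGrp.SLn n k ⧸ P)
  let ψ : CoordGrp.SLn n k →ₐ[k] K :=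
    (IsScalarTower.toAlgHom k (CoordGrp.SLn n k ⧸ P) K).comp (Ideal.Quotient.mkₐ k P)
  letI : Algebra (CoordGrp.FormRing k n d) K := (ψ.comp φ).toRingHom.toAlgebra
  have hni : ψ x ∉ (integralClosure (CoordGrp.FormRing k n d) K).toSubring := by
    rintro ⟨p, hp, h0⟩
    refine Set.disjoint_left.1 hPS (show Polynomial.eval₂ φ.toRingHom x p ∈ (P : Set (CoordGrp.SLn n k)) from ?_) ⟨p, hp, rfl⟩
    rw [SetLike.mem_coe, ← Ideal.Quotient.eq_zero_iff_mem]
    refine IsFractionRing.injective (CoordGrp.SLn n k ⧸ P) K ?_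
    rw [map_zero, ← h0]
    exact Polynomial.hom_eval₂ p φ.toRingHom ψ.toRingHom x
  haveI : IsIntegrallyClosedIn (integralClosure (CoordGrp.FormRing k n d) K).toSubring K :=
    inferInstanceAs (IsIntegrallyClosedIn (integralClosure (CoordGrp.FormRing k n d) K) K)
  obtain ⟨V, hRV, hxV⟩ := Subring.exists_le_valuationSubring_of_isIntegrallyClosedIn hni
  have hmem : ∀ r, ψ (φ r) ∈ V := fun r =>
    hRV (Subalgebra.algebraMap_mem (integralClosure (CoordGrp.FormRing k n d) K) r)
  have hk : ∀ t : k, algebraMap k K t ∈ V := fun t => by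
    have := hmem (C t)
    rwa [← MvPolynomial.algebraMap_eq, AlgHom.commutes, AlgHom.commutes] at this
  refine hno ((exists_data_of_valuation a V hk (Matrix.of fun i j => ψ (CoordGrp.SLn.X i j)) (det_pt ψ)
    fun e => ?_).1 ⟨i, j, hxV⟩)
  exact (V.valuation_le_one_iff _).1
    (coeff_moved_mem hd a V hk ψ e 1 fun m => (V.valuation_le_one_iff _).2 (hmem _))

theorem stable_of_noData (hd : (d.factorial : k) ≠ 0) {a : CoordGrp.FormIdx n d → k}
    (hno : ¬ NonnegData (CoordGrp.formPoly a)) : IsStableForm a := by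
  set φ := formOrbit a
  have hint : φ.toRingHom.IsIntegral := by
    intro y
    obtain ⟨z, rfl⟩ : ∃ z, ((CoordGrp.SLn.mk n k).comp (mkP n k)) z = y :=
      (Ideal.Quotient.mk_surjective.comp mkP_surjective) y
    induction z using MvPolynomial.induction_on with
    | C t =>
      rw [← MvPolynomial.algebraMap_eq, AlgHom.commutes, ← φ.commutes t]
      exact RingHom.isIntegralElem_map _
    | add p q hp hq => rw [map_add]; exact RingHom.IsIntegralElem.add _ hp hq
    | mul_X p i hp =>
      rw [map_mul]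
      refine RingHom.IsIntegralElem.mul _ hp ?_
      rcases mk_eq_X_or_one (k := k) i with h | ⟨i', j', h⟩
      · rw [AlgHom.comp_apply, h, ← map_one φ.toRingHom]
        exact RingHom.isIntegralElem_map _
      · rw [AlgHom.comp_apply, h]
        exact isIntegral_of_noData hd hno i' j'
  refine ⟨(PrimeSpectrum.isClosedMap_comap_of_isIntegral _ hint).isClosed_range, ?_⟩
  haveI := finiteType_SL (k := k) (n := n)
  have hft : φ.toRingHom.FiniteType := by
    refine RingHom.FiniteType.of_comp_finiteType (f := algebraMap k (CoordGrp.FormRing k n d)) ?_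
    rw [show φ.toRingHom.comp (algebraMap k (CoordGrp.FormRing k n d)) = algebraMap k (CoordGrp.SLn n k) from
      φ.comp_algebraMap]
    exact RingHom.finiteType_algebraMap.2 inferInstance
  have hfin : φ.toRingHom.Finite := RingHom.Finite.of_isIntegral_of_finiteType hint hft
  show Module.Finite k (CoordGrp.SLn n k ⧸ Ideal.map φ (RingHom.ker (GLin.vecPt k (CoordGrp.FormIdx n d) a)))
  set P := RingHom.ker (GLin.vecPt k (CoordGrp.FormIdx n d) a)
  haveI : Module.Finite k (CoordGrp.FormRing k n d ⧸ P) := Module.Finite.equiv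
    (Ideal.quotientKerAlgEquivOfSurjective (f := GLin.vecPt k (CoordGrp.FormIdx n d) a)
      (fun c => ⟨MvPolynomial.C c, by simp⟩)).toLinearEquiv.symm
  let χ : CoordGrp.FormRing k n d ⧸ P →ₐ[k] CoordGrp.SLn n k ⧸ Ideal.map φ P :=
    Ideal.quotientMapₐ _ φ Ideal.le_comap_map
  have hχ : χ.toRingHom.Finite := by
    refine RingHom.Finite.of_comp_finite (f := Ideal.Quotient.mk P) ?_
    rw [show χ.toRingHom.comp (Ideal.Quotient.mk P) = (Ideal.Quotient.mk _).comp φ.toRingHom from
      RingHom.ext fun _ => rfl]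
    exact (RingHom.Finite.of_surjective _ Ideal.Quotient.mk_surjective).comp hfin
  refine RingHom.finite_algebraMap.1 ?_
  rw [← χ.comp_algebraMap]
  exact hχ.comp (RingHom.finite_algebraMap.2 inferInstance)

theorem posData_of_inOrbitClosure (hd : (d.factorial : k) ≠ 0) {a : CoordGrp.FormIdx n d → k}
    (hker : RingHom.ker (formOrbit a) ≤ RingHom.ker (GLin.vecPt k (CoordGrp.FormIdx n d) (fun _ => (0 : k)))) :
    PosData (CoordGrp.formPoly a) := by
  classical
  set φ := formOrbit a
  set o := GLin.vecPt k (CoordGrp.FormIdx n d) (fun _ => (0 : k))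
  haveI : (RingHom.ker o).IsPrime := RingHom.ker_isPrime _
  obtain ⟨q, hq, hqo⟩ := Ideal.exists_minimalPrimes_le (show RingHom.ker φ.toRingHom ≤ RingHom.ker o from hker)
  obtain ⟨p, hp, -, hpq⟩ := Ideal.exists_comap_eq_of_mem_minimalPrimes φ.toRingHom (I := ⊥) q
    (by rwa [← RingHom.ker_eq_comap_bot])
  haveI := hp
  let K := FractionRing (CoordGrp.SLn n k ⧸ p)
  let ψ : CoordGrp.SLn n k →ₐ[k] K :=
    (IsScalarTower.toAlgHom k (CoordGrp.SLn n k ⧸ p) K).comp (Ideal.Quotient.mkₐ k p)
  set A := (ψ.comp φ).toRingHom.range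
  let I : Ideal A := (RingHom.ker o).map (ψ.comp φ).toRingHom.rangeRestrict
  have hkerψ : RingHom.ker (ψ.comp φ).toRingHom = q := by
    rw [← hpq]
    ext r
    show algebraMap (CoordGrp.SLn n k ⧸ p) K (Ideal.Quotient.mk p (φ r)) = 0 ↔ φ r ∈ p
    rw [map_eq_zero_iff _ (IsFractionRing.injective (CoordGrp.SLn n k ⧸ p) K), Ideal.Quotient.eq_zero_iff_mem]
  have hI : I ≠ ⊤ := by
    intro htop
    have h1 : (1 : A) ∈ I := htop ▸ Submodule.mem_top
    obtain ⟨r, hr, hr1⟩ := (Ideal.mem_map_iff_of_surjective (ψ.comp φ).toRingHom.rangeRestrict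
      (RingHom.rangeRestrict_surjective (ψ.comp φ).toRingHom)).1 h1
    have h2 : r - 1 ∈ RingHom.ker (ψ.comp φ).toRingHom := by
      rw [RingHom.mem_ker, map_sub, map_one, sub_eq_zero]
      exact congrArg Subtype.val hr1
    rw [hkerψ] at h2
    have h3 : (1 : CoordGrp.FormRing k n d) ∈ RingHom.ker o := by simpa using sub_mem hr (hqo h2)
    exact (Ideal.ne_top_iff_one _).1 (Ideal.IsPrime.ne_top inferInstance) h3
  obtain ⟨V, hAV, hIV⟩ := Ideal.image_subset_nonunits_valuationSubring I hI
  have hk : ∀ t : k, algebraMap k K t ∈ V := fun t => hAV ⟨C t, by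
    rw [← MvPolynomial.algebraMap_eq]; exact (ψ.comp φ).commutes t⟩
  have hX : ∀ m, V.valuation (ψ (φ (X m))) < 1 := fun m => by
    refine (ValuationSubring.mem_nonunits_iff V).1 (hIV ⟨_, Ideal.mem_map_of_mem _ (show X m ∈ RingHom.ker o by
      simp [o, RingHom.mem_ker]), rfl⟩)
  set γ : V.ValueGroup := Finset.univ.sup fun m : CoordGrp.FormIdx n d => V.valuation (ψ (φ (X m)))
  have hγ : γ < 1 := (Finset.sup_lt_iff (by rw [bot_eq_zero]; exact zero_lt_one)).2 fun m _ => hX m
  have hle := fun e => coeff_moved_mem hd a V hk ψ e γ fun m =>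
    Finset.le_sup (f := fun m => V.valuation (ψ (φ (X m)))) (Finset.mem_univ m)
  exact (exists_data_of_valuation a V hk (Matrix.of fun i j => ψ (CoordGrp.SLn.X i j)) (det_pt ψ)
    fun e => (V.valuation_le_one_iff _).1 ((hle e).trans hγ.le)).2 fun e => lt_of_le_of_lt (hle e) hγ

end Criterion

section Converse

open LaurentPolynomial in
theorem prod_T_pow (r : Fin n → ℤ) (e : Fin n →₀ ℕ) :
    ∏ i, (T (r i) : k[T;T⁻¹]) ^ e i = T (ewt r e) := by
  rw [ewt, ← CoordGrp.GLn.prod_T]
  exact Finset.prod_congr rfl fun i _ => T_pow _ _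

open LaurentPolynomial in
/-- The limit of a form along one-parameter data. -/
theorem exists_limit (hd : (d.factorial : k) ≠ 0) {a : CoordGrp.FormIdx n d → k} {g : Matrix (Fin n) (Fin n) k}
    (hg : g.det = 1) {r : Fin n → ℤ} (hr : ∑ i, r i = 0)
    (h : ∀ e, coeff e (act g (CoordGrp.formPoly a)) ≠ 0 → 0 ≤ ewt r e) :
    ∃ y : CoordGrp.FormIdx n d → k,
      RingHom.ker (formOrbit a) ≤ RingHom.ker (GLin.vecPt k (CoordGrp.FormIdx n d) y) ∧
      ∀ e : CoordGrp.FormIdx n d, y e ≠ 0 → ewt r e.1 = 0 ∧ coeff e.1 (act g (CoordGrp.formPoly a)) ≠ 0 := by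
  classical
  set F₁ := act g (CoordGrp.formPoly a) with hF₁
  set ι := algebraMap k k[T;T⁻¹]
  let D : Matrix (Fin n) (Fin n) k[T;T⁻¹] := Matrix.diagonal fun i => T (r i)
  have hdet : (g.map ι * D).det = 1 := by
    rw [Matrix.det_mul, Matrix.det_diagonal, CoordGrp.GLn.prod_T, hr, T_zero, mul_one, ← RingHom.mapMatrix_apply,
      ← RingHom.map_det, hg, map_one]
  let ψ := CoordGrp.SLn.pt n k (g.map ι * D) hdet
  let b : CoordGrp.FormIdx n d → k := fun e => coeff e.1 F₁ * ((e.1.multinomial : k))⁻¹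
  let w : CoordGrp.FormIdx n d → ℕ := fun e => (ewt r e.1).toNat
  have hψ : ∀ e, ψ (formOrbit a (X e)) = Polynomial.toLaurent (Polynomial.C (b e) * Polynomial.X ^ w e) := by
    intro e
    have h0 := formPoly_moved' hd a ψ
    rw [show (Matrix.of fun i j => ψ (CoordGrp.SLn.X i j)) = g.map ι * D from
      Matrix.ext fun i j => CoordGrp.SLn.pt_X _ hdet i j, ← act_act, ← map_act, ← hF₁] at h0
    have h1 := congrArg (coeff e.1) h0
    rw [CoordGrp.coeff_formPoly, coeff_act_diagonal, coeff_map, prod_T_pow] at h1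
    have h2 : ψ (formOrbit a (X e)) = ι (b e) * T (ewt r e.1) := by
      rw [map_mul, mul_right_comm, ← h1, ← map_natCast ι, mul_right_comm, ← map_mul,
        mul_inv_cancel₀ (multinomial_ne_zero hd e), map_one, one_mul]
    rw [h2, Polynomial.toLaurent_C_mul_X_pow, LaurentPolynomial.C_eq_algebraMap]
    rcases eq_or_ne (coeff e.1 F₁) 0 with hz | hz
    · simp [b, hz, ι]
    · rw [Int.toNat_of_nonneg (h _ hz)]
  refine ⟨fun e => if w e = 0 then b e else 0, fun f hf => ?_, fun e he => ?_⟩
  · set G : CoordGrp.FormRing k n d →ₐ[k] Polynomial k :=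
      MvPolynomial.aeval fun e => Polynomial.C (b e) * Polynomial.X ^ w e
    have h1 : (Polynomial.toLaurentAlg (R := k)).comp G = ψ.comp (formOrbit a) := MvPolynomial.algHom_ext fun e => by
      rw [AlgHom.comp_apply, MvPolynomial.aeval_X, Polynomial.toLaurentAlg_apply, AlgHom.comp_apply, hψ]
    have h2 : (Polynomial.aeval (0 : k)).comp G =
        GLin.vecPt k (CoordGrp.FormIdx n d) (fun e => if w e = 0 then b e else 0) := MvPolynomial.algHom_ext fun e => by
      rw [AlgHom.comp_apply, MvPolynomial.aeval_X, MvPolynomial.aeval_X]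
      rcases Nat.eq_zero_or_pos (w e) with h0 | h0
      · simp [h0]
      · simp [h0.ne', zero_pow h0.ne']
    rw [RingHom.mem_ker] at hf ⊢
    have h3 : G f = 0 := Polynomial.toLaurent_injective (by
      rw [map_zero, ← Polynomial.toLaurentAlg_apply, ← AlgHom.comp_apply, h1, AlgHom.comp_apply, hf, map_zero])
    rw [← h2, AlgHom.comp_apply, h3, map_zero]
  · replace he : (if w e = 0 then b e else 0) ≠ 0 := he
    split_ifs at he with hw
    · have hz := left_ne_zero_of_mul he
      refine ⟨?_, hz⟩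
      have := h _ hz
      have : (ewt r e.1).toNat = 0 := hw
      omega
    · exact absurd rfl he

variable [IsAlgClosed k]

open LaurentPolynomial in
theorem noData_of_stable (hd : (d.factorial : k) ≠ 0) {a : CoordGrp.FormIdx n d → k} (hst : IsStableForm a) :
    ¬ NonnegData (CoordGrp.formPoly a) := by
  rintro ⟨g, r, hg, hsum, hr0, hw⟩
  letI := slForms k n d
  haveI := slForms_isCoactAlg k n d
  obtain ⟨hclosed, hfin⟩ := hst
  obtain ⟨y, hy, hywt⟩ := exists_limit hd hg hsum hw
  haveI := finiteType_SL (k := k) (n := n)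
  obtain ⟨h, hh⟩ := Comodule.ClosedOrbit.exists_actPt_eq_of_isClosedOrbit (A := CoordGrp.SLn n k)
    (x := GLin.vecPt k _ a) (z := GLin.vecPt k _ y) hclosed hy
  set H : Matrix (Fin n) (Fin n) k := Matrix.of fun i j => h (CoordGrp.SLn.X i j) with hH
  have hHdet : H.det = 1 := det_pt h
  have hY : CoordGrp.formPoly y = act H (CoordGrp.formPoly a) := by
    have h1 := formPoly_moved' hd a h
    rw [Algebra.algebraMap_self, MvPolynomial.map_id] at h1
    rw [← h1]
    congr 1
    funext i
    have := DFunLike.congr_fun hh (X i)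
    rwa [MvPolynomial.aeval_X] at this
  set ι := algebraMap k k[T;T⁻¹]
  let D : Matrix (Fin n) (Fin n) k[T;T⁻¹] := Matrix.diagonal fun i => T (r i)
  set M' := H.map ι * D * H.adjugate.map ι with hM'
  have hM'det : M'.det = 1 := by
    rw [hM', Matrix.det_mul, Matrix.det_mul, Matrix.det_diagonal, CoordGrp.GLn.prod_T, hsum, T_zero,
      ← RingHom.mapMatrix_apply, ← RingHom.mapMatrix_apply, ← RingHom.map_det, ← RingHom.map_det,
      Matrix.det_adjugate, hHdet, one_pow, map_one, mul_one, mul_one]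
  let ψ' := CoordGrp.SLn.pt n k M' hM'det
  have hψ' : (Matrix.of fun i j => ψ' (CoordGrp.SLn.X i j)) = M' :=
    Matrix.ext fun i j => CoordGrp.SLn.pt_X _ hM'det i j
  have hfix : CoordGrp.formPoly (fun i => ψ' (formOrbit a (X i))) = MvPolynomial.map ι (CoordGrp.formPoly a) := by
    rw [formPoly_moved' hd, hψ', hM', ← act_act, ← act_act, ← map_act, ← hY]
    have hD : act D (MvPolynomial.map ι (CoordGrp.formPoly y)) = MvPolynomial.map ι (CoordGrp.formPoly y) := by
      refine MvPolynomial.ext _ _ fun e => ?_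
      rw [coeff_act_diagonal, coeff_map, prod_T_pow]
      by_cases hed : e.degree = d
      · rw [CoordGrp.coeff_formPoly _ ⟨e, hed⟩]
        rcases eq_or_ne (y ⟨e, hed⟩) 0 with h0 | h0
        · simp [h0]
        · rw [(hywt _ h0).1, T_zero, mul_one]
      · simp [(formPoly_isHomogeneous y).coeff_eq_zero hed]
    rw [hD, hY, map_act, act_act, ← RingHom.mapMatrix_apply, ← RingHom.mapMatrix_apply, ← map_mul,
      Matrix.mul_adjugate, hHdet, one_smul, map_one, act_one]
  have hkill : Ideal.map (formOrbit a) (RingHom.ker (GLin.vecPt k (CoordGrp.FormIdx n d) a)) ≤ RingHom.ker ψ' := by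
    have hcomp : ψ'.comp (formOrbit a) = (Algebra.ofId k k[T;T⁻¹]).comp (GLin.vecPt k (CoordGrp.FormIdx n d) a) := by
      refine MvPolynomial.algHom_ext fun i => ?_
      have h1 := congrArg (coeff i.1) hfix
      rw [CoordGrp.coeff_formPoly, coeff_map, CoordGrp.coeff_formPoly, map_mul, map_natCast] at h1
      rw [AlgHom.comp_apply, AlgHom.comp_apply, MvPolynomial.aeval_X]
      refine IsUnit.mul_left_cancel ?_ h1
      rw [← map_natCast ι]
      exact (Ne.isUnit (multinomial_ne_zero hd i)).map _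
    rw [Ideal.map_le_iff_le_comap]
    intro f hf
    rw [Ideal.mem_comap, RingHom.mem_ker, ← AlgHom.comp_apply, hcomp, AlgHom.comp_apply, RingHom.mem_ker.1 hf,
      map_zero]
  haveI : Module.Finite k (CoordGrp.SLn n k ⧸
      Ideal.map (formOrbit a) (RingHom.ker (GLin.vecPt k (CoordGrp.FormIdx n d) a))) := hfin
  let χ := Ideal.Quotient.liftₐ (Ideal.map (formOrbit a) (RingHom.ker (GLin.vecPt k (CoordGrp.FormIdx n d) a))) ψ'
    fun z hz => hkill hz
  have hM'int : ∀ i j, IsIntegral k (M' i j) := fun i j => by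
    rw [← congrFun (congrFun hψ' i) j]
    exact (Algebra.IsIntegral.isIntegral (R := k) (Ideal.Quotient.mk
      (Ideal.map (formOrbit a) (RingHom.ker (GLin.vecPt k (CoordGrp.FormIdx n d) a)))
      (CoordGrp.SLn.X i j))).map χ
  have hDM : D = H.adjugate.map ι * M' * H.map ι := by
    rw [hM', ← Matrix.mul_assoc, ← Matrix.mul_assoc, ← RingHom.mapMatrix_apply, ← RingHom.mapMatrix_apply, ← map_mul,
      Matrix.adjugate_mul, hHdet, one_smul, map_one, one_mul, Matrix.mul_assoc, ← map_mul, Matrix.adjugate_mul, hHdet,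
      one_smul, map_one, mul_one]
  refine hr0 (funext fun i => ?_)
  have hint : IsIntegral k (T (r i) : k[T;T⁻¹]) := by
    rw [show (T (r i) : k[T;T⁻¹]) = D i i by simp [D], hDM, Matrix.mul_apply]
    refine IsIntegral.sum _ fun l _ => ?_
    rw [Matrix.mul_apply]
    refine IsIntegral.mul (IsIntegral.sum _ fun l' _ => IsIntegral.mul isIntegral_algebraMap (hM'int _ _))
      isIntegral_algebraMap
  obtain ⟨c, hc⟩ := (IsAlgClosed.algebraMap_bijective_of_isIntegral (k := k) (K := integralClosure k k[T;T⁻¹])).2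
    (⟨_, hint⟩ : integralClosure k k[T;T⁻¹])
  have hc' := congrArg (fun z : integralClosure k k[T;T⁻¹] => (z : k[T;T⁻¹]).coeff (r i)) hc
  rw [show ((algebraMap k (integralClosure k k[T;T⁻¹]) c : integralClosure k k[T;T⁻¹]) : k[T;T⁻¹]) =
    AddMonoidAlgebra.single (0 : ℤ) c from rfl] at hc'
  by_contra hne
  have hne' : r i ≠ 0 := hne
  simp [T, -single_eq_C_mul_T, Finsupp.single_eq_of_ne hne'] at hc'

theorem stableForm_iff (hd : (d.factorial : k) ≠ 0) (a : CoordGrp.FormIdx n d → k) :
    IsStableForm a ↔ ¬ NonnegData (CoordGrp.formPoly a) :=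
  ⟨noData_of_stable hd, stable_of_noData hd⟩

omit [IsAlgClosed k] in
theorem not_semistable_of_posData (hd : (d.factorial : k) ≠ 0) {a : CoordGrp.FormIdx n d → k}
    (h : PosData (CoordGrp.formPoly a)) : ¬ IsSemistableForm a := by
  letI := slForms k n d
  haveI := slForms_isCoactAlg k n d
  obtain ⟨g, r, hg, hsum, hw⟩ := h
  obtain ⟨y, hy, hywt⟩ := exists_limit hd hg hsum fun e he => (hw e he).le
  have hy0 : y = fun _ => (0 : k) := funext fun e => by
    by_contra h0
    obtain ⟨h1, h2⟩ := hywt e h0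
    exact (hw _ h2).ne' h1
  subst hy0
  simp only [IsSemistableForm, GLin.IsSemistableVec, not_not]
  intro P hP N hN hhom
  have h0 : (fun _ => (0 : k)) = (0 : CoordGrp.FormIdx n d → k) := rfl
  have hinv := Comodule.HilbertFG.eq_of_mem_ker_orbit (A := CoordGrp.SLn n k) hy hP
  rw [show MvPolynomial.eval a P = GLin.vecPt k (CoordGrp.FormIdx n d) a P from rfl, ← hinv, GLin.vecPt, h0]
  simp only [MvPolynomial.aeval_zero, Algebra.algebraMap_self, RingHom.id_apply, MvPolynomial.constantCoeff_eq]
  exact hhom.coeff_eq_zero (by simpa using hN.ne)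

theorem semistableForm_iff [CharZero k] (a : CoordGrp.FormIdx n d → k) :
    IsSemistableForm a ↔ ¬ PosData (CoordGrp.formPoly a) := by
  have hd : (d.factorial : k) ≠ 0 := Nat.cast_ne_zero.2 (Nat.factorial_ne_zero d)
  refine ⟨fun h hp => not_semistable_of_posData hd hp h, fun h => ?_⟩
  letI := slForms k n d
  haveI := slForms_isCoactAlg k n d
  exact (Comodule.HilbertFG.isSemistableVec_iff linRed_SLn (slForms_isLinear k n d) a).2
    fun hc => h (posData_of_inOrbitClosure hd hc)

end Converse

end Groth.Agent.GITLib
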