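import Groth.Agent.GITLib.SteinbergNondeg
import Groth.Agent.GITLib.HMForms

/-!
# Semistable forms in positive characteristic

A form with no positive one-parameter data is semistable for `SL_n`, also in characteristic `p`: an invariant
is produced as the determinant of a Steinberg pairing (geometric reductivity of `SL_n`, after Haboush).
-/

set_option autoImplicit false
universe u

open MvPolynomial TensorProduct

noncomputable section

namespace Groth.Agent.GITLib

set_option backward.isDefEq.respectTransparency false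
set_option maxHeartbeats 1000000

variable {k : Type u} [Field k] {n d : ℕ}

/-- The coordinates of the form `F(G y)`. -/
def coordsAct {B : Type u} [CommRing B] [Algebra k B] (G : Matrix (Fin n) (Fin n) B) (F : MvPolynomial (Fin n) B)
    (m : CoordGrp.FormIdx n d) : B :=
  algebraMap k B ((m.1.multinomial : k))⁻¹ * coeff m.1 (act G F)

theorem coordsAct_map {B C : Type u} [CommRing B] [Algebra k B] [CommRing C] [Algebra k C] (φ : B →ₐ[k] C)
    (G : Matrix (Fin n) (Fin n) B) (F : MvPolynomial (Fin n) B) (m : CoordGrp.FormIdx n d) :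
    φ (coordsAct (k := k) G F m) = coordsAct (k := k) (G.map φ) (MvPolynomial.map φ.toRingHom F) m := by
  rw [coordsAct, coordsAct, map_mul, AlgHom.commutes]
  congr 1
  rw [show (G.map φ) = G.map φ.toRingHom from rfl, ← map_act, coeff_map]
  rfl

/-- The moved form, in coordinates. -/
def mv (g : Matrix (Fin n) (Fin n) k) (x : CoordGrp.FormIdx n d → k) : CoordGrp.FormIdx n d → k :=
  coordsAct (k := k) g (CoordGrp.formPoly x)

theorem formPoly_mv (hd : (d.factorial : k) ≠ 0) (g : Matrix (Fin n) (Fin n) k) (x : CoordGrp.FormIdx n d → k) :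
    CoordGrp.formPoly (mv g x) = act g (CoordGrp.formPoly x) := by
  ext e
  by_cases he : e.degree = d
  · rw [CoordGrp.coeff_formPoly _ ⟨e, he⟩, mv, coordsAct, Algebra.algebraMap_self, RingHom.id_apply, ← mul_assoc,
      mul_inv_cancel₀ (multinomial_ne_zero hd ⟨e, he⟩), one_mul]
  · have hh : (act g (CoordGrp.formPoly x)).IsHomogeneous d := subst_isHomogeneous _ (formPoly_isHomogeneous x)
    rw [(formPoly_isHomogeneous _).coeff_eq_zero he, hh.coeff_eq_zero he]

theorem mv_mv (hd : (d.factorial : k) ≠ 0) (g h : Matrix (Fin n) (Fin n) k) (x : CoordGrp.FormIdx n d → k) :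
    mv g (mv h x) = mv (h * g) x :=
  formPoly_injective' hd (by rw [formPoly_mv hd, formPoly_mv hd, formPoly_mv hd, act_act])

/-- `r` evaluated on the moved form, as a function of the matrix. -/
def polyAt (r : CoordGrp.FormRing k n d) (x : CoordGrp.FormIdx n d → k) : Steinberg.Fn k n :=
  aeval (coordsAct (k := k) (Steinberg.gen k n) (MvPolynomial.map C (CoordGrp.formPoly x))) r

theorem aeval_polyAt {B : Type u} [CommRing B] [Algebra k B] (r : CoordGrp.FormRing k n d)
    (x : CoordGrp.FormIdx n d → k) (G : Matrix (Fin n) (Fin n) B) :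
    aeval (fun ij : Fin n × Fin n => G ij.1 ij.2) (polyAt r x) =
      aeval (coordsAct (k := k) G (MvPolynomial.map (algebraMap k B) (CoordGrp.formPoly x))) r := by
  rw [polyAt, comp_aeval_apply]
  congr 1
  refine congrArg aeval (funext fun m => ?_)
  rw [coordsAct_map]
  congr 1
  · ext i j
    simp [Steinberg.gen]
  · rw [MvPolynomial.map_map]
    refine congrArg (fun f => MvPolynomial.map f (CoordGrp.formPoly x)) (RingHom.ext fun c => ?_)
    simp

theorem eval_polyAt (r : CoordGrp.FormRing k n d) (x : CoordGrp.FormIdx n d → k) (g : Matrix (Fin n) (Fin n) k) :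
    eval (fun ij : Fin n × Fin n => g ij.1 ij.2) (polyAt r x) = eval (mv g x) r := by
  have h := aeval_polyAt (B := k) r x g
  rw [Algebra.algebraMap_self, MvPolynomial.map_id, aeval_eq_eval, aeval_eq_eval] at h
  exact h

theorem polyAt_mv [Infinite k] (hd : (d.factorial : k) ≠ 0) (r : CoordGrp.FormRing k n d)
    (x : CoordGrp.FormIdx n d → k) (h : Matrix (Fin n) (Fin n) k) :
    polyAt r (mv h x) = Steinberg.lmul h (polyAt r x) := by
  refine MvPolynomial.funext fun v => ?_
  have hv : v = fun ij : Fin n × Fin n => (Matrix.of fun i j => v (i, j)) ij.1 ij.2 := rfl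
  rw [hv, Steinberg.eval_lmul, eval_polyAt, eval_polyAt, mv_mv hd]

theorem polyAt_zero (r : CoordGrp.FormRing k n d) (hr : coeff 0 r = 0) :
    polyAt r (fun _ : CoordGrp.FormIdx n d => (0 : k)) = 0 := by
  have h0 : coordsAct (k := k) (d := d) (Steinberg.gen k n)
      (MvPolynomial.map C (CoordGrp.formPoly (fun _ : CoordGrp.FormIdx n d => (0 : k)))) = 0 := by
    funext m
    simp [coordsAct, CoordGrp.formPoly]
  rw [polyAt, h0, aeval_zero, constantCoeff_eq, hr, map_zero]

/-- The homogenised function. -/
def homAt (r : CoordGrp.FormRing k n d) (e : ℕ) (x : CoordGrp.FormIdx n d → k) : Steinberg.Fn k n :=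
  ∑ j ∈ Finset.range (e + 1), homogeneousComponent (n * j) (polyAt r x) * (Steinberg.gen k n).det ^ (e - j)

theorem isHomogeneous_homAt (r : CoordGrp.FormRing k n d) (e : ℕ) (x : CoordGrp.FormIdx n d → k) :
    (homAt r e x).IsHomogeneous (n * e) :=
  IsHomogeneous.sum _ _ _ fun j hj => by
    have h := (homogeneousComponent_isHomogeneous (n * j) (polyAt r x)).mul
      ((Steinberg.isHomogeneous_det (n := n) (A := k)).pow (e - j))
    rwa [← mul_add, Nat.add_sub_cancel' (Nat.lt_succ_iff.1 (Finset.mem_range.1 hj))] at h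

theorem homAt_mv [Infinite k] (hd : (d.factorial : k) ≠ 0) (r : CoordGrp.FormRing k n d) (e : ℕ)
    (x : CoordGrp.FormIdx n d → k) {h : Matrix (Fin n) (Fin n) k} (hh : h.det = 1) :
    homAt r e (mv h x) = Steinberg.lmul h (homAt r e x) := by
  simp only [homAt, map_sum, map_mul, map_pow, Steinberg.lmul_det, hh, map_one, one_mul, polyAt_mv hd,
    Steinberg.homogeneousComponent_lmul]

theorem homAt_zero (r : CoordGrp.FormRing k n d) (e : ℕ) (hr : coeff 0 r = 0) :
    homAt r e (fun _ => (0 : k)) = 0 := by
  simp [homAt, polyAt_zero r hr]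

theorem aeval_scaled {B : Type u} [CommRing B] [Algebra k B] (γ : B) (g : Matrix (Fin n) (Fin n) k)
    {Q : Steinberg.Fn k n} {l : ℕ} (hQ : Q.IsHomogeneous l) :
    aeval (fun ij : Fin n × Fin n => γ * algebraMap k B (g ij.1 ij.2)) Q =
      γ ^ l * algebraMap k B (eval (fun ij : Fin n × Fin n => g ij.1 ij.2) Q) := by
  conv_lhs => rw [Q.as_sum, map_sum]
  conv_rhs => rw [Q.as_sum, map_sum, map_sum, Finset.mul_sum]
  refine Finset.sum_congr rfl fun x hx => ?_
  have hdeg : x.degree = l := by
    by_contra h; exact mem_support_iff.1 hx (hQ.coeff_eq_zero h)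
  rw [aeval_monomial, eval_monomial, map_mul, ← hdeg, Finsupp.degree_apply, Finsupp.prod, Finsupp.prod, map_prod,
    ← Finset.prod_pow_eq_pow_sum]
  simp only [mul_pow, map_pow, Finset.prod_mul_distrib]
  ring

theorem coeff_sum_single (s : Finset ℕ) (v : ℕ → k) :
    (∑ l ∈ s, (AddMonoidAlgebra.single (l : ZMod n) (1 : k) : AddMonoidAlgebra k (ZMod n)) *
        algebraMap k (AddMonoidAlgebra k (ZMod n)) (v l)).coeff 0 =
      ∑ l ∈ s.filter (fun l : ℕ => ((l : ℕ) : ZMod n) = 0), v l := by
  classical
  rw [AddMonoidAlgebra.coeff_sum, Finsupp.finsetSum_apply, Finset.sum_filter]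
  refine Finset.sum_congr rfl fun l _ => ?_
  rw [show algebraMap k (AddMonoidAlgebra k (ZMod n)) (v l) = AddMonoidAlgebra.single 0 (v l) from rfl,
    AddMonoidAlgebra.single_mul_single, add_zero, one_mul, AddMonoidAlgebra.coeff_single, Finsupp.single_apply]

theorem sum_components_eq_one [NeZero n] (hd : (d.factorial : k) ≠ 0) {r : CoordGrp.FormRing k n d}
    {a : CoordGrp.FormIdx n d → k} (hra : formOrbit a r = 1) {e : ℕ} (he : (polyAt r a).totalDegree ≤ e)
    (g : Matrix (Fin n) (Fin n) k) (hg : g.det = 1) :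
    ∑ j ∈ Finset.range (e + 1),
      eval (fun ij : Fin n × Fin n => g ij.1 ij.2) (homogeneousComponent (n * j) (polyAt r a)) = 1 := by
  classical
  let B := AddMonoidAlgebra k (ZMod n)
  let γ : B := AddMonoidAlgebra.single (1 : ZMod n) 1
  let G : Matrix (Fin n) (Fin n) B := Matrix.of fun i j => γ * algebraMap k B (g i j)
  have hγ : ∀ l : ℕ, γ ^ l = AddMonoidAlgebra.single (l : ZMod n) 1 := fun l => by
    rw [AddMonoidAlgebra.single_pow, one_pow, nsmul_one]
  have hG : G.det = 1 := by
    rw [show G = γ • g.map (algebraMap k B) from rfl, Matrix.det_smul, Fintype.card_fin, hγ, ZMod.natCast_self,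
      ← RingHom.mapMatrix_apply, ← RingHom.map_det, hg, map_one, mul_one]
    rfl
  let ψ := CoordGrp.SLn.pt n k G hG
  have hψ : ∀ m, ψ (formOrbit a (X m)) =
      coordsAct (k := k) G (MvPolynomial.map (algebraMap k B) (CoordGrp.formPoly a)) m := fun m => by
    have h0 := formPoly_moved' hd a ψ
    rw [show (Matrix.of fun i j => ψ (CoordGrp.SLn.X i j)) = G from
      Matrix.ext fun i j => CoordGrp.SLn.pt_X _ hG i j] at h0
    rw [coordsAct, ← h0, CoordGrp.coeff_formPoly, ← mul_assoc, ← map_natCast (algebraMap k B), ← map_mul,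
      inv_mul_cancel₀ (multinomial_ne_zero hd m), map_one, one_mul]
  have h1 : aeval (fun ij : Fin n × Fin n => G ij.1 ij.2) (polyAt r a) = 1 := by
    rw [aeval_polyAt, ← map_one ψ, ← hra, ← AlgHom.comp_apply]
    refine DFunLike.congr_fun (MvPolynomial.algHom_ext fun m => ?_) r
    rw [aeval_X, AlgHom.comp_apply, hψ]
  conv_lhs at h1 => rw [← sum_homogeneousComponent (polyAt r a), map_sum]
  rw [Finset.sum_congr rfl fun l _ => show aeval (fun ij : Fin n × Fin n => G ij.1 ij.2)
      (homogeneousComponent l (polyAt r a)) = _ from aeval_scaled γ g (homogeneousComponent_isHomogeneous l _)] at h1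
  simp only [hγ] at h1
  have h2 : _ := congrArg (fun z : B => z.coeff 0) h1
  erw [coeff_sum_single] at h2
  rw [show (1 : B).coeff 0 = (1 : k) by simp [B, AddMonoidAlgebra.one_def]] at h2
  rw [← h2]
  rw [← Finset.sum_image (g := fun j => n * j)
    (f := fun l => eval (fun ij : Fin n × Fin n => g ij.1 ij.2) (homogeneousComponent l (polyAt r a)))
    fun x _ y _ h => mul_left_cancel₀ (NeZero.ne n) h]
  refine (Finset.sum_subset (fun l hl => ?_) fun l hl hl' => ?_).symm
  · obtain ⟨hl1, hl2⟩ := Finset.mem_filter.1 hl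
    obtain ⟨j, rfl⟩ := (ZMod.natCast_eq_zero_iff l n).1 hl2
    refine Finset.mem_image.2 ⟨j, Finset.mem_range.2 ?_, rfl⟩
    have := Finset.mem_range.1 hl1
    have hn : 0 < n := Nat.pos_of_ne_zero (NeZero.ne n)
    nlinarith
  · obtain ⟨j, -, rfl⟩ := Finset.mem_image.1 hl
    by_cases hlt : (polyAt r a).totalDegree < n * j
    · rw [homogeneousComponent_eq_zero _ _ hlt, map_zero]
    · exact absurd (Finset.mem_filter.2 ⟨Finset.mem_range.2 (by omega),
        (ZMod.natCast_eq_zero_iff _ n).2 (Dvd.intro j rfl)⟩) hl'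

theorem homAt_eq_det_pow [IsAlgClosed k] [NeZero n] (hd : (d.factorial : k) ≠ 0) {r : CoordGrp.FormRing k n d}
    {a : CoordGrp.FormIdx n d → k} (hra : formOrbit a r = 1) {e : ℕ} (he : (polyAt r a).totalDegree ≤ e) :
    homAt r e a = (Steinberg.gen k n).det ^ e := by
  have h0 : (homAt r e a - (Steinberg.gen k n).det ^ e) * (Steinberg.gen k n).det = 0 := by
    refine MvPolynomial.funext fun v => ?_
    rw [map_mul, map_zero, mul_eq_zero]
    refine or_iff_not_imp_right.2 fun hv => ?_
    set g : Matrix (Fin n) (Fin n) k := Matrix.of fun i j => v (i, j) with hg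
    have hdet : eval v (Steinberg.gen k n).det = g.det := by
      rw [RingHom.map_det]; congr 1; ext i j; simp [Steinberg.gen, hg]
    obtain ⟨c, hc⟩ := IsAlgClosed.exists_pow_nat_eq g.det (Nat.pos_of_ne_zero (NeZero.ne n))
    have hc0 : c ≠ 0 := fun h => hv (by rw [hdet, ← hc, h, zero_pow (NeZero.ne n)])
    set g₁ : Matrix (Fin n) (Fin n) k := c⁻¹ • g with hg₁
    have hg₁det : g₁.det = 1 := by
      rw [hg₁, Matrix.det_smul, Fintype.card_fin, ← hc, inv_pow, inv_mul_cancel₀ (pow_ne_zero _ hc0)]
    have hsc : ∀ {Q : Steinberg.Fn k n} {l : ℕ}, Q.IsHomogeneous l →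
        eval v Q = c ^ l * eval (fun ij : Fin n × Fin n => g₁ ij.1 ij.2) Q := by
      intro Q l hQ
      have := aeval_scaled (B := k) c g₁ hQ
      rw [Algebra.algebraMap_self] at this
      simp only [RingHom.id_apply, aeval_eq_eval] at this
      rw [← this]
      congr 2
      funext ij
      simp [hg₁, hg, hc0]
    rw [map_sub, sub_eq_zero, homAt, map_sum, map_pow, hdet, ← hc, ← mul_one ((c ^ n) ^ e),
      ← sum_components_eq_one hd hra he g₁ hg₁det, Finset.mul_sum]
    refine Finset.sum_congr rfl fun j hj => ?_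
    rw [map_mul, map_pow, hdet, hsc (homogeneousComponent_isHomogeneous (n * j) (polyAt r a)), ← hc,
      mul_right_comm, pow_mul, ← pow_add, Nat.add_sub_cancel' (Nat.lt_succ_iff.1 (Finset.mem_range.1 hj))]
  rcases mul_eq_zero.1 h0 with h | h
  · exact sub_eq_zero.1 h
  · exact absurd h (Matrix.det_mvPolynomialX_ne_zero (Fin n) k)

/-- The points of `SL_n` separate its coordinate functions. -/
theorem eq_zero_of_forall_pt [Infinite k] [NeZero n] {z : CoordGrp.SLn n k}
    (hz : ∀ ψ : CoordGrp.SLn n k →ₐ[k] k, ψ z = 0) : z = 0 := by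
  classical
  set D := (Steinberg.gen k n).det with hD
  let L := Localization.Away D
  let ι : Steinberg.Fn k n →ₐ[k] L := IsScalarTower.toAlgHom k (Steinberg.Fn k n) L
  let w : Fin n → L := fun j => if j = 0 then IsLocalization.Away.invSelf (S := L) D else 1
  have hN : (ι.mapMatrix (Steinberg.gen k n) * Matrix.diagonal w).det = 1 := by
    rw [Matrix.det_mul, Matrix.det_diagonal, ← AlgHom.map_det, Finset.prod_eq_single 0
      (fun j _ hj => if_neg hj) (by simp)]
    simp only [w, if_true]
    exact IsLocalization.Away.mul_invSelf D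
  let f : CoordGrp.SLn n k →ₐ[k] L := CoordGrp.SLn.pt n k _ hN
  let q : Steinberg.Fn k n →ₐ[k] CoordGrp.SLn n k := aeval fun ij => CoordGrp.SLn.X ij.1 ij.2
  have hq : q D = 1 := by
    rw [hD, AlgHom.map_det, ← CoordGrp.SLn.det_eq_one (n := n) (k := k), CoordGrp.GLn.det_eq, AlgHom.map_det]
    congr 1
    ext i j
    simp [q, Steinberg.gen, CoordGrp.SLn.X]
    rfl
  let g : L →ₐ[k] CoordGrp.SLn n k := IsLocalization.liftAlgHom (M := Submonoid.powers D) (f := q) fun y => by
    obtain ⟨i, hi⟩ := y.2
    rw [← hi, map_pow, hq, one_pow]; exact isUnit_one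
  have hgι : ∀ s, g (ι s) = q s := fun s => IsLocalization.lift_eq _ s
  have hginv : g (IsLocalization.Away.invSelf (S := L) D) = 1 := by
    have h := congrArg g (IsLocalization.Away.mul_invSelf (S := L) D)
    rwa [map_mul, map_one, show g (algebraMap _ L D) = q D from hgι D, hq, one_mul] at h
  have hgf : g.comp f = AlgHom.id k _ := by
    refine CoordGrp.SLn.algHom_ext (fun i j => ?_) ?_
    · rw [AlgHom.comp_apply, CoordGrp.SLn.pt_X _ hN, Matrix.mul_diagonal, map_mul]
      simp only [AlgHom.mapMatrix_apply, Matrix.map_apply, hgι]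
      rw [show g (w j) = 1 by simp only [w]; split_ifs <;> simp [hginv], mul_one]
      simp [q, Steinberg.gen]
    · have h1 := congrArg (CoordGrp.SLn.mk n k) (CoordGrp.GLn.det_mul_Dinv (n := n) (k := k))
      rw [map_mul, map_one, CoordGrp.SLn.det_eq_one, one_mul] at h1
      rw [h1, map_one, map_one]
  obtain ⟨⟨P, ⟨_, i, rfl⟩⟩, hP⟩ := IsLocalization.surj (Submonoid.powers D) (f z)
  have hP0 : P * D = 0 := by
    refine MvPolynomial.funext fun v => ?_
    rw [map_mul, map_zero, mul_eq_zero]
    refine or_iff_not_imp_right.2 fun hv => ?_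
    let ev : L →ₐ[k] k := IsLocalization.liftAlgHom (M := Submonoid.powers D) (f := aeval v) fun y => by
      obtain ⟨i, hi⟩ := y.2
      rw [← hi, map_pow]
      exact (IsUnit.mk0 _ (by simpa [aeval_eq_eval] using hv)).pow i
    have h2 := congrArg ev hP
    have h3 : ev (f z) = 0 := hz (ev.comp f)
    rw [map_mul, h3, zero_mul] at h2
    have h4 : ev (algebraMap _ L P) = aeval v P := IsLocalization.lift_eq _ P
    rw [h4] at h2
    simpa [aeval_eq_eval] using h2.symm
  have hP' : P = 0 := (mul_eq_zero.1 hP0).resolve_right (Matrix.det_mvPolynomialX_ne_zero (Fin n) k)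
  rw [hP', map_zero] at hP
  have hfz : f z = 0 := (IsUnit.mul_left_eq_zero (IsLocalization.map_units L (⟨D ^ i, Submonoid.pow_mem _ (Submonoid.mem_powers D) i⟩ : Submonoid.powers D))).1 hP
  have := congrArg g hfz
  rwa [map_zero, ← AlgHom.comp_apply, hgf] at this

theorem mem_invariants_of_forall [Infinite k] [NeZero n] (hd : (d.factorial : k) ≠ 0) {F : CoordGrp.FormRing k n d}
    (hF : ∀ (g : Matrix (Fin n) (Fin n) k), g.det = 1 → ∀ x, eval (mv g x) F = eval x F) :
    F ∈ @GLin.invariants k _ (CoordGrp.SLn n k) _ _ (CoordGrp.FormRing k n d) _ _ (slForms k n d)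
      (slForms_isCoactAlg k n d) := by
  letI := slForms k n d
  haveI := slForms_isCoactAlg k n d
  classical
  have horb : ∀ x : CoordGrp.FormIdx n d → k, formOrbit x F = algebraMap k _ (eval x F) := by
    intro x
    rw [← sub_eq_zero]
    refine eq_zero_of_forall_pt fun ψ => ?_
    rw [map_sub, AlgHom.commutes, Algebra.algebraMap_self, RingHom.id_apply, sub_eq_zero]
    set g : Matrix (Fin n) (Fin n) k := Matrix.of fun i j => ψ (CoordGrp.SLn.X i j)
    have hcoord : (fun m => ψ (formOrbit x (X m))) = mv g x := by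
      refine formPoly_injective' hd ?_
      rw [formPoly_moved' hd x ψ, formPoly_mv hd, Algebra.algebraMap_self, MvPolynomial.map_id]
    rw [← AlgHom.comp_apply, aeval_unique (ψ.comp (formOrbit x))]
    show aeval (fun m => ψ (formOrbit x (X m))) F = _
    rw [hcoord, aeval_eq_eval]
    exact hF g (det_pt ψ) x
  rw [GLin.mem_invariants_iff, ← sub_eq_zero]
  set z := HopfRep.Comod.coact (k := k) (A := CoordGrp.SLn n k) F - F ⊗ₜ[k] (1 : CoordGrp.SLn n k)
  have hz : ∀ x : CoordGrp.FormIdx n d → k,
      Algebra.TensorProduct.lid k (CoordGrp.SLn n k)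
        (Algebra.TensorProduct.map (GLin.vecPt k (CoordGrp.FormIdx n d) x) (AlgHom.id k _) z) = 0 := by
    intro x
    rw [map_sub, map_sub, Algebra.TensorProduct.map_tmul, Algebra.TensorProduct.lid_tmul, AlgHom.id_apply,
      show GLin.vecPt k (CoordGrp.FormIdx n d) x F = eval x F from rfl, ← Algebra.algebraMap_eq_smul_one, sub_eq_zero]
    exact horb x
  let bm := MvPolynomial.basisMonomials (CoordGrp.FormIdx n d) k
  obtain ⟨c, hc⟩ : ∃ c : (CoordGrp.FormIdx n d →₀ ℕ) →₀ CoordGrp.SLn n k,
      z = c.sum fun e a => monomial e (1 : k) ⊗ₜ[k] a := by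
    refine ⟨TensorProduct.equivFinsuppOfBasisLeft bm z, ?_⟩
    conv_lhs => rw [← (TensorProduct.equivFinsuppOfBasisLeft bm).symm_apply_apply z,
      TensorProduct.equivFinsuppOfBasisLeft_symm_apply]
    simp [bm, MvPolynomial.coe_basisMonomials]
  suffices hcz : c = 0 by rw [hc, hcz, Finsupp.sum_zero_index]
  refine Finsupp.ext fun e => ?_
  by_contra hne
  obtain ⟨ξ, hξ⟩ := Module.Projective.exists_dual_ne_zero k (show c e ≠ 0 from hne)
  let P : MvPolynomial (CoordGrp.FormIdx n d) k := ∑ e' ∈ c.support, monomial e' (ξ (c e'))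
  have hP : P = 0 := by
    refine MvPolynomial.funext fun x => ?_
    have h1 := congrArg ξ (hz x)
    rw [hc, map_zero] at h1
    simp only [Finsupp.sum, map_sum, Algebra.TensorProduct.map_tmul, Algebra.TensorProduct.lid_tmul,
      AlgHom.id_apply, map_smul, smul_eq_mul, GLin.vecPt, aeval_monomial, map_one, one_mul] at h1
    rw [map_zero, ← h1]
    simp only [P, map_sum, eval_monomial]
    exact Finset.sum_congr rfl fun e' _ => by simp [mul_comm, Finsupp.prod]
  have h2 := congrArg (coeff e) hP
  simp only [P, coeff_sum, coeff_monomial, coeff_zero] at h2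
  rw [Finset.sum_ite_eq', if_pos (Finsupp.mem_support_iff.2 hne)] at h2
  exact hξ h2

theorem semistable_of_not_posData_charP [IsAlgClosed k] [NeZero n] (p : ℕ) [hp : Fact p.Prime] [CharP k p]
    (hd : (d.factorial : k) ≠ 0) {a : CoordGrp.FormIdx n d → k} (h : ¬ PosData (CoordGrp.formPoly a)) :
    IsSemistableForm a := by
  classical
  letI := slForms k n d
  haveI := slForms_isCoactAlg k n d
  haveI : ExpChar k p := ExpChar.prime hp.out
  obtain ⟨r₀, hr₀, hr₀0⟩ : ∃ r₀, formOrbit a r₀ = 0 ∧
      GLin.vecPt k (CoordGrp.FormIdx n d) (fun _ => (0 : k)) r₀ ≠ 0 := by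
    by_contra! hall
    exact h (posData_of_inOrbitClosure hd fun x hx => hall x hx)
  have hv0 : GLin.vecPt k (CoordGrp.FormIdx n d) (fun _ => (0 : k)) r₀ = coeff 0 r₀ := by
    rw [show (fun _ => (0 : k)) = (0 : CoordGrp.FormIdx n d → k) from rfl, GLin.vecPt, aeval_zero,
      constantCoeff_eq, Algebra.algebraMap_self, RingHom.id_apply]
  rw [hv0] at hr₀0
  set r : CoordGrp.FormRing k n d := 1 - C (coeff 0 r₀)⁻¹ * r₀ with hrdef
  have hra : formOrbit a r = 1 := by rw [hrdef, map_sub, map_mul, hr₀, mul_zero, sub_zero, map_one]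
  have hr0 : coeff 0 r = 0 := by
    rw [hrdef, coeff_sub, coeff_C_mul, coeff_zero_one, inv_mul_cancel₀ hr₀0, sub_self]
  set s := (polyAt r a).totalDegree + 1
  set e := p ^ s - 1 with he
  have hele : (polyAt r a).totalDegree ≤ e := by
    have := Nat.lt_pow_self hp.out.one_lt (n := s)
    omega
  haveI : Module.Finite k (Steinberg.M k n e) := Steinberg.finite_M e
  let b := Module.finBasis k (Steinberg.M k n e)
  let pair : (CoordGrp.FormIdx n d → k) → Matrix (Fin (Module.finrank k (Steinberg.M k n e)))
      (Fin (Module.finrank k (Steinberg.M k n e))) k := fun x => Matrix.of fun u v =>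
    coeff (Steinberg.allExp n e) (homAt r e x * ((b u : Steinberg.Fn k n) * Steinberg.colRev (b v : Steinberg.Fn k n)))
  -- the universal matrix
  let GU : Matrix (Fin n) (Fin n) (MvPolynomial (Fin n × Fin n) (CoordGrp.FormRing k n d)) :=
    Matrix.of fun i j => X (i, j)
  let FU : MvPolynomial (Fin n) (MvPolynomial (Fin n × Fin n) (CoordGrp.FormRing k n d)) :=
    MvPolynomial.map C (CoordGrp.formPoly fun m => (X m : CoordGrp.FormRing k n d))
  let RU : MvPolynomial (Fin n × Fin n) (CoordGrp.FormRing k n d) :=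
    ∑ j ∈ Finset.range (e + 1), homogeneousComponent (n * j) (aeval (coordsAct (k := k) GU FU) r) * GU.det ^ (e - j)
  let Φ : CoordGrp.FormRing k n d := (Matrix.of fun u v => coeff (Steinberg.allExp n e)
    (RU * MvPolynomial.map C ((b u : Steinberg.Fn k n) * Steinberg.colRev (b v : Steinberg.Fn k n)))).det
  have hΦ : ∀ x, eval x Φ = (pair x).det := by
    intro x
    rw [RingHom.map_det]
    congr 1
    refine Matrix.ext fun u v => ?_
    simp only [pair, RingHom.mapMatrix_apply, Matrix.map_apply, Matrix.of_apply]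
    rw [← coeff_map, map_mul, MvPolynomial.map_map]
    congr 2
    · let φ : MvPolynomial (Fin n × Fin n) (CoordGrp.FormRing k n d) →ₐ[k] Steinberg.Fn k n :=
        MvPolynomial.mapAlgHom (aeval x)
      have hφ : ∀ P, MvPolynomial.map (eval x) P = φ P := fun P => by
        simp [φ, MvPolynomial.mapAlgHom_apply, aeval_eq_eval]
      rw [hφ, homAt, map_sum]
      refine Finset.sum_congr rfl fun j _ => ?_
      rw [map_mul, map_pow]
      congr 1
      · rw [polyAt, ← hφ]
        have hP : MvPolynomial.map (eval x) (aeval (coordsAct (k := k) GU FU) r) =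
            aeval (coordsAct (k := k) (Steinberg.gen k n) (MvPolynomial.map C (CoordGrp.formPoly x))) r := by
          rw [hφ, comp_aeval_apply]
          refine congrArg (fun f => aeval f r) (funext fun m => ?_)
          rw [coordsAct_map]
          congr 1
          · ext i j
            simp [φ, GU, Steinberg.gen]
          · simp only [FU, MvPolynomial.map_map]
            rw [show φ.toRingHom.comp C = (C : k →+* Steinberg.Fn k n).comp (eval x) from
              RingHom.ext fun c => by simp [φ, aeval_eq_eval]]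
            rw [← MvPolynomial.map_map]
            congr 1
            simp [CoordGrp.formPoly]
        rw [← hP]
        ext y
        simp only [coeff_map, coeff_homogeneousComponent]
        split_ifs <;> simp
      · congr 1
        rw [AlgHom.map_det]
        congr 1
        ext i j
        simp [φ, GU, Steinberg.gen]
    · rw [show (eval x).comp C = RingHom.id k from RingHom.ext fun c => eval_C c, MvPolynomial.map_id]
  -- degrees
  have hdeg : ∀ x (f f' : Steinberg.M k n e),
      (homAt r e x * ((f : Steinberg.Fn k n) * Steinberg.colRev (f' : Steinberg.Fn k n))).IsHomogeneous (n * n * e) := by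
    intro x f f'
    have h1 := (isHomogeneous_homAt r e x).mul
      ((Steinberg.M_le e f.2 : IsHomogeneous _ _).mul (Steinberg.isHomogeneous_colRev (Steinberg.M_le e f'.2)))
    have h2 : n * e + ((∑ j : Fin n, (j : ℕ) * e) + ∑ j : Fin n, (j : ℕ) * e) = n * n * e := by
      rw [← Finset.sum_mul, Fin.sum_univ_eq_sum_range (fun i => i), ← two_mul, ← mul_assoc, mul_comm 2,
        Finset.sum_range_id_mul_two]
      obtain ⟨m, hm⟩ := Nat.exists_eq_succ_of_ne_zero (NeZero.ne n)
      rw [hm, Nat.succ_sub_one, Nat.succ_eq_add_one]; ring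
    rwa [h2] at h1
  -- the action on `M`
  let T : Matrix (Fin n) (Fin n) k → (Steinberg.M k n e →ₗ[k] Steinberg.M k n e) := fun g =>
    LinearMap.restrict (Steinberg.lmul g).toLinearMap fun f hf => Steinberg.lmul_mem_M e g hf
  let χ : Matrix (Fin n) (Fin n) k →* k :=
    { toFun := fun g => LinearMap.det (T g)
      map_one' := by
        rw [show T 1 = LinearMap.id from LinearMap.ext fun f => Subtype.ext (Steinberg.lmul_one (f : Steinberg.Fn k n))]
        exact LinearMap.det_id
      map_mul' := fun g g' => by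
        rw [show T (g * g') = T g' ∘ₗ T g from LinearMap.ext fun f =>
          Subtype.ext (Steinberg.lmul_lmul g' g (f : Steinberg.Fn k n)).symm, LinearMap.det_comp, mul_comm] }
  have hinv : ∀ g : Matrix (Fin n) (Fin n) k, g.det = 1 → ∀ x, eval (mv g x) Φ = eval x Φ := by
    intro g hg x
    rw [hΦ, hΦ]
    let Tm := LinearMap.toMatrix b b (T g)
    have hTdet : Tm.det = 1 := by rw [LinearMap.det_toMatrix]; exact Steinberg.monoidHom_eq_one χ hg
    have hκ : Steinberg.kappa e g = 1 := Steinberg.monoidHom_eq_one (Steinberg.kappaHom p s) hg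
    have hTb : ∀ u, Steinberg.lmul g (b u : Steinberg.Fn k n) = ∑ w, Tm w u • (b w : Steinberg.Fn k n) := by
      intro u
      have h1 : ∑ w, Tm w u • b w = T g (b u) := by
        simp only [Tm, LinearMap.toMatrix_apply]
        exact b.sum_repr _
      have h2 := congrArg Subtype.val h1
      rw [Submodule.coe_sum] at h2
      rw [← show ((T g (b u)) : Steinberg.Fn k n) = Steinberg.lmul g (b u : Steinberg.Fn k n) from rfl, ← h2]
      rfl
    have key : pair x = Tm.transpose * pair (mv g x) * Tm := by
      refine Matrix.ext fun u v => ?_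
      have h1 := Steinberg.coeff_lmul p s g (hdeg x (b u) (b v))
      rw [← he, hκ, one_mul, map_mul, map_mul, ← homAt_mv hd r e x hg, Steinberg.lmul_colRev, hTb, hTb] at h1
      show coeff _ _ = _
      rw [← h1]
      simp only [map_sum, map_smul, Finset.sum_mul, Finset.mul_sum, coeff_sum, smul_mul_assoc, mul_smul_comm,
        coeff_smul, smul_eq_mul, Matrix.mul_apply, Matrix.transpose_apply, pair, Matrix.of_apply]
      exact Finset.sum_congr rfl fun _ _ => Finset.sum_congr rfl fun _ _ => by ring
    rw [key, Matrix.det_mul, Matrix.det_mul, Matrix.det_transpose, hTdet, one_mul, mul_one]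
  have ha0 : eval a Φ ≠ 0 := by
    rw [hΦ]
    intro h0
    obtain ⟨c, hc, hc0⟩ := Matrix.exists_vecMul_eq_zero_iff.2 h0
    set f : Steinberg.M k n e := ∑ u, c u • b u with hf
    have hker : ∀ f' : Steinberg.M k n e, coeff (Steinberg.allExp n e)
        ((Steinberg.gen k n).det ^ e * ((f : Steinberg.Fn k n) * Steinberg.colRev (f' : Steinberg.Fn k n))) = 0 := by
      intro f'
      rw [← homAt_eq_det_pow hd hra hele, ← b.sum_repr f', hf, Submodule.coe_sum, Submodule.coe_sum]
      simp only [Submodule.coe_smul, map_sum, map_smul, Finset.sum_mul, Finset.mul_sum, coeff_sum, smul_mul_assoc,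
        mul_smul_comm, coeff_smul, smul_eq_mul]
      refine Finset.sum_eq_zero fun v _ => ?_
      have := congrFun hc0 v
      simp only [Matrix.vecMul, dotProduct, pair, Matrix.of_apply, Pi.zero_apply] at this
      rw [← Finset.mul_sum, this, mul_zero]
    have hf0 : (f : Steinberg.Fn k n) = 0 :=
      Steinberg.pairing_nondegenerate p s f.2 fun f' hf' => hker ⟨f', hf'⟩
    refine hc (funext fun u => ?_)
    exact Fintype.linearIndependent_iff.1 b.linearIndependent c (Subtype.ext hf0) u
  have h00 : coeff 0 Φ = 0 := by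
    have h1 := hΦ (fun _ => (0 : k))
    rw [show (fun _ => (0 : k)) = (0 : CoordGrp.FormIdx n d → k) from rfl, eval_zero, constantCoeff_eq] at h1
    rw [h1]
    haveI : Nonempty (Fin (Module.finrank k (Steinberg.M k n e))) := by
      refine ⟨⟨0, Module.finrank_pos_iff.2 ⟨⟨_, Steinberg.h0_mem e⟩, 0, fun h => ?_⟩⟩⟩
      have := congrArg Subtype.val h
      exact Steinberg.coeff_det_mul_ne_zero (k := k) (n := n) e (by simp [show Steinberg.h0 k n e = 0 from this])
    have hz : pair (fun _ => (0 : k)) = 0 := by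
      refine Matrix.ext fun u v => ?_
      simp [pair, homAt_zero r e hr0]
    show (pair (fun _ => (0 : k))).det = 0
    rw [hz, Matrix.det_zero]
  have hΦinv := mem_invariants_of_forall hd hinv
  intro hnull
  refine ha0 ?_
  rw [← sum_homogeneousComponent Φ, map_sum]
  refine Finset.sum_eq_zero fun l _ => ?_
  rcases Nat.eq_zero_or_pos l with rfl | hl
  · rw [homogeneousComponent_zero, h00, map_zero, map_zero]
  · exact hnull _ (Comodule.HilbertFG.homogeneousComponent_mem_invariants (slForms_isLinear k n d) hΦinv l) l hl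
      (homogeneousComponent_isHomogeneous l Φ)

theorem semistable_of_not_posData [IsAlgClosed k] [NeZero n] (hd : (d.factorial : k) ≠ 0)
    {a : CoordGrp.FormIdx n d → k} (h : ¬ PosData (CoordGrp.formPoly a)) : IsSemistableForm a := by
  obtain ⟨p, hp⟩ := CharP.exists k
  rcases CharP.char_is_prime_or_zero k p with hpr | rfl
  · haveI := Fact.mk hpr
    exact semistable_of_not_posData_charP p hd h
  · haveI : CharZero k := CharP.charP_to_charZero k
    exact (semistableForm_iff a).2 h

end Groth.Agent.GITLib
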