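import Groth.Agent.GITLib.HMLinear
import Groth.Agent.GITLib.HMFormsSemistable

/-! Semistability of finite sets of points. -/

set_option autoImplicit false
universe u

open MvPolynomial

noncomputable section

namespace Groth.Agent.GITLib

set_option backward.isDefEq.respectTransparency false

variable {k : Type u} [Field k] {N : ℕ}

theorem posData_of_subspace {d : ℕ} (p : Fin d → Fin N → k) (W : Submodule k (Fin N → k)) (hW : W ≠ ⊥)
    (hW' : W ≠ ⊤) (hcount : d * Module.finrank k W < Nat.card {i : Fin d // p i ∈ W} * N) :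
    PosData (∏ i, linN (p i)) := by
  classical
  obtain ⟨g, S, hg, hS, hgW⟩ := exists_adapted W hW
  set w := Module.finrank k W with hw
  have hwN : w < N := by
    have := Submodule.finrank_lt hW'
    rwa [Module.finrank_fin_fun] at this
  let r : Fin N → ℤ := fun j => if j ∈ S then (N : ℤ) - w else -(w : ℤ)
  refine ⟨g, r, hg, ?_, fun e he => ?_⟩
  · simp only [r, Finset.sum_ite, Finset.sum_const, Finset.filter_mem_eq_inter, Finset.univ_inter, hS]
    rw [Finset.filter_not, Finset.filter_mem_eq_inter, Finset.univ_inter, Finset.card_sdiff_of_subset (Finset.subset_univ _),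
      Finset.card_univ, Fintype.card_fin, hS, nsmul_eq_mul, nsmul_eq_mul, Nat.cast_sub hwN.le]
    ring
  · rw [map_prod, Finset.prod_congr rfl (fun i _ => act_linN g (p i))] at he
    refine lt_of_lt_of_le ?_ (weight_le_prod_lin r Finset.univ (fun i => Matrix.vecMul (p i) g)
      (fun i => if p i ∈ W then (N : ℤ) - w else -(w : ℤ)) (fun i _ j hj => ?_) e he)
    · rw [Finset.sum_ite, Finset.sum_const, Finset.sum_const, Finset.filter_not,
        Finset.card_sdiff_of_subset (Finset.filter_subset _ _), Finset.card_univ, Fintype.card_fin, nsmul_eq_mul,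
        nsmul_eq_mul, Nat.cast_sub ((Finset.card_filter_le _ _).trans_eq (by simp))]
      rw [Nat.card_eq_fintype_card, Fintype.card_subtype] at hcount
      have : (d : ℤ) * w < ((Finset.univ.filter fun i => p i ∈ W).card : ℤ) * N := by exact_mod_cast hcount
      nlinarith
    · simp only [r]
      split_ifs with h1 h2 h2
      · exact le_rfl
      · exact absurd (hgW _ h1 j h2) hj
      · omega
      · exact le_rfl

theorem not_posData_prod_lin [NeZero N] {d : ℕ} (p : Fin d → Fin N → k) (hp : ∀ i, p i ≠ 0)
    (hle : ∀ W : Submodule k (Fin N → k), Nat.card {i : Fin d // p i ∈ W} * N ≤ d * Module.finrank k W) :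
    ¬ PosData (∏ i, linN (p i)) := by
  classical
  rintro ⟨g, r, hg, hsum, hw⟩
  set q : Fin d → Fin N → k := fun i => Matrix.vecMul (p i) g with hq
  have hgu : IsUnit g := (Matrix.isUnit_iff_isUnit_det g).2 (by rw [hg]; exact isUnit_one)
  have hq0 : ∀ i, q i ≠ 0 := fun i h => hp i (Matrix.vecMul_injective_of_isUnit hgu (by simpa [hq] using h))
  have huniv : (Finset.univ : Finset (Fin N)).Nonempty := ⟨0, Finset.mem_univ _⟩
  obtain ⟨lmin, -, hmin⟩ := Finset.exists_min_image Finset.univ r huniv
  let s : Fin N → ℕ := fun l => (r l - r lmin).toNat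
  have hs : ∀ l, (s l : ℤ) = r l - r lmin := fun l => by
    have := hmin l (Finset.mem_univ _)
    simp only [s]; omega
  have hne : ∀ i, (Finset.univ.filter fun j => q i j ≠ 0).Nonempty := fun i => by
    obtain ⟨j, hj⟩ := Function.ne_iff.1 (hq0 i)
    exact ⟨j, by simpa using hj⟩
  choose jm hjm hjmin using fun i => Finset.exists_min_image _ s (hne i)
  obtain ⟨e, he, hewt⟩ := exists_coeff_prod_lin r Finset.univ q (fun i => r (jm i))
    (fun i _ j hj => by
      have := hjmin i j (Finset.mem_filter.2 ⟨Finset.mem_univ _, hj⟩)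
      have := hs j; have := hs (jm i); omega)
    (fun i _ => ⟨jm i, (Finset.mem_filter.1 (hjm i)).2, rfl⟩)
  have h0 : 0 < ∑ i, r (jm i) := hewt ▸ hw e (by
    rw [map_prod, Finset.prod_congr rfl (fun i _ => act_linN g (p i))]; exact he)
  set T := ∑ l, s l with hT
  have hsT : ∀ l, s l ≤ T := fun l => Finset.single_le_sum (fun _ _ => Nat.zero_le _) (Finset.mem_univ l)
  have hlayer : ∀ m ≤ T, ((Finset.Icc 1 T).filter fun t => t ≤ m).card = m := fun m hm => by
    rw [show (Finset.Icc 1 T).filter (fun t => t ≤ m) = Finset.Icc 1 m from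
      Finset.ext fun t => by simp only [Finset.mem_filter, Finset.mem_Icc]; omega]
    simp
  have hcnt : ∀ t ∈ Finset.Icc 1 T, (Finset.univ.filter fun i => t ≤ s (jm i)).card * N ≤
      d * (Finset.univ.filter fun l => t ≤ s l).card := by
    intro t ht
    have ht1 : 1 ≤ t := (Finset.mem_Icc.1 ht).1
    have hli : LinearIndependent k (fun l : {l // t ≤ s l} => (Pi.single l.1 1 : Fin N → k)) := by
      have := (Pi.basisFun k (Fin N)).linearIndependent.comp (fun l : {l // t ≤ s l} => l.1) Subtype.val_injective
      convert this using 1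
      funext l
      simp
    set f := (Matrix.vecMulLinear g) with hf
    let U := Submodule.span k (Set.range fun l : {l // t ≤ s l} => (Pi.single l.1 1 : Fin N → k))
    have hfinj : Function.Injective f := Matrix.vecMul_injective_of_isUnit hgu
    have hfsurj : Function.Surjective f := LinearMap.surjective_of_injective hfinj
    set W := U.comap f with hW
    have hdimU : Module.finrank k U = (Finset.univ.filter fun l => t ≤ s l).card := by
      rw [finrank_span_eq_card hli, Fintype.card_subtype]
    have hdim : Module.finrank k W = (Finset.univ.filter fun l => t ≤ s l).card := by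
      rw [← hdimU, hW]
      exact LinearEquiv.finrank_eq ((LinearEquiv.ofBijective f ⟨hfinj, hfsurj⟩).ofSubmodule' U)
    have hmem : ∀ i, t ≤ s (jm i) → p i ∈ W := fun i hi => by
      rw [hW, Submodule.mem_comap]
      show q i ∈ U
      rw [← Finset.univ_sum_single (q i)]
      refine Submodule.sum_mem _ fun j _ => ?_
      by_cases hj : q i j = 0
      · simp [hj]
      · have := hjmin i j (Finset.mem_filter.2 ⟨Finset.mem_univ _, hj⟩)
        rw [show (Pi.single j (q i j) : Fin N → k) = q i j • Pi.single j 1 by simp [← Pi.single_smul]]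
        exact Submodule.smul_mem _ _ (Submodule.subset_span ⟨⟨j, le_trans hi this⟩, rfl⟩)
    have hle' : (Finset.univ.filter fun i => t ≤ s (jm i)).card ≤ Nat.card {i : Fin d // p i ∈ W} := by
      rw [Nat.card_eq_fintype_card, Fintype.card_subtype]
      exact Finset.card_le_card fun i hi =>
        Finset.mem_filter.2 ⟨Finset.mem_univ _, hmem i (Finset.mem_filter.1 hi).2⟩
    have := hle W
    rw [hdim] at this
    exact le_trans (Nat.mul_le_mul_right N hle') this
  have hlt' : (∑ i, s (jm i)) * N ≤ d * ∑ l, s l := by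
    have e1 : ∑ i, s (jm i) = ∑ t ∈ Finset.Icc 1 T, (Finset.univ.filter fun i => t ≤ s (jm i)).card := by
      simp only [Finset.card_filter]
      rw [Finset.sum_comm]
      exact Finset.sum_congr rfl fun i _ => by rw [← Finset.card_filter, hlayer _ (hsT _)]
    have e2 : ∑ l, s l = ∑ t ∈ Finset.Icc 1 T, (Finset.univ.filter fun l => t ≤ s l).card := by
      simp only [Finset.card_filter]
      rw [Finset.sum_comm]
      exact Finset.sum_congr rfl fun l _ => by rw [← Finset.card_filter, hlayer _ (hsT _)]
    rw [e1, e2, Finset.sum_mul, Finset.mul_sum]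
    exact Finset.sum_le_sum hcnt
  have h2 : ((∑ i, (s (jm i) : ℤ)) * N) ≤ d * ∑ l, (s l : ℤ) := by exact_mod_cast hlt'
  simp only [hs, Finset.sum_sub_distrib, Finset.sum_const, Finset.card_univ, Fintype.card_fin, nsmul_eq_mul,
    hsum] at h2
  have hN : (0 : ℤ) < N := by exact_mod_cast Nat.pos_of_ne_zero (NeZero.ne N)
  nlinarith

theorem semistable_iff_count [IsAlgClosed k] [NeZero N] {d : ℕ} (hd : (d.factorial : k) ≠ 0) (p : Fin d → Fin N → k)
    (hp : ∀ i, p i ≠ 0) (a : CoordGrp.FormIdx N d → k) (ha : CoordGrp.formPoly a = ∏ i, linN (p i)) :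
    IsSemistableForm a ↔
      ∀ W : Submodule k (Fin N → k), Nat.card {i : Fin d // p i ∈ W} * N ≤ d * Module.finrank k W := by
  refine ⟨fun hs W => ?_, fun h => semistable_of_not_posData hd (ha ▸ not_posData_prod_lin p hp h)⟩
  by_cases hW : W = ⊥
  · haveI : IsEmpty {i : Fin d // p i ∈ W} := ⟨fun i => hp i.1 (by simpa [hW] using i.2)⟩
    simp
  by_cases hW' : W = ⊤
  · subst hW'
    rw [finrank_top, Module.finrank_fin_fun]
    refine Nat.mul_le_mul_right N ?_
    simpa using Nat.card_le_card_of_injective (fun i : {i : Fin d // p i ∈ (⊤ : Submodule k (Fin N → k))} => i.1)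
      Subtype.val_injective
  by_contra h
  exact not_semistable_of_posData hd (ha ▸ posData_of_subspace p W hW hW' (not_le.1 h)) hs

end Groth.Agent.GITLib
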