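import Mathlib

/-! A chain basis for a nilpotent matrix. -/

set_option autoImplicit false
universe u

open Polynomial DirectSum

noncomputable section

namespace Groth.Agent.GITLib

set_option backward.isDefEq.respectTransparency false

theorem exists_chain_basis {k : Type u} [Field k] {n : ℕ} (M : Matrix (Fin n) (Fin n) k) (hM : IsNilpotent M) :
    ∃ (d : ℕ) (sz : Fin d → ℕ) (b : Module.Basis (Σ i : Fin d, Fin (sz i)) k (Fin n → k)),
      ∀ (i : Fin d) (j : Fin (sz i)), M.mulVec (b ⟨i, j⟩) =
        if h : (j : ℕ) + 1 < sz i then b ⟨i, ⟨(j : ℕ) + 1, h⟩⟩ else 0 := by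
  classical
  obtain ⟨N, hN⟩ := hM
  let φ : Module.End k (Fin n → k) := Matrix.toLinAlgEquiv' M
  have hφ : φ ^ N = 0 := by rw [← map_pow, hN, map_zero]
  let V := Module.AEval' φ
  let o : (Fin n → k) ≃ₗ[k] V := Module.AEval'.of φ
  haveI : Module.Finite k[X] V := Module.Finite.of_restrictScalars_finite k k[X] V
  have hX : ∀ v, (X : k[X]) • o v = o (φ v) := fun v => Module.AEval'.X_smul_of φ v
  have hXp : ∀ (j : ℕ) v, (X : k[X]) ^ j • o v = o ((φ ^ j) v) := fun j => by
    induction j with
    | zero => intro v; simp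
    | succ j ih => intro v; rw [pow_succ, mul_smul, hX, ih, pow_succ, Module.End.mul_apply]
  have htor : Module.IsTorsion' V (Submonoid.powers (X : k[X])) := by
    intro x
    obtain ⟨v, rfl⟩ := o.surjective x
    exact ⟨⟨X ^ N, N, rfl⟩, show (X : k[X]) ^ N • o v = 0 by rw [hXp, hφ, LinearMap.zero_apply, map_zero]⟩
  obtain ⟨d, sz, ⟨e⟩⟩ := Module.torsion_by_prime_power_decomposition (p := (X : k[X])) Polynomial.irreducible_X htor
  let g : Fin d → V := fun i => e.symm (DirectSum.lof k[X] (Fin d) (fun i => k[X] ⧸ k[X] ∙ (X : k[X]) ^ sz i) i (Submodule.Quotient.mk 1))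
  let v : (Σ i : Fin d, Fin (sz i)) → (Fin n → k) := fun p => o.symm ((X : k[X]) ^ (p.2 : ℕ) • g p.1)
  have hg : ∀ (i : Fin d) (q : k[X]), e (q • g i) =
      DirectSum.lof k[X] (Fin d) (fun i => k[X] ⧸ k[X] ∙ (X : k[X]) ^ sz i) i (Submodule.Quotient.mk q) := fun i q => by
    rw [map_smul, LinearEquiv.apply_symm_apply, ← map_smul, ← Submodule.Quotient.mk_smul, smul_eq_mul, mul_one]
  have hli : LinearIndependent k v := by
    refine Fintype.linearIndependent_iff.2 fun c hc p => ?_
    obtain ⟨i, j⟩ := p
    have h1 : e (∑ i, (∑ j : Fin (sz i), C (c ⟨i, j⟩) * (X : k[X]) ^ (j : ℕ)) • g i) = 0 := by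
      have h0 := congrArg o hc
      rw [map_sum, map_zero, Fintype.sum_sigma] at h0
      rw [← map_zero e, ← h0]
      congr 1
      refine Finset.sum_congr rfl fun i _ => ?_
      rw [Finset.sum_smul]
      refine Finset.sum_congr rfl fun j _ => ?_
      rw [map_smul, LinearEquiv.apply_symm_apply, ← algebraMap_smul k[X] (c ⟨i, j⟩), smul_smul]
      rfl
    rw [map_sum] at h1
    have h2 := congrArg (DirectSum.component k[X] (Fin d) (fun i => k[X] ⧸ k[X] ∙ (X : k[X]) ^ sz i) i) h1
    rw [map_sum, map_zero, Finset.sum_eq_single i] at h2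
    · rw [hg, DirectSum.component.lof_self, Submodule.Quotient.mk_eq_zero, Submodule.mem_span_singleton] at h2
      obtain ⟨r, hr⟩ := h2
      have h3 := congrArg (fun q => Polynomial.coeff q (j : ℕ)) hr
      simp only [smul_eq_mul, finsetSum_coeff, coeff_C_mul_X_pow] at h3
      rw [coeff_mul_X_pow', if_neg (not_le.2 j.2), Finset.sum_eq_single j] at h3
      · simpa using h3.symm
      · intro b _ hb; rw [if_neg fun h => hb (Fin.ext h.symm)]
      · simp
    · intro b _ hb
      rw [hg, DirectSum.component.of, dif_neg hb]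
    · simp
  have hsp : ⊤ ≤ Submodule.span k (Set.range v) := by
    intro x _
    have key : ∀ y, o.symm (e.symm y) ∈ Submodule.span k (Set.range v) := fun y => by
      induction y using DirectSum.induction_on with
      | zero => simp
      | add a b ha hb => rw [map_add, map_add]; exact Submodule.add_mem _ ha hb
      | of i a =>
        obtain ⟨q, rfl⟩ := Submodule.Quotient.mk_surjective _ a
        rw [← DirectSum.lof_eq_of k[X], ← hg i q, LinearEquiv.symm_apply_apply]
        have hkill : (X : k[X]) ^ sz i • g i = 0 := by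
          apply e.injective
          rw [hg, map_zero, (Submodule.Quotient.mk_eq_zero _).2 (Submodule.mem_span_singleton_self _), map_zero]
        induction q using Polynomial.induction_on' with
        | add a b ha hb => rw [add_smul, map_add]; exact Submodule.add_mem _ ha hb
        | monomial m a =>
          rw [← C_mul_X_pow_eq_monomial, mul_smul, show (C a : k[X]) = algebraMap k k[X] a from rfl, algebraMap_smul, map_smul]
          refine Submodule.smul_mem _ _ ?_
          by_cases hm : m < sz i
          · exact Submodule.subset_span ⟨⟨i, ⟨m, hm⟩⟩, rfl⟩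
          · obtain ⟨c, rfl⟩ := Nat.exists_eq_add_of_le (not_lt.1 hm)
            rw [pow_add, mul_comm, mul_smul, hkill, smul_zero, map_zero]
            exact Submodule.zero_mem _
    have := key (e (o x))
    rwa [LinearEquiv.symm_apply_apply, LinearEquiv.symm_apply_apply] at this
  refine ⟨d, sz, Module.Basis.mk hli hsp, fun i j => ?_⟩
  simp only [Module.Basis.mk_apply]
  have h1 : M.mulVec (v ⟨i, j⟩) = o.symm ((X : k[X]) ^ ((j : ℕ) + 1) • g i) := by
    apply o.injective
    rw [LinearEquiv.apply_symm_apply, pow_succ', mul_smul]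
    have h2 := hX (v ⟨i, j⟩)
    rw [show o (v ⟨i, j⟩) = (X : k[X]) ^ (j : ℕ) • g i from o.apply_symm_apply _] at h2
    rw [h2]
    rfl
  rw [h1]
  split_ifs with h
  · rfl
  · rw [show (j : ℕ) + 1 = sz i by have := j.2; omega, LinearEquiv.map_eq_zero_iff]
    apply e.injective
    rw [hg, map_zero, (Submodule.Quotient.mk_eq_zero _).2 (Submodule.mem_span_singleton_self _), map_zero]

end Groth.Agent.GITLib
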