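import Groth.Agent.GITLib.Apolar
import Groth.Agent.Comodule.Reductive
import Groth.Prelude.Def_GLin5

/-! Invariant functionals on the coordinate rings of GL_n and SL_n in characteristic zero. -/

set_option autoImplicit false
universe u v

open TensorProduct MvPolynomial
open Groth.Agent.Comodule

noncomputable section

namespace Groth.Agent.GITLib

set_option backward.isDefEq.respectTransparency false

variable {n : ℕ} {k : Type u} [Field k]

theorem exists_factor {V W : Type u} [AddCommGroup V] [Module k V] [AddCommGroup W] [Module k W]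
    (f : V →ₗ[k] W) (hf : Function.Surjective f) (L : V →ₗ[k] k) (h : ∀ x, f x = 0 → L x = 0) :
    ∃ l : W →ₗ[k] k, ∀ x, l (f x) = L x := by
  refine ⟨(LinearMap.ker f).liftQ L (fun x hx => h x hx) ∘ₗ (f.quotKerEquivOfSurjective hf).symm.toLinearMap,
    fun x => ?_⟩
  have : (f.quotKerEquivOfSurjective hf).symm (f x) = Submodule.Quotient.mk x :=
    (LinearEquiv.symm_apply_eq _).2 rfl
  simp [this]

section Base

variable {B : Type u} [CommRing B] [Algebra k B]

/-- Extension of scalars of polynomials. -/
def bc (σ : Type) (k : Type u) [Field k] (B : Type u) [CommRing B] [Algebra k B] :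
    MvPolynomial σ k ⊗[k] B →ₐ[k] MvPolynomial σ B :=
  Algebra.TensorProduct.lift (MvPolynomial.mapAlgHom (Algebra.ofId k B))
    (IsScalarTower.toAlgHom k B (MvPolynomial σ B)) fun _ _ => Commute.all _ _

theorem lcon_ofVals {σ : Type} [Fintype σ] (c : (σ →₀ ℕ) → k) (z : MvPolynomial σ k ⊗[k] B) :
    lcon (ofVals c) z = ofVals (fun d => algebraMap k B (c d)) (bc σ k B z) := by
  induction z with
  | zero => simp
  | add x y hx hy => simp only [map_add, hx, hy]
  | tmul P b =>
    induction P using MvPolynomial.induction_on' with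
    | monomial d a =>
      simp only [bc, Algebra.TensorProduct.lift_tmul, MvPolynomial.mapAlgHom_apply, IsScalarTower.coe_toAlgHom',
        MvPolynomial.algebraMap_eq, lcon_tmul, ofVals_monomial, Algebra.smul_def, map_mul]
      rw [MvPolynomial.map_monomial, mul_comm _ (C b), C_mul_monomial, ofVals_monomial]
      change _ = b * algebraMap k B a * _
      ring
    | add p q hp hq => simp only [TensorProduct.add_tmul, map_add, hp, hq]

theorem bc_comul (f : MvPolynomial (Fin n × Fin n) k →ₐ[k] B) (P : MvPolynomial (Fin n × Fin n) k) :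
    bc (Fin n × Fin n) k B (Algebra.TensorProduct.map (AlgHom.id k _) f (CoordGrp.MatPoly.comul n k P)) =
      subst (rmul (Matrix.of fun i j => f (X (i, j)))) (MvPolynomial.map (algebraMap k B) P) := by
  induction P using MvPolynomial.induction_on with
  | C a =>
    rw [← MvPolynomial.algebraMap_eq, AlgHom.commutes, AlgHom.commutes, AlgHom.commutes, subst]
    simp [MvPolynomial.algebraMap_eq, IsScalarTower.algebraMap_apply k B (MvPolynomial (Fin n × Fin n) B)]
  | add p q hp hq => simp only [map_add, hp, hq]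
  | mul_X p i hp =>
    simp only [map_mul, hp, MvPolynomial.map_X]
    congr 1
    obtain ⟨i, j⟩ := i
    rw [subst_rmul_X, CoordGrp.MatPoly.comul_X]
    simp [bc, mul_comm]

theorem ofVals_sval {D : ℕ} {Q : MvPolynomial (Fin n × Fin n) B} (hQ : Q.IsHomogeneous D) :
    ofVals (fun d => algebraMap k B (sval n k d)) Q =
      if n ∣ D then ofVals (fun d => algebraMap k B (lval n k (D / n) d)) Q else 0 := by
  split_ifs with h
  · refine ofVals_congr hQ fun d hd => ?_
    rw [sval, hd, if_pos h]
  · rw [ofVals_congr (c' := fun _ => (0 : B)) hQ fun d hd => by rw [sval, hd, if_neg h, map_zero]]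
    exact Q.induction_on' (fun e a => by simp) fun p q hp hq => by simp [hp, hq]

variable [CharZero k]

theorem lcon_lfun (f : MvPolynomial (Fin n × Fin n) k →ₐ[k] B) (q : ℕ) (P : MvPolynomial (Fin n × Fin n) k) :
    lcon (ofVals (lval n k q)) (Algebra.TensorProduct.map (AlgHom.id k _) f (CoordGrp.MatPoly.comul n k P)) =
      ofVals (lval n k q) P • f (detP n k) ^ q := by
  rw [lcon_ofVals, bc_comul, ofVals_lval, pair_det_pow_subst, ← map_detP (algebraMap k B), ← map_pow, pair_map,
    lfun_eq, Algebra.smul_def, map_mul]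
  have : (Matrix.of fun i j => f (X (i, j))).det = f (detP n k) := by
    rw [← aeval_detP (R := k) (fun p => f (X p))]
    exact DFunLike.congr_fun (MvPolynomial.aeval_unique f).symm _
  rw [this]; ring

theorem lcon_sfun (f : MvPolynomial (Fin n × Fin n) k →ₐ[k] B) (hf : f (detP n k) = 1)
    (P : MvPolynomial (Fin n × Fin n) k) :
    lcon (ofVals (sval n k)) (Algebra.TensorProduct.map (AlgHom.id k _) f (CoordGrp.MatPoly.comul n k P)) =
      ofVals (sval n k) P • (1 : B) := by
  induction P using MvPolynomial.induction_on' with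
  | monomial d c =>
    have hh : (monomial d c).IsHomogeneous d.degree := isHomogeneous_monomial c rfl
    rw [lcon_ofVals, bc_comul, ofVals_sval (subst_isHomogeneous _ (hh.map _))]
    have h2 := ofVals_sval (B := k) (k := k) hh
    simp only [Algebra.algebraMap_self, RingHom.id_apply] at h2
    rw [h2]
    split_ifs with h
    · have h3 := lcon_lfun f (d.degree / n) (monomial d c)
      rw [lcon_ofVals, bc_comul, hf, one_pow] at h3
      exact h3
    · rw [zero_smul]
  | add p q hp hq => simp only [map_add, hp, hq, add_smul]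

end Base

/-- Matrix entries as elements of the coordinate ring of `GL_n`. -/
def jGL (n : ℕ) (k : Type u) [Field k] : MvPolynomial (Fin n × Fin n) k →ₐ[k] CoordGrp.GLn n k :=
  MvPolynomial.aeval fun p => CoordGrp.GLn.X p.1 p.2

theorem jGL_detP : jGL n k (detP n k) = CoordGrp.GLn.det := by
  rw [jGL, aeval_detP]
  show _ = CoordGrp.GLn.mk n k (CoordGrp.GLb.genMat n k).det
  rw [AlgHom.map_det]
  rfl

theorem comul_jGL (P : MvPolynomial (Fin n × Fin n) k) :
    Coalgebra.comul (R := k) (jGL n k P) =
      Algebra.TensorProduct.map (jGL n k) (jGL n k) (CoordGrp.MatPoly.comul n k P) := by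
  show ((Bialgebra.comulAlgHom k (CoordGrp.GLn n k)).comp (jGL n k)) P = _
  rw [← AlgHom.comp_apply]
  refine DFunLike.congr_fun (MvPolynomial.algHom_ext fun p => ?_) P
  simp [jGL, CoordGrp.GLn.comul_X]

/-- The quotient map from the polynomial ring in the entries and `D`. -/
def mkP (n : ℕ) (k : Type u) [Field k] : MvPolynomial (CoordGrp.GLPoly.Idx n) k →ₐ[k] CoordGrp.GLn n k :=
  (CoordGrp.GLn.mk n k).comp (AlgHom.id k (MvPolynomial (CoordGrp.GLPoly.Idx n) k) :
    MvPolynomial (CoordGrp.GLPoly.Idx n) k →ₐ[k] CoordGrp.GLb n k)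

theorem mkP_X_inl (p : Fin n × Fin n) : mkP n k (X (Sum.inl p)) = CoordGrp.GLn.X p.1 p.2 := rfl

theorem mkP_X_inr : mkP n k (X (Sum.inr ())) = CoordGrp.GLn.Dinv := rfl

theorem mkP_rename (P : MvPolynomial (Fin n × Fin n) k) : mkP n k (rename Sum.inl P) = jGL n k P := by
  rw [← AlgHom.comp_apply]
  refine DFunLike.congr_fun (MvPolynomial.algHom_ext fun p => ?_) P
  rw [AlgHom.comp_apply, rename_X, mkP_X_inl, jGL, aeval_X]

theorem mkP_surjective : Function.Surjective (mkP n k) :=
  (Ideal.Quotient.mk_surjective : Function.Surjective (Ideal.Quotient.mk (CoordGrp.GLb.relIdeal n k)))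

theorem mkP_eq_zero {x : MvPolynomial (CoordGrp.GLPoly.Idx n) k} (hx : mkP n k x = 0) :
    ∃ a, a * (rename Sum.inl (detP n k) * X (Sum.inr ()) - 1) = x := by
  have hrel : (rename Sum.inl (detP n k) * X (Sum.inr ()) - 1 : MvPolynomial (CoordGrp.GLPoly.Idx n) k) =
      CoordGrp.GLb.rel n k := by
    rw [detP, AlgHom.map_det]
    have hM : (rename (Sum.inl : _ → CoordGrp.GLPoly.Idx n) : MvPolynomial (Fin n × Fin n) k →ₐ[k] _).mapMatrix
        (Matrix.mvPolynomialX (Fin n) (Fin n) k) = CoordGrp.GLPoly.gen n k := by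
      ext1 i j
      simp [Matrix.mvPolynomialX, CoordGrp.GLPoly.gen]
    rw [hM]
    rfl
  rw [hrel]
  exact Ideal.mem_span_singleton'.1 ((Ideal.Quotient.eq_zero_iff_mem).1 hx)

/-- The restriction of an exponent vector to the matrix entries. -/
def restr (e : CoordGrp.GLPoly.Idx n →₀ ℕ) : Fin n × Fin n →₀ ℕ :=
  Finsupp.equivFunOnFinite.symm fun p => e (Sum.inl p)

theorem monomial_split (e : CoordGrp.GLPoly.Idx n →₀ ℕ) (a : k) :
    (monomial e a : MvPolynomial (CoordGrp.GLPoly.Idx n) k) =
      rename Sum.inl (monomial (restr e) a) * X (Sum.inr ()) ^ e (Sum.inr ()) := by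
  rw [rename_monomial, X_pow_eq_monomial, monomial_mul, mul_one]
  congr 2
  ext s
  rcases s with p | ⟨⟩
  · simp [restr, Finsupp.mapDomain_apply Sum.inl_injective]
  · simp [Finsupp.mapDomain_of_notMem_range]

theorem mkP_monomial (e : CoordGrp.GLPoly.Idx n →₀ ℕ) (a : k) :
    mkP n k (monomial e a) = jGL n k (monomial (restr e) a) * CoordGrp.GLn.Dinv ^ e (Sum.inr ()) := by
  rw [monomial_split, map_mul, map_pow, mkP_rename, mkP_X_inr]

theorem gl_induction {p : CoordGrp.GLn n k → Prop} (hadd : ∀ x y, p x → p y → p (x + y))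
    (h : ∀ (P : MvPolynomial (Fin n × Fin n) k) (q : ℕ), p (jGL n k P * CoordGrp.GLn.Dinv ^ q))
    (x : CoordGrp.GLn n k) : p x := by
  obtain ⟨y, rfl⟩ := mkP_surjective x
  induction y using MvPolynomial.induction_on' with
  | monomial e a => rw [mkP_monomial]; exact h _ _
  | add r s hr hs => rw [map_add]; exact hadd _ _ hr hs

/-- A compatible family of functionals gives a functional on the coordinate ring of `GL_n`. -/
theorem exists_gl_functional (c : ℕ → (Fin n × Fin n →₀ ℕ) → k)
    (hc : ∀ q P, ofVals (c (q + 1)) (detP n k * P) = ofVals (c q) P) :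
    ∃ l : CoordGrp.GLn n k →ₗ[k] k, ∀ P q, l (jGL n k P * CoordGrp.GLn.Dinv ^ q) = ofVals (c q) P := by
  classical
  let L0 : MvPolynomial (CoordGrp.GLPoly.Idx n) k →ₗ[k] k := ofVals fun e => c (e (Sum.inr ())) (restr e)
  have hL0 : ∀ (P : MvPolynomial (Fin n × Fin n) k) (q : ℕ),
      L0 (rename Sum.inl P * X (Sum.inr ()) ^ q) = ofVals (c q) P := by
    intro P q
    induction P using MvPolynomial.induction_on' with
    | monomial d a =>
      rw [rename_monomial, X_pow_eq_monomial, monomial_mul, mul_one, ofVals_monomial, ofVals_monomial]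
      congr 2
      · simp [Finsupp.mapDomain_of_notMem_range]
      · ext p
        simp [restr, Finsupp.mapDomain_apply Sum.inl_injective]
    | add p r hp hr => simp only [map_add, add_mul, hp, hr]
  obtain ⟨l, hl⟩ := exists_factor (mkP n k).toLinearMap mkP_surjective L0 (by
    intro x hx
    obtain ⟨a, rfl⟩ := mkP_eq_zero hx
    clear hx
    induction a using MvPolynomial.induction_on' with
    | monomial e b =>
      rw [monomial_split]
      generalize monomial (restr e) b = P
      generalize e (Sum.inr ()) = q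
      rw [show rename Sum.inl P * X (Sum.inr ()) ^ q * (rename Sum.inl (detP n k) * X (Sum.inr ()) - 1) =
        rename Sum.inl (detP n k * P) * X (Sum.inr ()) ^ (q + 1) - rename Sum.inl P * X (Sum.inr ()) ^ q by
          rw [map_mul, pow_succ]; ring, map_sub, hL0, hL0, hc, sub_self]
    | add r s hr hs => rw [add_mul, map_add, hr, hs, add_zero])
  refine ⟨l, fun P q => ?_⟩
  rw [← hL0 P q, ← hl, AlgHom.toLinearMap_apply, map_mul (mkP n k), map_pow (mkP n k), mkP_rename, mkP_X_inr]

variable [CharZero k]

theorem linRed_GLn : HopfRep.IsLinearlyReductive k (CoordGrp.GLn n k) := by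
  obtain ⟨l, hl⟩ := exists_gl_functional (lval n k) lfun_det_mul
  refine fun V _ _ _ _ => isSemisimple_of_integral (l := l) ⟨fun a => ?_, ?_⟩ V
  · induction a using gl_induction with
    | hadd x y hx hy => simp only [map_add, add_smul, hx, hy]
    | h P q =>
      rw [Bialgebra.comul_mul, Bialgebra.comul_pow, CoordGrp.GLn.comul_Dinv, comul_jGL,
        Algebra.TensorProduct.tmul_pow, hl]
      have h1 : ∀ z, lcon l (Algebra.TensorProduct.map (jGL n k) (jGL n k) z *
          (CoordGrp.GLn.Dinv ^ q) ⊗ₜ[k] (CoordGrp.GLn.Dinv ^ q)) =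
          lcon (ofVals (lval n k q)) (Algebra.TensorProduct.map (AlgHom.id k _) (jGL n k) z) *
            CoordGrp.GLn.Dinv ^ q := by
        intro z
        induction z with
        | zero => simp
        | add x y hx hy => simp only [map_add, add_mul, hx, hy]
        | tmul x y => simp [Algebra.TensorProduct.tmul_mul_tmul, hl]
      rw [h1, lcon_lfun, jGL_detP, smul_mul_assoc, ← mul_pow, CoordGrp.GLn.det_mul_Dinv, one_pow]
  · have := hl 1 0
    rwa [map_one, one_mul, pow_zero, lfun_one] at this

theorem linRed_SLn : HopfRep.IsLinearlyReductive k (CoordGrp.SLn n k) := by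
  obtain ⟨L, hL⟩ := exists_gl_functional (fun _ => sval n k) fun _ P => sfun_det_mul P
  obtain ⟨l, hl⟩ := exists_factor (CoordGrp.SLn.mk n k).toLinearMap Ideal.Quotient.mk_surjective L (by
    intro x hx
    obtain ⟨a, rfl⟩ := Ideal.mem_span_singleton'.1 ((Ideal.Quotient.eq_zero_iff_mem).1 hx)
    clear hx
    rw [CoordGrp.GLn.slRel]
    induction a using gl_induction with
    | hadd x y hx' hy' => rw [add_mul, map_add, hx', hy', add_zero]
    | h P q => rw [mul_sub, mul_one, ← jGL_detP, mul_right_comm, ← map_mul, map_sub, hL, hL, mul_comm,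
        sfun_det_mul, sub_self])
  have hD : CoordGrp.SLn.mk n k (CoordGrp.GLn.Dinv : CoordGrp.GLn n k) = 1 := by
    have := congrArg (CoordGrp.SLn.mk n k) (CoordGrp.GLn.det_mul_Dinv (n := n) (k := k))
    rwa [map_mul, map_one, CoordGrp.SLn.det_eq_one, one_mul] at this
  set j := (CoordGrp.SLn.mk n k).comp (jGL n k) with hj
  have hlj : ∀ P, l (j P) = ofVals (sval n k) P := fun P => by
    have := hL P 0
    rw [pow_zero, mul_one, ← hl] at this
    exact this
  have hjdet : j (detP n k) = 1 := by rw [hj, AlgHom.comp_apply, jGL_detP, CoordGrp.SLn.det_eq_one]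
  have hsurj : ∀ a, ∃ P, j P = a := fun a => by
    obtain ⟨x, rfl⟩ : ∃ x, CoordGrp.SLn.mk n k x = a := Ideal.Quotient.mk_surjective a
    induction x using gl_induction with
    | hadd x y hx hy => obtain ⟨P, hP⟩ := hx; obtain ⟨Q, hQ⟩ := hy; exact ⟨P + Q, by rw [map_add, map_add, hP, hQ]⟩
    | h P q => exact ⟨P, by rw [map_mul, map_pow, hD, one_pow, mul_one]; rfl⟩
  refine fun V _ _ _ _ => isSemisimple_of_integral (l := l) ⟨fun a => ?_, ?_⟩ V
  · obtain ⟨P, rfl⟩ := hsurj a
    have hc : Coalgebra.comul (R := k) (j P) = Algebra.TensorProduct.map j j (CoordGrp.MatPoly.comul n k P) := by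
      show Coalgebra.comul (R := k) (CoordGrp.SLn.mkHom n k (jGL n k P)) = _
      rw [← CoalgHomClass.map_comp_comul_apply, comul_jGL, hj, Algebra.TensorProduct.map_comp]
      rfl
    have h1 : ∀ z, lcon l (Algebra.TensorProduct.map j j z) =
        lcon (ofVals (sval n k)) (Algebra.TensorProduct.map (AlgHom.id k _) j z) := by
      intro z
      induction z with
      | zero => simp
      | add x y hx hy => simp only [map_add, hx, hy]
      | tmul x y => simp [hlj]
    rw [hc, h1, lcon_sfun j hjdet, hlj]
  · have := hlj 1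
    rw [map_one] at this
    rw [this]
    have h0 := ofVals_congr (c := sval n k) (c' := lval n k 0) (P := (1 : MvPolynomial (Fin n × Fin n) k))
      (MvPolynomial.isHomogeneous_one _ _) fun d hd => by rw [sval, hd, if_pos (dvd_zero n), Nat.zero_div]
    rw [h0, lfun_one]

end Groth.Agent.GITLib
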