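import Groth.Agent.S12553
import Groth.Prelude.Def_GLin2
import Mathlib

/-! The numerical function along a one-parameter subgroup, for an arbitrary bialgebra coaction. -/

set_option autoImplicit false
universe u

open TensorProduct LaurentPolynomial
open GIT

noncomputable section

namespace Groth.Agent.GITLib

set_option backward.isDefEq.respectTransparency false

variable {k : Type u} [Field k] {A : Type u} [CommRing A] [Bialgebra k A] {ι : Type u} [Fintype ι]
  [HopfRep.Comod k A (MvPolynomial ι k)] [GLin.IsCoactAlg k A (MvPolynomial ι k)]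

theorem isDiagonalizable_laurent : HopfRep.IsDiagonalizable k k[T;T⁻¹] := by
  refine eq_top_iff.2 fun f _ => ?_
  induction f using LaurentPolynomial.induction_on' with
  | add p q hp hq => exact add_mem (hp trivial) (hq trivial)
  | C_mul_T n a =>
    rw [← smul_eq_C_mul]
    exact Submodule.smul_mem _ _ (Submodule.subset_span (AddMonoidAlgebra.isGroupLikeElem_single_one n))

theorem exists_weight_basis (hlin : GLin.IsLinear k A ι) (lam : A →ₐc[k] k[T;T⁻¹]) :
    ∃ (N : ℕ) (b : Fin N → MvPolynomial ι k) (e : Fin N → ℤ),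
      Submodule.span k (Set.range b) = MvPolynomial.homogeneousSubmodule ι k 1 ∧
      ∀ (v : ι → k) (m : ℤ), GLin.IsMu k A lam v m ↔ (∀ j, MvPolynomial.aeval v (b j) ≠ 0 → -e j ≤ m) ∧
        ∃ j, MvPolynomial.aeval v (b j) ≠ 0 ∧ m = -e j := by
  classical
  let c' : HopfRep.Comod k k[T;T⁻¹] (MvPolynomial ι k) := GLin.comodAlong lam inferInstance
  have hc' := GLin.isCoactAlg_comodAlong (R := MvPolynomial ι k) lam inferInstance inferInstance
  have hl' := GLin.isLinear_comodAlong lam inferInstance hlin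
  have key : ∀ (v : ι → k) (m : ℤ), @GLin.shiftedOrbit k _ k[T;T⁻¹] _ _ ι c' hc' (BialgHom.id k _) v m =
      GLin.shiftedOrbit k A lam v m := by
    intro v m
    refine MvPolynomial.algHom_ext fun i => ?_
    simp only [GLin.shiftedOrbit, MvPolynomial.aeval_X]
    congr 1
    simp only [GLin.lamOrbit, GLin.orbitHom, AlgHom.comp_apply, GLin.coactAlgHom_apply]
    rw [show c'.coact (MvPolynomial.X i) = TensorProduct.map LinearMap.id (lam : A →ₗ[k] k[T;T⁻¹])
      (HopfRep.Comod.coact (k := k) (A := A) (MvPolynomial.X i)) from rfl]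
    generalize HopfRep.Comod.coact (k := k) (A := A) (MvPolynomial.X i : MvPolynomial ι k) = z
    induction z with
    | zero => simp
    | tmul x y => simp
    | add x y hx hy => simp only [map_add, hx, hy]
  obtain ⟨N, b, χ, hχ, hb, hspan⟩ :=
    @S12553.exists_eigen_forms k _ k[T;T⁻¹] _ _ isDiagonalizable_laurent ι _ c' hc' hl'
  have he : ∀ j, ∃ n : ℤ, χ j = T n := fun j => by
    obtain ⟨n, hn⟩ := AddMonoidAlgebra.isGroupLikeElem_iff_mem_range_single_one.1 (hχ j)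
    exact ⟨n, hn.symm⟩
  choose e he using he
  refine ⟨N, b, e, hspan, fun v m => ?_⟩
  rw [← @S12553.isMu_iff k _ k[T;T⁻¹] _ _ ι _ c' hc' N b χ hb hspan v (BialgHom.id k _) e he m]
  unfold GLin.IsMu
  rw [key]

theorem existsUnique_isMu (hlin : GLin.IsLinear k A ι) (lam : A →ₐc[k] k[T;T⁻¹]) (v : ι → k) (hv : v ≠ 0) :
    ∃! m : ℤ, GLin.IsMu k A lam v m := by
  classical
  obtain ⟨N, b, e, hspan, hmu⟩ := exists_weight_basis hlin lam
  set S := Finset.univ.filter fun j => MvPolynomial.aeval v (b j) ≠ 0 with hS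
  have hne : S.Nonempty := by
    by_contra hI
    refine hv (funext fun i => ?_)
    have hi : MvPolynomial.X i ∈ Submodule.span k (Set.range b) := by
      rw [hspan]; exact MvPolynomial.isHomogeneous_X k i
    have h0 : Submodule.span k (Set.range b) ≤
        LinearMap.ker (MvPolynomial.aeval v : MvPolynomial ι k →ₐ[k] k).toLinearMap := by
      refine Submodule.span_le.2 ?_
      rintro _ ⟨j, rfl⟩
      by_contra hj
      exact hI ⟨j, by simpa [hS, LinearMap.mem_ker] using hj⟩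
    simpa using h0 hi
  obtain ⟨j₀, hj₀, hmax⟩ := S.exists_max_image (fun j => -e j) hne
  refine ⟨-e j₀, (hmu v _).2 ⟨fun j hj => hmax j (Finset.mem_filter.2 ⟨Finset.mem_univ _, hj⟩), j₀, (Finset.mem_filter.1 hj₀).2, rfl⟩, ?_⟩
  intro m hm
  obtain ⟨hall, j, hj, rfl⟩ := (hmu v m).1 hm
  exact le_antisymm (hmax j (Finset.mem_filter.2 ⟨Finset.mem_univ _, hj⟩)) (hall j₀ (Finset.mem_filter.1 hj₀).2)

theorem shiftedOrbit_zero (lam : A →ₐc[k] k[T;T⁻¹]) (v : ι → k) :
    GLin.shiftedOrbit k A lam v 0 = GLin.lamOrbit k A lam (GLin.vecPt k ι v) :=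
  MvPolynomial.algHom_ext fun i => by simp [GLin.shiftedOrbit]

theorem isMu_zero_iff (lam : A →ₐc[k] k[T;T⁻¹]) (v : ι → k) :
    GLin.IsMu k A lam v 0 ↔ GLin.HasLimit k A lam (GLin.vecPt k ι v) ∧
      ¬ GLin.IsLimit k A lam (GLin.vecPt k ι v) (GLin.vecPt k ι (fun _ => (0 : k))) := by
  unfold GLin.IsMu GLin.HasLimit GLin.IsLimit
  rw [shiftedOrbit_zero]
  constructor
  · rintro ⟨h, hh, hne⟩
    refine ⟨⟨h, hh⟩, fun ⟨h', hh', h0⟩ => hne (Eq.trans ?_ h0)⟩
    congr 1
    exact AlgHom.ext fun f => Polynomial.toLaurent_injective (DFunLike.congr_fun (hh.trans hh'.symm) f)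
  · rintro ⟨⟨h, hh⟩, hno⟩
    exact ⟨h, hh, fun h0 => hno ⟨h, hh, h0⟩⟩

theorem shift_up {lam : A →ₐc[k] k[T;T⁻¹]} {v : ι → k} {m m' : ℤ} (hlt : m < m')
    {h : MvPolynomial ι k →ₐ[k] Polynomial k}
    (hh : (Polynomial.toLaurentAlg (R := k)).comp h = GLin.shiftedOrbit k A lam v m) :
    ∃ h' : MvPolynomial ι k →ₐ[k] Polynomial k,
      (Polynomial.toLaurentAlg (R := k)).comp h' = GLin.shiftedOrbit k A lam v m' ∧
        (Polynomial.aeval (0 : k)).comp h' = MvPolynomial.aeval (fun _ : ι => (0 : k)) := by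
  obtain ⟨n, rfl⟩ : ∃ n : ℕ, m' = m + (n + 1 : ℕ) := ⟨(m' - m - 1).toNat, by omega⟩
  refine ⟨MvPolynomial.aeval fun i => Polynomial.X ^ (n + 1) * h (MvPolynomial.X i),
    MvPolynomial.algHom_ext fun i => ?_, MvPolynomial.algHom_ext fun i => ?_⟩
  · have := DFunLike.congr_fun hh (MvPolynomial.X i)
    simp only [AlgHom.comp_apply, GLin.shiftedOrbit, MvPolynomial.aeval_X, Polynomial.toLaurentAlg_apply] at this ⊢
    rw [map_mul, Polynomial.toLaurent_X_pow, this, T_add, ← mul_assoc, mul_comm (T _) (T m)]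
  · simp

theorem isMu_unique_false {lam : A →ₐc[k] k[T;T⁻¹]} {v : ι → k} {m : ℤ} (hm : GLin.IsMu k A lam v m)
    {h' : MvPolynomial ι k →ₐ[k] Polynomial k}
    (hh' : (Polynomial.toLaurentAlg (R := k)).comp h' = GLin.shiftedOrbit k A lam v m)
    (h0 : (Polynomial.aeval (0 : k)).comp h' = MvPolynomial.aeval (fun _ : ι => (0 : k))) : False := by
  obtain ⟨h, hh, hne⟩ := hm
  refine hne (Eq.trans ?_ h0)
  congr 1
  exact AlgHom.ext fun f => Polynomial.toLaurent_injective (DFunLike.congr_fun (hh.trans hh'.symm) f)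

theorem trichotomy (hlin : GLin.IsLinear k A ι) (lam : A →ₐc[k] k[T;T⁻¹]) (v : ι → k) (hv : v ≠ 0) :
    (¬ GLin.HasLimit k A lam (GLin.vecPt k ι v) ↔ ∃ m : ℤ, GLin.IsMu k A lam v m ∧ 0 < m) ∧
      ((GLin.HasLimit k A lam (GLin.vecPt k ι v) ∧
          ¬ GLin.IsLimit k A lam (GLin.vecPt k ι v) (GLin.vecPt k ι (fun _ => (0 : k)))) ↔
        GLin.IsMu k A lam v 0) ∧
      (GLin.IsLimit k A lam (GLin.vecPt k ι v) (GLin.vecPt k ι (fun _ => (0 : k))) ↔
        ∃ m : ℤ, GLin.IsMu k A lam v m ∧ m < 0) := by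
  obtain ⟨m, hm, huniq⟩ := existsUnique_isMu hlin lam v hv
  have hiff : ∀ P : ℤ → Prop, (∃ n, GLin.IsMu k A lam v n ∧ P n) ↔ P m := fun P =>
    ⟨fun ⟨n, hn, hp⟩ => huniq n hn ▸ hp, fun hp => ⟨m, hm, hp⟩⟩
  rw [hiff, hiff]
  have hneg : m < 0 → GLin.IsLimit k A lam (GLin.vecPt k ι v) (GLin.vecPt k ι (fun _ => (0 : k))) := by
    intro hlt
    obtain ⟨h, hh, -⟩ := hm
    obtain ⟨h', hh', h0⟩ := shift_up hlt hh
    exact ⟨h', by rw [hh', shiftedOrbit_zero], h0⟩
  have hpos : GLin.HasLimit k A lam (GLin.vecPt k ι v) → ¬ 0 < m := by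
    rintro ⟨h, hh⟩ hlt
    rw [← shiftedOrbit_zero] at hh
    obtain ⟨h', hh', h0⟩ := shift_up hlt hh
    exact isMu_unique_false hm hh' h0
  have hzero : GLin.IsMu k A lam v 0 ↔ m = 0 := ⟨fun h => (huniq 0 h).symm, fun h => h ▸ hm⟩
  refine ⟨⟨fun hno => ?_, fun hlt h => hpos h hlt⟩, (isMu_zero_iff lam v).symm, ⟨fun hl => ?_, hneg⟩⟩
  · rcases lt_trichotomy m 0 with hlt | heq | hgt
    · obtain ⟨h, hh, -⟩ := hneg hlt
      exact absurd ⟨h, hh⟩ hno
    · exact absurd ((isMu_zero_iff lam v).1 (hzero.2 heq)).1 hno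
    · exact hgt
  · rcases lt_trichotomy m 0 with hlt | heq | hgt
    · exact hlt
    · exact absurd hl ((isMu_zero_iff lam v).1 (hzero.2 heq)).2
    · obtain ⟨h, hh, -⟩ := hl
      exact absurd hgt (hpos ⟨h, hh⟩)

end Groth.Agent.GITLib
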