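import Groth.Agent.Comodule.MultType
import Groth.Prelude.Def_GLin

/-! Torus actions with positive grading monoid. -/

set_option autoImplicit false
universe u v w

open TensorProduct

noncomputable section

namespace Groth.Agent.GITLib

set_option backward.isDefEq.respectTransparency false

variable {k : Type u} [Field k] {Λ : Type v} [AddCommGroup Λ] {R : Type w} [CommRing R] [Algebra k R]
  [HopfRep.Comod k (AddMonoidAlgebra k Λ) R] [GLin.IsCoactAlg k (AddMonoidAlgebra k Λ) R]

/-- weight space -/
abbrev wspace (w : Λ) : Submodule k R :=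
  HopfRep.eigenspace k (AddMonoidAlgebra k Λ) R (AddMonoidAlgebra.single w 1)

/-- positivity of the grading monoid -/
def IsPos : Prop := ∀ w : Λ, (wspace w : Submodule k R) ≠ ⊥ → (wspace (-w) : Submodule k R) ≠ ⊥ → w = 0

omit [GLin.IsCoactAlg k (AddMonoidAlgebra k Λ) R] in
theorem span_wspace : (⨆ w : Λ, (wspace w : Submodule k R)) = ⊤ := by
  have hD : HopfRep.IsDiagonalizable k (AddMonoidAlgebra k Λ) :=
    eq_top_iff.2 fun x hx => by
      clear hx
      induction x using AddMonoidAlgebra.induction_linear with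
      | zero => exact zero_mem _
      | add f g hf hg => exact add_mem hf hg
      | single m r =>
        rw [show AddMonoidAlgebra.single m r = r • AddMonoidAlgebra.single m (1 : k) by
          rw [AddMonoidAlgebra.smul_single, smul_eq_mul, mul_one]]
        exact Submodule.smul_mem _ _ (Submodule.subset_span (AddMonoidAlgebra.isGroupLikeElem_single_one m))
  rw [eq_top_iff, ← Comodule.span_eigen_eq_top hD R, Submodule.span_le]
  rintro v ⟨a, ha⟩
  by_cases hv : v = 0
  · rw [hv]; exact zero_mem _
  obtain ⟨m, rfl⟩ := AddMonoidAlgebra.isGroupLikeElem_iff_mem_range_single_one.1 (Comodule.groupLike_of_eigen hv ha)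
  exact le_iSup (fun w : Λ => (wspace w : Submodule k R)) m ha

omit [GLin.IsCoactAlg k (AddMonoidAlgebra k Λ) R] in
theorem mem_wspace_iff {w : Λ} {f : R} :
    f ∈ (wspace w : Submodule k R) ↔
      HopfRep.Comod.coact (k := k) (A := AddMonoidAlgebra k Λ) f = f ⊗ₜ[k] AddMonoidAlgebra.single w 1 := Iff.rfl

/-- the component of weight `w` -/
def comp (w : Λ) : R →ₗ[k] R :=
  (TensorProduct.rid k R).toLinearMap ∘ₗ
    ((Finsupp.lapply w ∘ₗ (AddMonoidAlgebra.coeffLinearEquiv k).toLinearMap).lTensor R) ∘ₗ
      HopfRep.Comod.coact (k := k) (A := AddMonoidAlgebra k Λ)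

omit [GLin.IsCoactAlg k (AddMonoidAlgebra k Λ) R] in
theorem comp_of_mem {w v : Λ} {f : R} (hf : f ∈ (wspace v : Submodule k R)) [Decidable (v = w)] :
    comp (k := k) w f = if v = w then f else 0 := by
  simp only [comp, LinearMap.comp_apply, mem_wspace_iff.1 hf]
  split_ifs with h
  · subst h; simp
  · simp [Finsupp.single_eq_of_ne (Ne.symm h)]

omit [GLin.IsCoactAlg k (AddMonoidAlgebra k Λ) R] in
theorem comp_mem (w : Λ) (f : R) : comp (k := k) w f ∈ (wspace w : Submodule k R) := by
  classical
  have : f ∈ (⨆ w : Λ, (wspace w : Submodule k R)) := by rw [span_wspace]; trivial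
  induction this using Submodule.iSup_induction' with
  | mem v g hg =>
    rw [comp_of_mem hg]
    split_ifs with h
    · exact h ▸ hg
    · exact zero_mem _
  | zero => rw [map_zero]; exact zero_mem _
  | add a b _ _ ha hb => rw [map_add]; exact add_mem ha hb

theorem mul_mem_wspace {a b : Λ} {f g : R} (hf : f ∈ (wspace a : Submodule k R)) (hg : g ∈ (wspace b : Submodule k R)) :
    f * g ∈ (wspace (a + b) : Submodule k R) := by
  rw [mem_wspace_iff, GLin.IsCoactAlg.coact_mul, mem_wspace_iff.1 hf, mem_wspace_iff.1 hg,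
    Algebra.TensorProduct.tmul_mul_tmul, AddMonoidAlgebra.single_mul_single, mul_one]

theorem mul_comp_zero (hpos : IsPos (k := k) (Λ := Λ) (R := R)) {v : Λ} (hv : v ≠ 0) {g : R}
    (hg : g ∈ (wspace v : Submodule k R)) (f : R) : comp (k := k) (0 : Λ) (f * g) = 0 := by
  classical
  have : f ∈ (⨆ w : Λ, (wspace w : Submodule k R)) := by rw [span_wspace]; trivial
  induction this using Submodule.iSup_induction' with
  | mem a h hh =>
    rw [comp_of_mem (mul_mem_wspace hh hg)]
    split_ifs with e
    · by_contra hne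
      refine hv (hpos v (fun hb => ?_) fun hb => ?_)
      · rw [hb, Submodule.mem_bot] at hg; exact hne (by rw [hg, mul_zero])
      · rw [eq_neg_of_add_eq_zero_left e, hb, Submodule.mem_bot] at hh; exact hne (by rw [hh, zero_mul])
    · rfl
  | zero => rw [zero_mul, map_zero]
  | add a b _ _ ha hb => rw [add_mul, map_add, ha, hb, add_zero]

theorem comp_zero_mul (hpos : IsPos (k := k) (Λ := Λ) (R := R)) (f g : R) :
    comp (k := k) (0 : Λ) (f * g) = comp (k := k) (0 : Λ) f * comp (k := k) (0 : Λ) g := by
  classical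
  have hf : f ∈ (⨆ w : Λ, (wspace w : Submodule k R)) := by rw [span_wspace]; trivial
  have hg : g ∈ (⨆ w : Λ, (wspace w : Submodule k R)) := by rw [span_wspace]; trivial
  induction hf using Submodule.iSup_induction' with
  | zero => simp
  | add a b _ _ ha hb => simp only [add_mul, map_add, ha, hb]
  | mem a f hf =>
    induction hg using Submodule.iSup_induction' with
    | zero => simp
    | add x y _ _ hx hy => simp only [mul_add, map_add, hx, hy]
    | mem b g hg =>
      by_cases hb : b = 0
      · subst hb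
        rw [comp_of_mem (mul_mem_wspace hf hg), comp_of_mem hf, comp_of_mem hg, add_zero, if_pos rfl]
        split_ifs <;> simp
      · rw [mul_comp_zero hpos hb hg, comp_of_mem hg, if_neg hb, mul_zero]

theorem mem_invariants_iff_wspace {f : R} :
    f ∈ GLin.invariants k (AddMonoidAlgebra k Λ) R ↔ f ∈ (wspace (0 : Λ) : Submodule k R) := by
  rw [GLin.mem_invariants_iff, mem_wspace_iff, AddMonoidAlgebra.one_def]

/-- the ideal of the fixed locus -/
abbrev fixIdeal : Ideal R :=
  Ideal.span {f : R | ∃ w : Λ, w ≠ 0 ∧ f ∈ (wspace w : Submodule k R)}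

theorem bijective_invariants_fixIdeal (hpos : IsPos (k := k) (Λ := Λ) (R := R)) :
    Function.Bijective ((Ideal.Quotient.mkₐ k (fixIdeal (k := k) (Λ := Λ) (R := R))).comp
      (GLin.invariants k (AddMonoidAlgebra k Λ) R).val) := by
  classical
  constructor
  · rw [injective_iff_map_eq_zero]
    rintro ⟨f, hf⟩ h0
    rw [AlgHom.comp_apply, Ideal.Quotient.mkₐ_eq_mk, Ideal.Quotient.eq_zero_iff_mem] at h0
    refine Subtype.ext (?_ : f = 0)
    have hf' := comp_of_mem (w := (0 : Λ)) (mem_invariants_iff_wspace.1 hf)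
    rw [if_pos rfl] at hf'
    rw [← hf']
    revert h0
    show f ∈ fixIdeal (k := k) (Λ := Λ) (R := R) → _
    intro h0
    clear hf hf'
    refine Submodule.span_induction (p := fun x _ => ∀ y, comp (k := k) (0 : Λ) (y * x) = 0) ?_ ?_ ?_ ?_ h0 1 |>.symm.trans ?_ |>.symm
    · rintro x ⟨w, hw, hx⟩ y
      exact mul_comp_zero hpos hw hx y
    · intro y; rw [mul_zero, map_zero]
    · intro a b _ _ ha hb y; rw [mul_add, map_add, ha, hb, add_zero]
    · intro c x _ hx y; rw [smul_eq_mul, ← mul_assoc]; exact hx _
    · rw [one_mul]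
  · intro q
    obtain ⟨f, rfl⟩ := Ideal.Quotient.mk_surjective q
    refine ⟨⟨comp (k := k) (0 : Λ) f, mem_invariants_iff_wspace.2 (comp_mem _ _)⟩, ?_⟩
    rw [AlgHom.comp_apply, Ideal.Quotient.mkₐ_eq_mk, Ideal.Quotient.eq]
    show comp (k := k) (0 : Λ) f - f ∈ _
    have : f ∈ (⨆ w : Λ, (wspace w : Submodule k R)) := by rw [span_wspace]; trivial
    induction this using Submodule.iSup_induction' with
    | zero => simp
    | add a b _ _ ha hb => rw [map_add, add_sub_add_comm]; exact add_mem ha hb
    | mem v g hg =>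
      rw [comp_of_mem hg]
      split_ifs with h
      · rw [sub_self]; exact zero_mem _
      · rw [zero_sub, neg_mem_iff]; exact Ideal.subset_span ⟨v, h, hg⟩

theorem orbitHom_wspace {v : Λ} {f : R} (hf : f ∈ (wspace v : Submodule k R)) (x : R →ₐ[k] k) :
    GLin.orbitHom k (AddMonoidAlgebra k Λ) x f = x f • AddMonoidAlgebra.single v (1 : k) := by
  simp [GLin.orbitHom, mem_wspace_iff.1 hf]

theorem orbitHom_coeff (x : R →ₐ[k] k) (f : R) (w : Λ) :
    (GLin.orbitHom k (AddMonoidAlgebra k Λ) x f).coeff w = x (comp (k := k) w f) := by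
  classical
  have : f ∈ (⨆ w : Λ, (wspace w : Submodule k R)) := by rw [span_wspace]; trivial
  induction this using Submodule.iSup_induction' with
  | zero => simp
  | add a b _ _ ha hb => simp [map_add, ha, hb]
  | mem v g hg =>
    rw [orbitHom_wspace hg, comp_of_mem hg]
    split_ifs with h
    · subst h; simp
    · simp [Finsupp.single_eq_of_ne (Ne.symm h)]

theorem closedOrbit_iff_fixed [IsAlgClosed k] [AddMonoid.FG Λ] (hpos : IsPos (k := k) (Λ := Λ) (R := R))
    (x : R →ₐ[k] k) :
    GLin.IsClosedOrbit k (AddMonoidAlgebra k Λ) x ↔ GLin.IsFixedPt k (AddMonoidAlgebra k Λ) x := by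
  classical
  set φ := GLin.orbitHom k (AddMonoidAlgebra k Λ) x with hφ
  constructor
  · intro hcl
    let z : R →ₐ[k] k :=
      AlgHom.ofLinearMap (x.toLinearMap ∘ₗ comp (k := k) (0 : Λ))
        (by
          show x (comp (k := k) (0 : Λ) 1) = 1
          have h1 : (1 : R) ∈ (wspace (0 : Λ) : Submodule k R) := mem_invariants_iff_wspace.1 (one_mem _)
          rw [comp_of_mem h1, if_pos rfl, map_one])
        (fun a b => by
          show x (comp (k := k) (0 : Λ) (a * b)) = x (comp (k := k) (0 : Λ) a) * x (comp (k := k) (0 : Λ) b)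
          rw [comp_zero_mul hpos, map_mul])
    have hz : RingHom.ker φ ≤ RingHom.ker z := fun f hf => by
      rw [RingHom.mem_ker] at hf ⊢
      show x (comp (k := k) (0 : Λ) f) = 0
      rw [← orbitHom_coeff, ← hφ, hf]
      rfl
    let P : PrimeSpectrum R := ⟨RingHom.ker z, RingHom.ker_isPrime _⟩
    have hP : P ∈ closure (Set.range (PrimeSpectrum.comap φ.toRingHom)) := by
      rw [PrimeSpectrum.closure_range_comap]
      exact hz
    rw [hcl.closure_eq] at hP
    obtain ⟨q, hq⟩ := hP
    obtain ⟨m, hm, hqm⟩ := Ideal.exists_le_maximal q.asIdeal q.2.ne_top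
    haveI := hm
    letI := Ideal.Quotient.field m
    haveI : Module.Finite k (AddMonoidAlgebra k Λ ⧸ m) :=
      finite_of_finite_type_of_isJacobsonRing k (AddMonoidAlgebra k Λ ⧸ m)
    let e := AlgEquiv.ofBijective (Algebra.ofId k (AddMonoidAlgebra k Λ ⧸ m))
      IsAlgClosed.algebraMap_bijective_of_isIntegral
    let g : AddMonoidAlgebra k Λ →ₐ[k] k := e.symm.toAlgHom.comp (Ideal.Quotient.mkₐ k m)
    have hzg : z = g.comp φ := by
      refine AlgHom.ext fun f => ?_
      have h1 : f - algebraMap k R (z f) ∈ RingHom.ker z := by simp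
      rw [show RingHom.ker z = q.asIdeal.comap φ.toRingHom from (congrArg PrimeSpectrum.asIdeal hq).symm] at h1
      have h2 : g (φ (f - algebraMap k R (z f))) = 0 := by
        show e.symm (Ideal.Quotient.mk m _) = 0
        rw [Ideal.Quotient.eq_zero_iff_mem.2 (show φ (f - algebraMap k R (z f)) ∈ m from hqm h1), map_zero]
      rw [map_sub, map_sub, AlgHom.commutes, AlgHom.commutes, sub_eq_zero] at h2
      exact h2.symm
    refine AlgHom.ext fun f => ?_
    have : f ∈ (⨆ w : Λ, (wspace w : Submodule k R)) := by rw [span_wspace]; trivial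
    induction this using Submodule.iSup_induction' with
    | zero => simp
    | add a b _ _ ha hb => simp only [map_add, ha, hb]
    | mem v h hh =>
      rw [orbitHom_wspace hh]
      by_cases hv : v = 0
      · subst hv
        simp [← AddMonoidAlgebra.one_def, Algebra.algebraMap_eq_smul_one]
      · have h3 : z h = 0 := by
          show x (comp (k := k) (0 : Λ) h) = 0
          rw [comp_of_mem hh, if_neg hv, map_zero]
        rw [hzg, AlgHom.comp_apply, hφ, orbitHom_wspace hh, map_smul, smul_eq_mul, mul_eq_zero] at h3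
        have hu : IsUnit (g (AddMonoidAlgebra.single v (1 : k))) := by
          refine IsUnit.map g (IsUnit.of_mul_eq_one (AddMonoidAlgebra.single (-v) (1 : k)) ?_)
          rw [AddMonoidAlgebra.single_mul_single, add_neg_cancel, mul_one, AddMonoidAlgebra.one_def]
        rw [AlgHom.comp_apply, h3.resolve_right hu.ne_zero, zero_smul, map_zero]
  · intro hfix
    show IsClosed (Set.range (PrimeSpectrum.comap φ.toRingHom))
    rw [← closure_subset_iff_isClosed, PrimeSpectrum.closure_range_comap]
    intro P hP
    obtain ⟨q⟩ : Nonempty (PrimeSpectrum (AddMonoidAlgebra k Λ)) := inferInstance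
    refine ⟨q, PrimeSpectrum.ext ?_⟩
    have hker : ∀ f, φ f = algebraMap k _ (x f) := fun f => by rw [hφ, hfix]; rfl
    ext f
    show φ f ∈ q.asIdeal ↔ f ∈ P.asIdeal
    rw [hker]
    have h1 : f - algebraMap k R (x f) ∈ P.asIdeal := hP (show φ _ = 0 by simp [hker])
    by_cases hxf : x f = 0
    · rw [hxf, map_zero] at h1 ⊢
      simpa using h1
    · constructor
      · intro hq
        exact absurd (Ideal.eq_top_of_isUnit_mem _ hq ((Ne.isUnit hxf).map _)) q.2.ne_top
      · intro hf
        refine absurd (Ideal.eq_top_of_isUnit_mem _ ?_ ((Ne.isUnit hxf).map (algebraMap k R))) P.2.ne_top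
        simpa using sub_mem hf h1

end Groth.Agent.GITLib
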