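import Mathlib

/-! The sl_2 action attached to a nilpotent Jordan form on a polynomial ring. -/

set_option autoImplicit false
universe u

open MvPolynomial

noncomputable section

namespace Groth.Agent.GITLib.Sl2

set_option backward.isDefEq.respectTransparency false

variable (k : Type u) [Field k] {d : ℕ} (sz : Fin d → ℕ)

/-- index of a variable: a block and a position -/
abbrev Idx : Type := Σ i : Fin d, Fin (sz i)

/-- predecessor in a block -/
def prv (p : Idx sz) : Idx sz := ⟨p.1, ⟨(p.2 : ℕ) - 1, by omega⟩⟩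

/-- weight of a variable -/
def wtv (p : Idx sz) : ℤ := 2 * ((p.2 : ℕ) : ℤ) + 1 - (sz p.1 : ℤ)

/-- image of a variable under raising -/
def dX (p : Idx sz) : MvPolynomial (Idx sz) k :=
  if h : (p.2 : ℕ) + 1 < sz p.1 then X ⟨p.1, ⟨(p.2 : ℕ) + 1, h⟩⟩ else 0

/-- raising operator -/
def opD : Derivation k (MvPolynomial (Idx sz) k) (MvPolynomial (Idx sz) k) := mkDerivation k (dX k sz)

/-- lowering operator -/
def opF : Derivation k (MvPolynomial (Idx sz) k) (MvPolynomial (Idx sz) k) :=
  mkDerivation k fun p => C ((((p.2 : ℕ) * (sz p.1 - (p.2 : ℕ)) : ℕ)) : k) * X (prv sz p)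

/-- diagonal derivation -/
def opW (h : Idx sz → k) : Derivation k (MvPolynomial (Idx sz) k) (MvPolynomial (Idx sz) k) :=
  mkDerivation k fun p => C (h p) * X p

/-- weight operator -/
abbrev opH : Derivation k (MvPolynomial (Idx sz) k) (MvPolynomial (Idx sz) k) :=
  opW k sz fun p => ((wtv sz p : ℤ) : k)

/-- Euler operator -/
abbrev opN : Derivation k (MvPolynomial (Idx sz) k) (MvPolynomial (Idx sz) k) := opW k sz fun _ => 1

/-- weight of a monomial -/
def mwt (x : Idx sz →₀ ℕ) : ℤ := ∑ p, (x p : ℤ) * wtv sz p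

variable {k sz}

theorem coeff_opW (h : Idx sz → k) (P : MvPolynomial (Idx sz) k) (x : Idx sz →₀ ℕ) :
    coeff x (opW k sz h P) = (∑ j, (x j : k) * h j) * coeff x P := by
  classical
  induction P using MvPolynomial.induction_on generalizing x with
  | C c =>
    rw [← algebraMap_eq, Derivation.map_algebraMap, coeff_zero, algebraMap_eq, coeff_C]
    split_ifs with hx
    · subst hx; simp
    · simp
  | add p q hp hq => simp [map_add, coeff_add, hp, hq, mul_add]
  | mul_X p i hp =>
    rw [Derivation.leibniz, opW, mkDerivation_X, ← opW, smul_eq_mul, smul_eq_mul, coeff_add,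
      show p * (C (h i) * X i) = C (h i) * (p * X i) by ring, mul_comm (X i), coeff_C_mul, coeff_mul_X', coeff_mul_X']
    split_ifs with hi
    · rw [hp]
      have hx : ∀ j, (x j : k) = ((x - Finsupp.single i 1 : Idx sz →₀ ℕ) j : k) + ((Finsupp.single i 1 : Idx sz →₀ ℕ) j : k) := by
        intro j
        rw [← Nat.cast_add]
        congr 1
        simp only [Finsupp.tsub_apply, Finsupp.single_apply]
        split_ifs with hj
        · subst hj
          have := Finsupp.mem_support_iff.1 hi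
          omega
        · omega
      simp only [hx, add_mul, Finset.sum_add_distrib]
      rw [show ∑ j, ((Finsupp.single i 1 : Idx sz →₀ ℕ) j : k) * h j = h i by
        rw [Finset.sum_eq_single i] <;> simp +contextual [Finsupp.single_apply, eq_comm]]
      ring
    · simp

theorem bracket_DF : ⁅opD k sz, opF k sz⁆ = opH k sz := by
  refine MvPolynomial.derivation_ext fun ⟨i, j⟩ => ?_
  have hj := j.2
  rw [Derivation.commutator_apply]
  simp only [opD, opF, opH, opW, dX, mkDerivation_X, Derivation.leibniz, MvPolynomial.derivation_C, smul_zero, add_zero,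
    smul_eq_mul]
  by_cases h1 : (j : ℕ) + 1 < sz i
  · rw [dif_pos h1, mkDerivation_X]
    have e : prv sz ⟨i, ⟨(j : ℕ) + 1, h1⟩⟩ = ⟨i, j⟩ := by simp [prv]
    rw [e]
    by_cases h0 : (j : ℕ) = 0
    · simp [wtv, h0, Nat.cast_sub (show 1 ≤ sz i by omega)]
      ring
    · have e2 : (⟨i, ⟨((prv sz ⟨i, j⟩).2 : ℕ) + 1, by simp [prv]; omega⟩⟩ : Idx sz) = ⟨i, j⟩ := by
        simp [prv, Nat.sub_add_cancel (show 1 ≤ (j : ℕ) by omega)]
      rw [dif_pos (show ((prv sz ⟨i, j⟩).2 : ℕ) + 1 < sz (prv sz ⟨i, j⟩).1 by simp [prv]; omega)]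
      erw [e2]
      simp [wtv, map_ofNat, Nat.cast_sub (show (j : ℕ) ≤ sz i by omega), Nat.cast_sub (show (j : ℕ) + 1 ≤ sz i by omega)]
      ring
  · have he : sz i = (j : ℕ) + 1 := by omega
    rw [dif_neg h1, map_zero, sub_zero]
    by_cases h0 : (j : ℕ) = 0
    · simp [wtv, h0, he]
    · have e2 : (⟨i, ⟨((prv sz ⟨i, j⟩).2 : ℕ) + 1, by simp [prv]; omega⟩⟩ : Idx sz) = ⟨i, j⟩ := by
        simp [prv, Nat.sub_add_cancel (show 1 ≤ (j : ℕ) by omega)]
      rw [dif_pos (show ((prv sz ⟨i, j⟩).2 : ℕ) + 1 < sz (prv sz ⟨i, j⟩).1 by simp [prv]; omega)]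
      erw [e2]
      simp [wtv, he, map_ofNat]
      ring

theorem bracket_HD : ⁅opH k sz, opD k sz⁆ = (2 : k) • opD k sz := by
  refine MvPolynomial.derivation_ext fun ⟨i, j⟩ => ?_
  rw [Derivation.commutator_apply, Derivation.smul_apply]
  simp only [opD, opH, opW, dX, mkDerivation_X, Derivation.leibniz, MvPolynomial.derivation_C, smul_zero, add_zero,
    smul_eq_mul]
  split_ifs with h1
  · simp [wtv, smul_eq_C_mul, map_sub, map_add, map_mul]
    ring
  · simp

theorem bracket_HF : ⁅opH k sz, opF k sz⁆ = (-2 : k) • opF k sz := by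
  refine MvPolynomial.derivation_ext fun ⟨i, j⟩ => ?_
  rw [Derivation.commutator_apply, Derivation.smul_apply]
  simp only [opF, opH, opW, mkDerivation_X, Derivation.leibniz, MvPolynomial.derivation_C, smul_zero, add_zero,
    smul_eq_mul]
  by_cases h0 : (j : ℕ) = 0
  · simp [h0]
  · simp [wtv, prv, Nat.cast_sub (show 1 ≤ (j : ℕ) by omega), smul_eq_C_mul, map_sub, map_add, map_mul, map_neg]
    ring

theorem bracket_ND : ⁅opN k sz, opD k sz⁆ = 0 := by
  refine MvPolynomial.derivation_ext fun p => ?_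
  rw [Derivation.commutator_apply]
  simp only [opD, opN, opW, dX, mkDerivation_X, map_one, one_mul, Derivation.zero_apply]
  split_ifs <;> simp [dX, *]

theorem bracket_NF : ⁅opN k sz, opF k sz⁆ = 0 := by
  refine MvPolynomial.derivation_ext fun p => ?_
  rw [Derivation.commutator_apply]
  simp [opF, opN, opW, Derivation.leibniz]

variable (k sz) in
/-- bidegree -/
def W (e : ℕ) (w : ℤ) : Submodule k (MvPolynomial (Idx sz) k) := restrictSupport k {x | x.degree = e ∧ mwt sz x = w}

variable (k sz) in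
/-- degree -/
def G (e : ℕ) : Submodule k (MvPolynomial (Idx sz) k) := restrictSupport k {x | x.degree = e}

theorem W_le_G (e : ℕ) (w : ℤ) : W k sz e w ≤ G k sz e := fun _ hP _ hx => (hP hx).1

variable [CharZero k]

theorem mem_W {e : ℕ} {w : ℤ} {P : MvPolynomial (Idx sz) k} :
    P ∈ W k sz e w ↔ opN k sz P = (e : k) • P ∧ opH k sz P = (w : k) • P := by
  have hN : ∀ x : Idx sz →₀ ℕ, ∑ j, (x j : k) * 1 = (x.degree : k) := fun x => by simp [Finsupp.degree_eq_sum]
  have hH : ∀ x : Idx sz →₀ ℕ, ∑ j, (x j : k) * ((wtv sz j : ℤ) : k) = (mwt sz x : k) := fun x => by simp [mwt]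
  simp only [W, mem_restrictSupport_iff, MvPolynomial.ext_iff, opN, opH, coeff_opW, coeff_smul, smul_eq_mul, hN, hH]
  constructor
  · intro h
    refine ⟨fun x => ?_, fun x => ?_⟩ <;> by_cases hx : coeff x P = 0
    · simp [hx]
    · rw [(h (mem_support_iff.2 hx)).1]
    · simp [hx]
    · rw [(h (mem_support_iff.2 hx)).2]
  · rintro ⟨h1, h2⟩ x hx
    have hx' := mem_support_iff.1 hx
    exact ⟨Nat.cast_injective (mul_right_cancel₀ hx' (h1 x)), Int.cast_injective (mul_right_cancel₀ hx' (h2 x))⟩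

theorem opD_mem {e : ℕ} {w : ℤ} {P : MvPolynomial (Idx sz) k} (hP : P ∈ W k sz e w) : opD k sz P ∈ W k sz e (w + 2) := by
  rw [mem_W] at hP ⊢
  constructor
  · have h := DFunLike.congr_fun (bracket_ND (k := k) (sz := sz)) P
    rw [Derivation.commutator_apply, hP.1, Derivation.map_smul, Derivation.zero_apply, sub_eq_zero] at h
    exact h
  · have h := DFunLike.congr_fun (bracket_HD (k := k) (sz := sz)) P
    rw [Derivation.commutator_apply, hP.2, Derivation.map_smul, Derivation.smul_apply, sub_eq_iff_eq_add] at h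
    rw [h, Int.cast_add, add_smul, add_comm]
    norm_num

theorem opF_mem {e : ℕ} {w : ℤ} {P : MvPolynomial (Idx sz) k} (hP : P ∈ W k sz e w) : opF k sz P ∈ W k sz e (w - 2) := by
  rw [mem_W] at hP ⊢
  constructor
  · have h := DFunLike.congr_fun (bracket_NF (k := k) (sz := sz)) P
    rw [Derivation.commutator_apply, hP.1, Derivation.map_smul, Derivation.zero_apply, sub_eq_zero] at h
    exact h
  · have h := DFunLike.congr_fun (bracket_HF (k := k) (sz := sz)) P
    rw [Derivation.commutator_apply, hP.2, Derivation.map_smul, Derivation.smul_apply, sub_eq_iff_eq_add] at h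
    rw [h, Int.cast_sub, sub_smul, sub_eq_add_neg, add_comm, ← neg_smul]
    norm_num

theorem DF_eq {e : ℕ} {w : ℤ} {P : MvPolynomial (Idx sz) k} (hP : P ∈ W k sz e w) :
    opD k sz (opF k sz P) = opF k sz (opD k sz P) + (w : k) • P := by
  have h := DFunLike.congr_fun (bracket_DF (k := k) (sz := sz)) P
  rw [Derivation.commutator_apply, (mem_W.1 hP).2, sub_eq_iff_eq_add'] at h
  exact h

/-- bound on the weights -/
def bnd (sz : Fin d → ℕ) : ℕ := ∑ i, sz i

omit [CharZero k] in
theorem abs_mwt_le {x : Idx sz →₀ ℕ} {e : ℕ} (he : x.degree = e) : |mwt sz x| ≤ ((bnd sz * e : ℕ) : ℤ) := by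
  subst he
  rw [mwt, Finsupp.degree_eq_sum]
  push_cast
  rw [Finset.mul_sum]
  refine (Finset.abs_sum_le_sum_abs _ _).trans (Finset.sum_le_sum fun p _ => ?_)
  rw [abs_mul, abs_of_nonneg (Nat.cast_nonneg _), mul_comm]
  refine mul_le_mul_of_nonneg_right ?_ (Nat.cast_nonneg _)
  have h1 : sz p.1 ≤ bnd sz := Finset.single_le_sum (fun _ _ => Nat.zero_le _) (Finset.mem_univ p.1)
  have h2 := p.2.2
  rw [abs_le]
  simp only [wtv]
  push_cast
  omega

omit [CharZero k] in
theorem W_eq_bot {e : ℕ} {w : ℤ} (h : (bnd sz * e : ℕ) < w ∨ w < -((bnd sz * e : ℕ) : ℤ))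
    {P : MvPolynomial (Idx sz) k} (hP : P ∈ W k sz e w) : P = 0 := by
  rw [← support_eq_empty, Finset.eq_empty_iff_forall_notMem]
  intro x hx
  obtain ⟨h1, h2⟩ := hP hx
  have := abs_le.1 (abs_mwt_le (sz := sz) h1)
  omega

theorem DF_inj (e : ℕ) : ∀ (n : ℕ) (w : ℤ), 0 < w → ((bnd sz * e : ℕ) : ℤ) - w < n → ∀ v ∈ W k sz e w, ∀ c : ℚ, c ≤ 0 →
    opD k sz (opF k sz v) = (c : k) • v → v = 0 := by
  intro n
  induction n with
  | zero => exact fun w _ hn v hv _ _ _ => W_eq_bot (Or.inl (by omega)) hv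
  | succ n ih =>
    intro w hw hn v hv c hc h
    have h1 : opF k sz (opD k sz v) = ((c - w : ℚ) : k) • v := by
      rw [DF_eq hv, ← eq_sub_iff_add_eq] at h
      rw [h, Rat.cast_sub, Rat.cast_intCast, sub_smul]
    have hw' : (0 : ℚ) < w := by exact_mod_cast hw
    have h2 : opD k sz v = 0 := ih (w + 2) (by omega) (by omega) _ (opD_mem hv) (c - w) (by linarith) (by
      rw [h1, Derivation.map_smul])
    rw [h2, map_zero] at h1
    exact (smul_eq_zero.1 h1.symm).resolve_left (Rat.cast_ne_zero.2 (by linarith))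

theorem FD_inj (e : ℕ) : ∀ (n : ℕ) (w : ℤ), w < 0 → ((bnd sz * e : ℕ) : ℤ) + w < n → ∀ v ∈ W k sz e w, ∀ c : ℚ, c ≤ 0 →
    opF k sz (opD k sz v) = (c : k) • v → v = 0 := by
  intro n
  induction n with
  | zero => exact fun w _ hn v hv _ _ _ => W_eq_bot (Or.inr (by omega)) hv
  | succ n ih =>
    intro w hw hn v hv c hc h
    have h1 : opD k sz (opF k sz v) = ((c + w : ℚ) : k) • v := by
      rw [DF_eq hv, h, Rat.cast_add, Rat.cast_intCast, add_smul]
    have hw' : (w : ℚ) < 0 := by exact_mod_cast hw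
    have h2 : opF k sz v = 0 := ih (w - 2) (by omega) (by omega) _ (opF_mem hv) (c + w) (by linarith) (by
      rw [h1, Derivation.map_smul])
    rw [h2, map_zero] at h1
    exact (smul_eq_zero.1 h1.symm).resolve_left (Rat.cast_ne_zero.2 (by linarith))

theorem inj_up {e : ℕ} {w : ℤ} (hw : 0 < w) {v : MvPolynomial (Idx sz) k} (hv : v ∈ W k sz e w) {c : ℚ} (hc : c ≤ 0)
    (h : opD k sz (opF k sz v) = (c : k) • v) : v = 0 :=
  DF_inj e (bnd sz * e) w hw (by omega) v hv c hc h

theorem inj_down {e : ℕ} {w : ℤ} (hw : w < 0) {v : MvPolynomial (Idx sz) k} (hv : v ∈ W k sz e w) {c : ℚ} (hc : c ≤ 0)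
    (h : opF k sz (opD k sz v) = (c : k) • v) : v = 0 :=
  FD_inj e (bnd sz * e) w hw (by omega) v hv c hc h

end Groth.Agent.GITLib.Sl2
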