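import Groth.Agent.GITLib.Sl2Blocks

/-! Finite generation of sl_2 invariants by the Casimir projection. -/

set_option autoImplicit false
universe u

open MvPolynomial

noncomputable section

namespace Groth.Agent.GITLib.Sl2

set_option backward.isDefEq.respectTransparency false

variable {k : Type u} [Field k] {d : ℕ} {sz : Fin d → ℕ}

variable (k sz) in
/-- component of given degree and weight -/
def wc (e : ℕ) (w : ℤ) : MvPolynomial (Idx sz) k →ₗ[k] MvPolynomial (Idx sz) k where
  toFun P := ∑ x ∈ P.support.filter (fun x => x.degree = e ∧ mwt sz x = w), monomial x (coeff x P)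
  map_add' P Q := by
    classical
    refine MvPolynomial.ext _ _ fun y => ?_
    simp only [coeff_sum, coeff_add, coeff_monomial, Finset.sum_ite_eq', Finset.mem_filter, mem_support_iff]
    by_cases hy : y.degree = e ∧ mwt sz y = w <;> simp [hy]
    split_ifs <;> simp_all
  map_smul' c P := by
    classical
    refine MvPolynomial.ext _ _ fun y => ?_
    simp only [coeff_sum, coeff_smul, coeff_monomial, Finset.sum_ite_eq', Finset.mem_filter, mem_support_iff,
      RingHom.id_apply, smul_eq_mul]
    by_cases hy : y.degree = e ∧ mwt sz y = w <;> by_cases hc : c = 0 <;> simp [hy, hc]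

theorem coeff_wc (e : ℕ) (w : ℤ) (P : MvPolynomial (Idx sz) k) (y : Idx sz →₀ ℕ) :
    coeff y (wc k sz e w P) = if y.degree = e ∧ mwt sz y = w then coeff y P else 0 := by
  classical
  simp only [wc, LinearMap.coe_mk, AddHom.coe_mk, coeff_sum, coeff_monomial, Finset.sum_ite_eq', Finset.mem_filter,
    mem_support_iff]
  by_cases hy : y.degree = e ∧ mwt sz y = w <;> simp [hy]
  exact fun h => h.symm

theorem wc_mem (e : ℕ) (w : ℤ) (P : MvPolynomial (Idx sz) k) : wc k sz e w P ∈ W k sz e w := fun y hy => by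
  have h : coeff y (wc k sz e w P) ≠ 0 := mem_support_iff.1 hy
  rw [coeff_wc] at h
  by_contra hc
  exact h (if_neg hc)

theorem wc_of_mem {e e' : ℕ} {w w' : ℤ} {P : MvPolynomial (Idx sz) k} (hP : P ∈ W k sz e' w') :
    wc k sz e w P = if e' = e ∧ w' = w then P else 0 := by
  classical
  refine MvPolynomial.ext _ _ fun y => ?_
  rw [coeff_wc]
  by_cases hy : coeff y P = 0
  · split_ifs <;> simp [hy]
  · obtain ⟨h1, h2⟩ := hP (mem_support_iff.2 hy)
    rw [h1, h2]
    split_ifs <;> simp

theorem monomial_mem (x : Idx sz →₀ ℕ) (a : k) : monomial x a ∈ W k sz x.degree (mwt sz x) := fun y hy => by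
  obtain rfl := Finset.mem_singleton.1 (support_monomial_subset hy)
  exact ⟨rfl, rfl⟩

theorem eq_zero_of_wc {P : MvPolynomial (Idx sz) k} (h : ∀ e w, wc k sz e w P = 0) : P = 0 := by
  refine MvPolynomial.ext _ _ fun y => ?_
  have := congrArg (coeff y) (h y.degree (mwt sz y))
  rw [coeff_wc, if_pos ⟨rfl, rfl⟩] at this
  rw [this, coeff_zero]

theorem wc_shift (L : MvPolynomial (Idx sz) k →ₗ[k] MvPolynomial (Idx sz) k) (s : ℤ)
    (hL : ∀ e w, ∀ Q ∈ W k sz e w, L Q ∈ W k sz e (w + s)) (e : ℕ) (w : ℤ) (P : MvPolynomial (Idx sz) k) :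
    wc k sz e (w + s) (L P) = L (wc k sz e w P) := by
  suffices (wc k sz e (w + s)).comp L = L.comp (wc k sz e w) from DFunLike.congr_fun this P
  refine MvPolynomial.linearMap_ext fun x => LinearMap.ext_ring ?_
  simp only [LinearMap.comp_apply]
  rw [wc_of_mem (hL _ _ _ (monomial_mem x 1)), wc_of_mem (monomial_mem x 1)]
  simp only [add_left_inj]
  split_ifs <;> simp

theorem hc_mem_G (e : ℕ) (P : MvPolynomial (Idx sz) k) : homogeneousComponent e P ∈ G k sz e := fun x hx => by
  classical
  have h : coeff x (homogeneousComponent e P) ≠ 0 := mem_support_iff.1 hx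
  rw [coeff_homogeneousComponent] at h
  by_contra hne
  exact h (if_neg hne)

theorem wc_G {e e' : ℕ} (hne : e' ≠ e) {w : ℤ} {P : MvPolynomial (Idx sz) k} (hP : P ∈ G k sz e') :
    wc k sz e w P = 0 := by
  refine MvPolynomial.ext _ _ fun y => ?_
  rw [coeff_wc, coeff_zero]
  split_ifs with h
  · by_contra hy
    exact hne ((hP (mem_support_iff.2 hy)).symm.trans h.1)
  · rfl

theorem wc_hc (e : ℕ) (w : ℤ) (P : MvPolynomial (Idx sz) k) :
    wc k sz e w (homogeneousComponent e P) = wc k sz e w P := by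
  classical
  refine MvPolynomial.ext _ _ fun y => ?_
  rw [coeff_wc, coeff_wc, coeff_homogeneousComponent]
  split_ifs with h1 h2 <;> simp_all

instance (e : ℕ) : Module.Finite k (G k sz e) := by
  haveI : Finite {x : Idx sz →₀ ℕ | x.degree = e} :=
    ((Finsupp.finite_of_degree_le e).subset fun _ hx => le_of_eq hx).to_subtype
  exact Module.Finite.of_basis (basisRestrictSupport k _)

variable [CharZero k]

variable (k sz) in
/-- Casimir operator -/
def cas : MvPolynomial (Idx sz) k →ₗ[k] MvPolynomial (Idx sz) k :=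
  (2 : k) • ((opF k sz).toLinearMap ∘ₗ (opD k sz).toLinearMap) + (opH k sz).toLinearMap +
    (2⁻¹ : k) • ((opH k sz).toLinearMap ∘ₗ (opH k sz).toLinearMap)

theorem cas_eq {e : ℕ} {w : ℤ} {v : MvPolynomial (Idx sz) k} (hv : v ∈ W k sz e w) :
    cas k sz v = (2 : k) • opF k sz (opD k sz v) + ((w : k) + 2⁻¹ * (w : k) * (w : k)) • v := by
  have h := (mem_W.1 hv).2
  simp only [cas, LinearMap.add_apply, LinearMap.smul_apply, LinearMap.comp_apply, Derivation.toFun_eq_coe,
    Derivation.coeFn_coe, h, Derivation.map_smul, smul_smul]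
  rw [add_smul, ← mul_assoc]
  abel

theorem cas_mem {e : ℕ} {w : ℤ} {v : MvPolynomial (Idx sz) k} (hv : v ∈ W k sz e w) : cas k sz v ∈ W k sz e w := by
  rw [cas_eq hv]
  have := opF_mem (opD_mem hv)
  rw [add_sub_cancel_right] at this
  exact Submodule.add_mem _ (Submodule.smul_mem _ _ this) (Submodule.smul_mem _ _ hv)

theorem cas_wc (e : ℕ) (w : ℤ) (P : MvPolynomial (Idx sz) k) : wc k sz e w (cas k sz P) = cas k sz (wc k sz e w P) := by
  simpa using wc_shift (cas k sz) 0 (fun e w Q hQ => by simpa using cas_mem hQ) e w P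

theorem opD_wc (e : ℕ) (w : ℤ) (P : MvPolynomial (Idx sz) k) : wc k sz e (w + 2) (opD k sz P) = opD k sz (wc k sz e w P) :=
  wc_shift (opD k sz).toLinearMap 2 (fun _ _ _ hQ => opD_mem hQ) e w P

theorem opF_wc (e : ℕ) (w : ℤ) (P : MvPolynomial (Idx sz) k) :
    wc k sz e (w + -2) (opF k sz P) = opF k sz (wc k sz e w P) :=
  wc_shift (opF k sz).toLinearMap (-2) (fun _ _ _ hQ => by simpa [sub_eq_add_neg] using opF_mem hQ) e w P

theorem opH_wc (e : ℕ) (w : ℤ) (P : MvPolynomial (Idx sz) k) : wc k sz e (w + 0) (opH k sz P) = opH k sz (wc k sz e w P) :=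
  wc_shift (opH k sz).toLinearMap 0 (fun e w Q hQ => by
    show opH k sz Q ∈ _
    rw [(mem_W.1 hQ).2, add_zero]
    exact Submodule.smul_mem _ _ hQ) e w P

variable (k sz) in
/-- invariants -/
def inv : Subalgebra k (MvPolynomial (Idx sz) k) where
  carrier := {P | opD k sz P = 0 ∧ opF k sz P = 0 ∧ opH k sz P = 0}
  mul_mem' := fun {a b} ha hb => by simp [Derivation.leibniz, ha.1, ha.2.1, ha.2.2, hb.1, hb.2.1, hb.2.2]
  add_mem' := fun {a b} ha hb => by simp [ha.1, ha.2.1, ha.2.2, hb.1, hb.2.1, hb.2.2]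
  algebraMap_mem' c := ⟨Derivation.map_algebraMap _ c, Derivation.map_algebraMap _ c, Derivation.map_algebraMap _ c⟩

theorem mem_inv {P : MvPolynomial (Idx sz) k} :
    P ∈ inv k sz ↔ opD k sz P = 0 ∧ opF k sz P = 0 ∧ opH k sz P = 0 := Iff.rfl

theorem cas_mul {g : MvPolynomial (Idx sz) k} (hg : g ∈ inv k sz) (b : MvPolynomial (Idx sz) k) :
    cas k sz (g * b) = g * cas k sz b := by
  obtain ⟨h1, h2, h3⟩ := mem_inv.1 hg
  simp only [cas, LinearMap.add_apply, LinearMap.smul_apply, LinearMap.comp_apply, Derivation.toFun_eq_coe,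
    Derivation.coeFn_coe, Derivation.leibniz, h1, h2, h3, smul_zero, add_zero, smul_eq_mul]
  simp only [MvPolynomial.smul_eq_C_mul, mul_zero, add_zero, Derivation.leibniz, h2, h3, smul_eq_mul]
  ring

theorem cas_of_inv {P : MvPolynomial (Idx sz) k} (hP : P ∈ inv k sz) : cas k sz P = 0 := by
  obtain ⟨h1, _, h3⟩ := mem_inv.1 hP
  simp [cas, h1, h3]

theorem kill_of_cas {e : ℕ} {w : ℤ} {v : MvPolynomial (Idx sz) k} (hv : v ∈ W k sz e w) (h : cas k sz v = 0) :
    (w ≠ 0 → v = 0) ∧ opD k sz v = 0 ∧ opF k sz v = 0 := by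
  rw [cas_eq hv] at h
  set c : ℚ := -((w : ℚ) * (w + 2) / 4) with hc
  have hfd : opF k sz (opD k sz v) = (c : k) • v := by
    have h2 : (2 : k) • opF k sz (opD k sz v) = (2 : k) • ((c : k) • v) := by
      rw [smul_smul, eq_neg_of_add_eq_zero_left h, ← neg_smul]
      congr 1
      rw [hc]
      push_cast
      ring
    exact smul_right_injective _ (two_ne_zero (α := k)) h2
  have hdf : opD k sz (opF k sz v) = ((c + w : ℚ) : k) • v := by
    rw [DF_eq hv, hfd, Rat.cast_add, Rat.cast_intCast, add_smul]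
  rcases lt_trichotomy w 0 with hw | rfl | hw
  · have hw' : (w : ℚ) ≤ -1 := by exact_mod_cast (show w ≤ -1 by omega)
    have hcw : c + w ≤ 0 := by rw [hc]; nlinarith
    have hF : opF k sz v = 0 := inj_down (by omega) (opF_mem hv) hcw (by rw [hdf, Derivation.map_smul])
    rw [hF, map_zero] at hdf
    have hne : c + w ≠ 0 := by rw [hc]; intro h'; nlinarith
    have hv0 : v = 0 := (smul_eq_zero.1 hdf.symm).resolve_left (Rat.cast_ne_zero.2 hne)
    exact ⟨fun _ => hv0, by rw [hv0, map_zero], hF⟩
  · have hc0 : c = 0 := by rw [hc]; simp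
    have hD : opD k sz v = 0 := inj_up (by norm_num : (0 : ℤ) < 0 + 2) (opD_mem hv) le_rfl (c := 0) (by
      rw [hfd, hc0]; simp)
    have hF : opF k sz v = 0 := inj_down (by norm_num : (0 : ℤ) - 2 < 0) (opF_mem hv) le_rfl (c := 0) (by
      rw [hdf, hc0]; simp)
    exact ⟨fun h => absurd rfl h, hD, hF⟩
  · have hw' : (1 : ℚ) ≤ w := by exact_mod_cast hw
    have hu : opD k sz (opF k sz (opD k sz v)) = (c : k) • opD k sz v := by rw [hfd, Derivation.map_smul]
    have hD : opD k sz v = 0 := inj_up (by omega : 0 < w + 2) (opD_mem hv) (by rw [hc]; nlinarith : c ≤ 0) hu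
    rw [hD, map_zero] at hfd
    have hne : c ≠ 0 := by rw [hc]; intro h'; nlinarith
    have hv0 : v = 0 := (smul_eq_zero.1 hfd.symm).resolve_left (Rat.cast_ne_zero.2 hne)
    exact ⟨fun _ => hv0, hD, by rw [hv0, map_zero]⟩

theorem inv_of_cas {P : MvPolynomial (Idx sz) k} (h : cas k sz P = 0) : P ∈ inv k sz := by
  have hk : ∀ e w, cas k sz (wc k sz e w P) = 0 := fun e w => by rw [← cas_wc, h, map_zero]
  have hall := fun e w => kill_of_cas (wc_mem e w P) (hk e w)
  refine ⟨eq_zero_of_wc fun e w => ?_, eq_zero_of_wc fun e w => ?_, eq_zero_of_wc fun e w => ?_⟩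
  · rw [show w = (w - 2) + 2 by ring, opD_wc]
    exact (hall e _).2.1
  · rw [show w = (w + 2) + -2 by ring, opF_wc]
    exact (hall e _).2.2
  · rw [show w = w + 0 by ring, opH_wc, (mem_W.1 (wc_mem e w P)).2]
    by_cases hw : w = 0
    · simp [hw]
    · rw [(hall e w).1 hw, smul_zero]

theorem cas_cas {b : MvPolynomial (Idx sz) k} (h : cas k sz (cas k sz b) = 0) : cas k sz b = 0 := by
  refine eq_zero_of_wc fun e w => ?_
  have hy := cas_mem (wc_mem e w b)
  rw [cas_wc]
  have h2 : cas k sz (cas k sz (wc k sz e w b)) = 0 := by rw [← cas_wc, ← cas_wc, h, map_zero]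
  obtain ⟨hw, hD, -⟩ := kill_of_cas hy h2
  by_cases h0 : w = 0
  · subst h0
    rw [cas_eq (wc_mem e 0 b)] at hD ⊢
    simp only [Int.cast_zero, mul_zero, add_zero, zero_smul, Derivation.map_smul] at hD ⊢
    have hz : opD k sz (wc k sz e 0 b) = 0 :=
      inj_up (by norm_num : (0 : ℤ) < 0 + 2) (opD_mem (wc_mem e 0 b)) le_rfl (c := 0) (by
        rw [Rat.cast_zero, zero_smul]
        exact (smul_eq_zero.1 hD).resolve_left two_ne_zero)
    rw [hz, map_zero, smul_zero]
  · exact hw h0

theorem decompose {e : ℕ} {h : MvPolynomial (Idx sz) k} (hh : h ∈ G k sz e) :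
    ∃ a b, a ∈ inv k sz ∧ a ∈ G k sz e ∧ h = a + cas k sz b := by
  have hmap : ∀ v ∈ G k sz e, cas k sz v ∈ G k sz e := fun v hv x hx => by
    by_contra hne
    have h0 : wc k sz x.degree (mwt sz x) (cas k sz v) = 0 := by
      rw [cas_wc, wc_G (fun h' => hne h'.symm) hv, map_zero]
    have h1 := congrArg (coeff x) h0
    rw [coeff_wc, if_pos ⟨rfl, rfl⟩, coeff_zero] at h1
    exact mem_support_iff.1 hx h1
  let T : G k sz e →ₗ[k] G k sz e := (cas k sz).restrict hmap
  have hdisj : Disjoint (LinearMap.range T) (LinearMap.ker T) := by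
    rw [Submodule.disjoint_def]
    rintro _ ⟨b, rfl⟩ hk
    exact Subtype.ext (cas_cas (congrArg Subtype.val (LinearMap.mem_ker.1 hk)))
  have htop : LinearMap.range T ⊔ LinearMap.ker T = ⊤ :=
    Submodule.eq_top_of_disjoint _ _ (LinearMap.finrank_range_add_finrank_ker T).ge hdisj
  obtain ⟨y, ⟨b, rfl⟩, a, ha, hab⟩ := Submodule.mem_sup.1 (show (⟨h, hh⟩ : G k sz e) ∈ LinearMap.range T ⊔ LinearMap.ker T by
    rw [htop]; exact Submodule.mem_top)
  refine ⟨a, b, inv_of_cas (congrArg Subtype.val (LinearMap.mem_ker.1 ha)), a.2, ?_⟩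
  rw [add_comm]
  exact (congrArg Subtype.val hab).symm

theorem hc_inv {P : MvPolynomial (Idx sz) k} (hP : P ∈ inv k sz) (e : ℕ) : homogeneousComponent e P ∈ inv k sz := by
  refine inv_of_cas (eq_zero_of_wc fun e' w => ?_)
  rw [cas_wc]
  by_cases h : e' = e
  · subst h
    rw [wc_hc, ← cas_wc, cas_of_inv hP, map_zero]
  · rw [wc_G (Ne.symm h) (hc_mem_G e P), map_zero]

theorem fg_inv : (inv k sz).FG := by
  classical
  let I : Ideal (MvPolynomial (Idx sz) k) :=
    Ideal.span {f | f ∈ inv k sz ∧ ∃ e, 0 < e ∧ f ∈ G k sz e}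
  obtain ⟨s, hs, hspan⟩ := (Submodule.fg_span_iff_fg_span_finset_subset _).1 (IsNoetherian.noetherian I)
  choose hsi deg hdeg hsG using fun g (hg : g ∈ s) => hs hg
  let D : MvPolynomial (Idx sz) k → ℕ := fun g => if hg : g ∈ s then deg g hg else 1
  have hD : ∀ g ∈ s, 0 < D g ∧ g ∈ G k sz (D g) := fun g hg => by simp [D, hg, hdeg g hg, hsG g hg]
  have key : ∀ e, ∀ f ∈ inv k sz, f ∈ G k sz e → f ∈ Algebra.adjoin k (s : Set (MvPolynomial (Idx sz) k)) := by
    intro e
    induction e using Nat.strong_induction_on with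
    | _ e ih =>
      intro f hf hfG
      rcases Nat.eq_zero_or_pos e with rfl | he
      · rw [show f = C (coeff 0 f) from MvPolynomial.ext _ _ fun x => by
          rw [coeff_C]
          by_cases hx : 0 = x
          · rw [if_pos hx, hx]
          · rw [if_neg hx]
            by_contra h
            exact hx ((Finsupp.degree_eq_zero_iff x).1 (hfG (mem_support_iff.2 h))).symm]
        exact Subalgebra.algebraMap_mem _ _
      have hfI : f ∈ Submodule.span (MvPolynomial (Idx sz) k) (s : Set (MvPolynomial (Idx sz) k)) := by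
        rw [← hspan]; exact Ideal.subset_span ⟨hf, e, he, hfG⟩
      obtain ⟨c, hc⟩ := Submodule.mem_span_finset'.1 hfI
      let h : s → MvPolynomial (Idx sz) k := fun g => if D g ≤ e then homogeneousComponent (e - D g) (c g) else 0
      have hG : ∀ g : s, h g ∈ G k sz (e - D g) := fun g => by
        simp only [h]; split_ifs
        · exact hc_mem_G _ _
        · exact Submodule.zero_mem _
      choose a b ha haG hab using fun g : s => decompose (hG g)
      have hfe : f = ∑ g : s, h g * (g : MvPolynomial (Idx sz) k) := by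
        have h1 : homogeneousComponent e f = f := by
          refine MvPolynomial.ext _ _ fun x => ?_
          rw [coeff_homogeneousComponent]
          split_ifs with hx
          · rfl
          · by_contra hne
            exact hx (hfG (mem_support_iff.2 (Ne.symm hne)))
        conv_lhs => rw [← h1, ← hc, map_sum]
        refine Finset.sum_congr rfl fun g _ => MvPolynomial.ext _ _ fun x => ?_
        rw [smul_eq_mul, coeff_homogeneousComponent, coeff_mul, coeff_mul]
        by_cases hx : x.degree = e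
        · rw [if_pos hx]
          refine Finset.sum_congr rfl fun p hp => ?_
          by_cases hg : coeff p.2 (g : MvPolynomial (Idx sz) k) = 0
          · simp [hg]
          · have h2 : p.2.degree = D g := (hD g g.2).2 (mem_support_iff.2 hg)
            have h3 : p.1.degree + p.2.degree = e := by rw [← map_add, Finset.HasAntidiagonal.mem_antidiagonal.1 hp, hx]
            simp only [h]
            rw [if_pos (by omega), coeff_homogeneousComponent, if_pos (by omega)]
        · rw [if_neg hx]
          refine (Finset.sum_eq_zero fun p hp => ?_).symm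
          by_cases hg : coeff p.2 (g : MvPolynomial (Idx sz) k) = 0
          · simp [hg]
          · have h2 : p.2.degree = D g := (hD g g.2).2 (mem_support_iff.2 hg)
            have h3 : p.1.degree + p.2.degree = x.degree := by rw [← map_add, Finset.HasAntidiagonal.mem_antidiagonal.1 hp]
            simp only [h]
            split_ifs with hle
            · rw [coeff_homogeneousComponent, if_neg (by omega), zero_mul]
            · simp
      have hsum : f = ∑ g : s, a g * (g : MvPolynomial (Idx sz) k) := by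
        have h1 : f - ∑ g : s, a g * (g : MvPolynomial (Idx sz) k) = cas k sz (∑ g : s, (g : MvPolynomial (Idx sz) k) * b g) := by
          rw [map_sum, Finset.sum_congr rfl fun (g : s) _ => cas_mul (hsi g g.2) (b g), hfe, ← Finset.sum_sub_distrib]
          exact Finset.sum_congr rfl fun g _ => by rw [hab g]; ring
        have h2 : f - ∑ g : s, a g * (g : MvPolynomial (Idx sz) k) ∈ inv k sz :=
          Subalgebra.sub_mem _ hf (Subalgebra.sum_mem _ fun g _ => Subalgebra.mul_mem _ (ha g) (hsi g g.2))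
        rw [h1] at h2
        exact sub_eq_zero.1 (h1.trans (cas_cas (cas_of_inv h2)))
      rw [hsum]
      exact Subalgebra.sum_mem _ fun g _ => Subalgebra.mul_mem _
        (ih (e - D g) (by have := (hD g g.2).1; omega) _ (ha g) (haG g)) (Algebra.subset_adjoin g.2)
  refine ⟨s, le_antisymm (Algebra.adjoin_le fun g hg => hsi g hg) fun f hf => ?_⟩
  rw [← MvPolynomial.sum_homogeneousComponent f]
  exact Subalgebra.sum_mem _ fun e _ => key e _ (hc_inv hf e) (hc_mem_G e f)

end Groth.Agent.GITLib.Sl2
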