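import Groth.Agent.GITLib.Sl2Hilbert

/-! The kernel of a linear locally nilpotent derivation in Jordan form is finitely generated. -/

set_option autoImplicit false
universe u

open MvPolynomial

noncomputable section

namespace Groth.Agent.GITLib.Sl2

set_option backward.isDefEq.respectTransparency false

variable {k : Type u} [Field k] {d : ℕ} {sz : Fin d → ℕ}

theorem comm_of_gen {σ τ : Type*} (f : MvPolynomial σ k →ₐ[k] MvPolynomial τ k)
    (D₁ : Derivation k (MvPolynomial σ k) (MvPolynomial σ k)) (D₂ : Derivation k (MvPolynomial τ k) (MvPolynomial τ k))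
    (h : ∀ p, f (D₁ (X p)) = D₂ (f (X p))) (P : MvPolynomial σ k) : f (D₁ P) = D₂ (f P) := by
  induction P using MvPolynomial.induction_on with
  | C c => rw [← algebraMap_eq, Derivation.map_algebraMap, map_zero, AlgHom.commutes, Derivation.map_algebraMap]
  | add p q hp hq => simp [hp, hq]
  | mul_X p i hp =>
    simp only [Derivation.leibniz, smul_eq_mul, map_add, map_mul, hp, h]

/-- the block sizes with an extra binary block -/
abbrev sz' (sz : Fin d → ℕ) : Fin (d + 1) → ℕ := Fin.cons 2 sz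

/-- variables of the extra block -/
def pt0 (sz : Fin d → ℕ) : Idx (sz' sz) := ⟨0, ⟨0, by simp⟩⟩
/-- variables of the extra block -/
def pt1 (sz : Fin d → ℕ) : Idx (sz' sz) := ⟨0, ⟨1, by simp⟩⟩

variable (k sz) in
/-- inclusion -/
def incl : MvPolynomial (Idx sz) k →ₐ[k] MvPolynomial (Idx (sz' sz)) k :=
  rename fun p => (⟨p.1.succ, ⟨(p.2 : ℕ), by simp⟩⟩ : Idx (sz' sz))

variable (k sz) in
/-- specialisation -/
def spec : MvPolynomial (Idx (sz' sz)) k →ₐ[k] MvPolynomial (Idx sz) k :=
  aeval fun p => if h : p.1 = 0 then (if (p.2 : ℕ) = 0 then 1 else 0) else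
    X ⟨p.1.pred h, ⟨(p.2 : ℕ), by
      have h2 := p.2.2
      have h3 : sz' sz p.1 = sz (p.1.pred h) := by
        conv_lhs => rw [← Fin.succ_pred p.1 h]
        exact Fin.cons_succ _ _ _
      omega⟩⟩

theorem spec_pt0 : spec k sz (X (pt0 sz)) = 1 := by simp [spec, pt0]
theorem spec_pt1 : spec k sz (X (pt1 sz)) = 0 := by simp [spec, pt1]

theorem spec_succ (i : Fin d) (j : ℕ) (hj : j < sz' sz i.succ) (hj' : j < sz i) :
    spec k sz (X (⟨i.succ, ⟨j, hj⟩⟩ : Idx (sz' sz))) = X ⟨i, ⟨j, hj'⟩⟩ := by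
  simp [spec, Fin.succ_ne_zero]

theorem spec_incl (P : MvPolynomial (Idx sz) k) : spec k sz (incl k sz P) = P := by
  suffices (spec k sz).comp (incl k sz) = AlgHom.id k _ from DFunLike.congr_fun this P
  refine MvPolynomial.algHom_ext fun p => ?_
  rw [AlgHom.comp_apply, incl, rename_X, spec_succ _ _ _ p.2.2]
  rfl

theorem spec_opD (P : MvPolynomial (Idx (sz' sz)) k) : spec k sz (opD k (sz' sz) P) = opD k sz (spec k sz P) := by
  refine comm_of_gen _ _ _ (fun p => ?_) P
  obtain ⟨i, j⟩ := p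
  have hj := j.2
  induction i using Fin.cases with
  | zero =>
    simp only [opD, mkDerivation_X, dX]
    split_ifs with h
    · simp [spec]
      split_ifs <;> simp
    · rcases j with ⟨j, hj'⟩
      simp only [Fin.cons_zero] at h hj
      obtain rfl : j = 1 := by
        simp at h hj
        omega
      simp [spec]
  | succ i =>
    have hj' : (j : ℕ) < sz i := by simpa using hj
    rw [show (⟨i.succ, j⟩ : Idx (sz' sz)) = ⟨i.succ, ⟨(j : ℕ), hj⟩⟩ from rfl, spec_succ i _ hj hj']
    simp only [opD, mkDerivation_X, dX]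
    by_cases h : (j : ℕ) + 1 < sz i
    · rw [dif_pos (show (j : ℕ) + 1 < sz' sz i.succ by simpa using h), dif_pos h, spec_succ]
    · rw [dif_neg (show ¬ (j : ℕ) + 1 < sz' sz i.succ by simpa using h), dif_neg h, map_zero]

theorem incl_opD (P : MvPolynomial (Idx sz) k) : incl k sz (opD k sz P) = opD k (sz' sz) (incl k sz P) := by
  refine comm_of_gen _ _ _ (fun p => ?_) P
  simp only [opD, mkDerivation_X, incl, rename_X, dX]
  by_cases h : (p.2 : ℕ) + 1 < sz p.1
  · rw [dif_pos h, dif_pos (by simpa using h), rename_X]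
  · rw [dif_neg h, dif_neg (by simpa using h), map_zero]

theorem incl_opF (P : MvPolynomial (Idx sz) k) : incl k sz (opF k sz P) = opF k (sz' sz) (incl k sz P) := by
  refine comm_of_gen _ _ _ (fun p => ?_) P
  simp only [opF, mkDerivation_X, incl, rename_X, map_mul, rename_C, prv]
  simp

theorem incl_opH (P : MvPolynomial (Idx sz) k) : incl k sz (opH k sz P) = opH k (sz' sz) (incl k sz P) := by
  refine comm_of_gen _ _ _ (fun p => ?_) P
  simp only [opH, opW, mkDerivation_X, incl, rename_X, map_mul, rename_C]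
  simp [wtv]

theorem D_pow (a b : ℕ) : opD k (sz' sz) (X (pt0 sz) ^ a * X (pt1 sz) ^ b) =
    (a : k) • (X (pt0 sz) ^ (a - 1) * X (pt1 sz) ^ (b + 1)) := by
  have h0 : opD k (sz' sz) (X (pt0 sz)) = X (pt1 sz) := by
    rw [opD, mkDerivation_X, dX, dif_pos (by simp [pt0])]
    rfl
  have h1 : opD k (sz' sz) (X (pt1 sz)) = 0 := by
    rw [opD, mkDerivation_X, dX, dif_neg (by simp [pt1])]
  simp [Derivation.leibniz, Derivation.leibniz_pow, h0, h1, smul_eq_C_mul, pow_succ]
  ring

theorem F_pow (a b : ℕ) : opF k (sz' sz) (X (pt0 sz) ^ a * X (pt1 sz) ^ b) =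
    (b : k) • (X (pt0 sz) ^ (a + 1) * X (pt1 sz) ^ (b - 1)) := by
  have h0 : opF k (sz' sz) (X (pt0 sz)) = 0 := by
    rw [opF, mkDerivation_X]
    simp [pt0]
  have h1 : opF k (sz' sz) (X (pt1 sz)) = X (pt0 sz) := by
    rw [opF, mkDerivation_X]
    simp [pt1, pt0, prv]
  simp [Derivation.leibniz, Derivation.leibniz_pow, h0, h1, smul_eq_C_mul, pow_succ]
  ring

theorem H_pow (a b : ℕ) : opH k (sz' sz) (X (pt0 sz) ^ a * X (pt1 sz) ^ b) =
    ((b : k) - (a : k)) • (X (pt0 sz) ^ a * X (pt1 sz) ^ b) := by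
  have h0 : opH k (sz' sz) (X (pt0 sz)) = -X (pt0 sz) := by
    simp only [opH, opW, mkDerivation_X]
    simp [pt0, wtv]
  have h1 : opH k (sz' sz) (X (pt1 sz)) = X (pt1 sz) := by
    simp only [opH, opW, mkDerivation_X]
    simp [pt1, wtv]
  have hpa : ∀ a : ℕ, opH k (sz' sz) (X (pt0 sz) ^ a) = (-(a : k)) • X (pt0 sz) ^ a := fun a => by
    induction a with
    | zero => simp
    | succ a ih =>
      simp only [pow_succ, Derivation.leibniz, ih, h0, smul_eq_mul, smul_eq_C_mul, map_neg, map_natCast, Nat.cast_succ]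
      simp only [map_add, map_natCast, map_one]
      ring
  have hpb : ∀ b : ℕ, opH k (sz' sz) (X (pt1 sz) ^ b) = (b : k) • X (pt1 sz) ^ b := fun b => by
    induction b with
    | zero => simp
    | succ b ih =>
      simp only [pow_succ, Derivation.leibniz, ih, h1, smul_eq_mul, smul_eq_C_mul, map_natCast, Nat.cast_succ]
      simp only [map_add, map_natCast, map_one]
      ring
  simp only [Derivation.leibniz, hpa, hpb, smul_eq_mul, smul_eq_C_mul, map_sub, map_neg, map_natCast]
  ring

variable [CharZero k]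

theorem opD_iterate {e : ℕ} {m : ℕ} {u : MvPolynomial (Idx sz) k} (hu : u ∈ W k sz e m) (hD : opD k sz u = 0) :
    ∀ j : ℕ, (opF k sz)^[j] u ∈ W k sz e ((m : ℤ) - 2 * j) ∧
      opD k sz ((opF k sz)^[j + 1] u) = (((j : k) + 1) * ((m : k) - (j : k))) • (opF k sz)^[j] u := by
  intro j
  induction j with
  | zero =>
    refine ⟨by simpa using hu, ?_⟩
    rw [Function.iterate_one, DF_eq hu, hD, map_zero, zero_add]
    simp
  | succ j ih =>
    have hm : (opF k sz)^[j + 1] u ∈ W k sz e ((m : ℤ) - 2 * ((j + 1 : ℕ) : ℤ)) := by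
      rw [Function.iterate_succ_apply', show (m : ℤ) - 2 * ((j + 1 : ℕ) : ℤ) = (m : ℤ) - 2 * j - 2 by push_cast; ring]
      exact opF_mem ih.1
    refine ⟨hm, ?_⟩
    rw [Function.iterate_succ_apply' _ (j + 1), DF_eq hm, ih.2, Derivation.map_smul, show opF k sz ((opF k sz)^[j] u) = (opF k sz)^[j + 1] u from (Function.iterate_succ_apply' _ _ _).symm,
      ← add_smul]
    congr 1
    push_cast
    ring

/-- the lift of a highest weight vector -/
def lift (m : ℕ) (u : MvPolynomial (Idx sz) k) : MvPolynomial (Idx (sz' sz)) k :=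
  ∑ j ∈ Finset.range (m + 1), ((-1 : k) ^ j / (j.factorial : k)) •
    (incl k sz ((opF k sz)^[j] u) * (X (pt0 sz) ^ (m - j) * X (pt1 sz) ^ j))

theorem coef_succ (j : ℕ) :
    ((-1 : k) ^ (j + 1) / ((j + 1).factorial : k)) * ((j : k) + 1) = -((-1 : k) ^ j / (j.factorial : k)) := by
  have h1 : (j.factorial : k) ≠ 0 := Nat.cast_ne_zero.2 (Nat.factorial_ne_zero j)
  have h2 : ((j : k) + 1) ≠ 0 := by exact_mod_cast Nat.succ_ne_zero j
  rw [Nat.factorial_succ, Nat.cast_mul, pow_succ]
  push_cast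
  field_simp

theorem spec_lift (m : ℕ) (u : MvPolynomial (Idx sz) k) : spec k sz (lift m u) = u := by
  rw [lift, map_sum, Finset.sum_eq_single_of_mem 0 (Finset.mem_range.2 (Nat.succ_pos m)) fun j _ hj => by
    rw [map_smul, map_mul, map_mul, map_pow, map_pow, spec_pt1, zero_pow hj, mul_zero, mul_zero, smul_zero]]
  simp [map_mul, map_pow, spec_pt0, spec_pt1, spec_incl]

theorem lift_mem {e : ℕ} {m : ℕ} {u : MvPolynomial (Idx sz) k} (hu : u ∈ W k sz e m) (hD : opD k sz u = 0) :
    lift m u ∈ inv k (sz' sz) := by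
  have hit := opD_iterate hu hD
  set c : ℕ → k := fun j => (-1 : k) ^ j / (j.factorial : k) with hc
  set U : ℕ → MvPolynomial (Idx (sz' sz)) k := fun j => incl k sz ((opF k sz)^[j] u) with hU
  have hl : lift m u = ∑ j ∈ Finset.range (m + 1), c j • (U j * (X (pt0 sz) ^ (m - j) * X (pt1 sz) ^ j)) := rfl
  have hDU : ∀ j, opD k (sz' sz) (U (j + 1)) = (((j : k) + 1) * ((m : k) - (j : k))) • U j := fun j => by
    simp only [U]
    rw [← incl_opD, (hit j).2, map_smul]
  have hDU0 : opD k (sz' sz) (U 0) = 0 := by simp only [U, Function.iterate_zero_apply]; rw [← incl_opD, hD, map_zero]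
  have hFU : ∀ j, opF k (sz' sz) (U j) = U (j + 1) := fun j => by
    simp only [U]; rw [← incl_opF, Function.iterate_succ_apply']
  have hHU : ∀ j, opH k (sz' sz) (U j) = ((m : k) - 2 * (j : k)) • U j := fun j => by
    simp only [U]
    rw [← incl_opH, (mem_W.1 (hit j).1).2, map_smul]
    push_cast
    rfl
  have hFtop : U (m + 1) = 0 := by
    have h0 : (opF k sz)^[m + 1] u = 0 := inj_down (c := 0) (show (m : ℤ) - 2 * ((m + 1 : ℕ) : ℤ) < 0 by push_cast; omega)
      (hit (m + 1)).1 le_rfl (by rw [(hit m).2, sub_self, mul_zero, zero_smul, map_zero, Rat.cast_zero, zero_smul])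
    simp only [U, h0, map_zero]
  have hcs : ∀ j, c (j + 1) * ((j : k) + 1) = -c j := coef_succ
  refine ⟨?_, ?_, ?_⟩
  · let h : ℕ → MvPolynomial (Idx (sz' sz)) k := fun j => if j = 0 then 0 else
      (c (j - 1) * ((m : k) - ((j - 1 : ℕ) : k))) • (U (j - 1) * (X (pt0 sz) ^ (m - (j - 1) - 1) * X (pt1 sz) ^ (j - 1 + 1)))
    rw [hl, map_sum, Finset.sum_congr rfl (g := fun j => h (j + 1) - h j) fun j hj => ?_, Finset.sum_range_sub]
    · simp [h]
    · have hjm : j ≤ m := Nat.lt_succ_iff.1 (Finset.mem_range.1 hj)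
      rw [Derivation.map_smul, Derivation.leibniz, smul_eq_mul, smul_eq_mul, D_pow, Nat.cast_sub hjm]
      rcases j with - | i
      · simp [h, hDU0, smul_smul]
      · rw [hDU]
        simp only [h, Nat.succ_ne_zero, if_false, Nat.add_sub_cancel]
        rw [show m - i - 1 = m - (i + 1) by omega, mul_smul_comm, mul_smul_comm, smul_add, smul_smul, smul_smul,
          show c (i + 1) * (((i : k) + 1) * ((m : k) - (i : k))) = -(c i * ((m : k) - (i : k))) by
            rw [← mul_assoc, hcs]; ring, neg_smul,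
          show X (pt0 sz) ^ (m - (i + 1)) * X (pt1 sz) ^ (i + 1) * U i = U i * (X (pt0 sz) ^ (m - (i + 1)) * X (pt1 sz) ^ (i + 1)) from mul_comm _ _]
        abel
  · let h : ℕ → MvPolynomial (Idx (sz' sz)) k := fun j => if j = 0 then 0 else
      c (j - 1) • (U (j - 1 + 1) * (X (pt0 sz) ^ (m - (j - 1)) * X (pt1 sz) ^ (j - 1)))
    rw [hl, map_sum, Finset.sum_congr rfl (g := fun j => h (j + 1) - h j) fun j hj => ?_, Finset.sum_range_sub]
    · simp [h, hFtop]
    · have hjm : j ≤ m := Nat.lt_succ_iff.1 (Finset.mem_range.1 hj)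
      rw [Derivation.map_smul, Derivation.leibniz, smul_eq_mul, smul_eq_mul, F_pow, hFU]
      rcases j with - | i
      · simp [h, mul_comm]
      · simp only [h, Nat.succ_ne_zero, if_false, Nat.add_sub_cancel]
        rw [show m - (i + 1) + 1 = m - i by omega, mul_smul_comm, smul_add, smul_smul,
          show c (i + 1) * ((i + 1 : ℕ) : k) = -c i by push_cast; exact hcs i, neg_smul,
          show X (pt0 sz) ^ (m - (i + 1)) * X (pt1 sz) ^ (i + 1) * U (i + 1 + 1) = U (i + 1 + 1) * (X (pt0 sz) ^ (m - (i + 1)) * X (pt1 sz) ^ (i + 1)) from mul_comm _ _]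
        abel
  · rw [hl, map_sum]
    refine Finset.sum_eq_zero fun j hj => ?_
    have hjm : j ≤ m := Nat.lt_succ_iff.1 (Finset.mem_range.1 hj)
    rw [Derivation.map_smul, Derivation.leibniz, smul_eq_mul, smul_eq_mul, H_pow, hHU, Nat.cast_sub hjm,
      mul_smul_comm, mul_smul_comm, show X (pt0 sz) ^ (m - j) * X (pt1 sz) ^ j * U j = U j * (X (pt0 sz) ^ (m - j) * X (pt1 sz) ^ j) from mul_comm _ _,
      ← add_smul, show (j : k) - ((m : k) - (j : k)) + ((m : k) - 2 * (j : k)) = 0 by ring, zero_smul, smul_zero]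

variable (k sz) in
/-- the kernel of raising -/
def kerD : Subalgebra k (MvPolynomial (Idx sz) k) where
  carrier := {P | opD k sz P = 0}
  mul_mem' := fun {a b} (ha : opD k sz a = 0) (hb : opD k sz b = 0) => show opD k sz (a * b) = 0 by simp [Derivation.leibniz, ha, hb]
  add_mem' := fun {a b} (ha : opD k sz a = 0) (hb : opD k sz b = 0) => show opD k sz (a + b) = 0 by simp [ha, hb]
  algebraMap_mem' c := Derivation.map_algebraMap _ c

theorem kerD_eq_map : kerD k sz = (inv k (sz' sz)).map (spec k sz) := by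
  refine le_antisymm (fun P hP => ?_) ?_
  · have hP' : opD k sz P = 0 := hP
    rw [show P = ∑ x ∈ P.support.image (fun x => (x.degree, mwt sz x)), wc k sz x.1 x.2 P from ?_]
    · refine Subalgebra.sum_mem _ fun x _ => ?_
      have hu := wc_mem (k := k) x.1 x.2 P
      have hD : opD k sz (wc k sz x.1 x.2 P) = 0 := by rw [← opD_wc, hP', map_zero]
      rcases lt_or_ge x.2 0 with hw | hw
      · rw [inj_down (c := 0) hw hu le_rfl (by rw [hD, map_zero, Rat.cast_zero, zero_smul])]
        exact Subalgebra.zero_mem _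
      · obtain ⟨m, hm⟩ := Int.eq_ofNat_of_zero_le hw
        rw [hm] at hu hD ⊢
        exact ⟨lift m _, lift_mem hu hD, spec_lift m _⟩
    · classical
      refine MvPolynomial.ext _ _ fun y => ?_
      rw [coeff_sum]
      simp only [coeff_wc]
      by_cases hy : coeff y P = 0
      · simp [hy]
      · rw [Finset.sum_eq_single (y.degree, mwt sz y)]
        · simp
        · intro x _ hne
          rw [if_neg fun h => hne (Prod.ext h.1.symm h.2.symm)]
        · intro h
          exact absurd (Finset.mem_image.2 ⟨y, mem_support_iff.2 hy, rfl⟩) h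
  · rintro _ ⟨f, hf, rfl⟩
    show opD k sz (spec k sz f) = 0
    rw [← spec_opD, (mem_inv.1 hf).1, map_zero]

theorem fg_kerD : (kerD k sz).FG := by
  rw [kerD_eq_map]
  exact Subalgebra.FG.map _ fg_inv

end Groth.Agent.GITLib.Sl2
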