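import Groth.Agent.GITLib.SteinbergPairing

/-!
# Non-degeneracy of the Steinberg pairing
-/

set_option autoImplicit false
universe u

open MvPolynomial

noncomputable section

namespace Groth.Agent.GITLib.Steinberg

variable {k : Type u} [Field k] {n : ℕ}

/-- `l` is the part of lowest weight `E` of `f`. -/
def LowT (w : Fin n × Fin n → ℤ) (f l : Fn k n) (E : ℤ) : Prop :=
  IsWeightedHomogeneous w l E ∧ ∀ x, coeff x (f - l) ≠ 0 → E < Finsupp.weight w x

variable {w : Fin n × Fin n → ℤ}

theorem lowT_self {l : Fn k n} {E : ℤ} (h : IsWeightedHomogeneous w l E) : LowT w l l E :=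
  ⟨h, fun x hx => absurd (by simp) hx⟩

theorem LowT.coeff_eq {f l : Fn k n} {E : ℤ} (h : LowT w f l E) {x} (hx : Finsupp.weight w x = E) :
    coeff x f = coeff x l := by
  by_contra hne
  have := h.2 x (by rw [coeff_sub]; exact sub_ne_zero.2 hne)
  omega

theorem LowT.mul {f l f' l' : Fn k n} {E E' : ℤ} (h : LowT w f l E) (h' : LowT w f' l' E') :
    LowT w (f * f') (l * l') (E + E') := by
  classical
  refine ⟨h.1.mul h'.1, fun x hx => ?_⟩
  have hge : ∀ {g m : Fn k n} {F : ℤ}, LowT w g m F → ∀ y, coeff y g ≠ 0 → F ≤ Finsupp.weight w y := by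
    intro g m F hg y hy
    by_cases hm : coeff y m = 0
    · exact (hg.2 y (by rwa [coeff_sub, hm, sub_zero])).le
    · exact (hg.1 hm).ge
  rw [show f * f' - l * l' = (f - l) * f' + l * (f' - l') by ring, coeff_add] at hx
  by_cases h1 : coeff x ((f - l) * f') = 0
  · rw [h1, zero_add, coeff_mul] at hx
    obtain ⟨⟨y, z⟩, hyz, hne⟩ := Finset.exists_ne_zero_of_sum_ne_zero hx
    rw [Finset.HasAntidiagonal.mem_antidiagonal] at hyz
    have a1 := h.1 (left_ne_zero_of_mul hne)
    have a2 := h'.2 z (right_ne_zero_of_mul hne)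
    simp only at a1 a2 hyz
    rw [← hyz, map_add]
    omega
  · rw [coeff_mul] at h1
    obtain ⟨⟨y, z⟩, hyz, hne⟩ := Finset.exists_ne_zero_of_sum_ne_zero h1
    rw [Finset.HasAntidiagonal.mem_antidiagonal] at hyz
    have a1 := h.2 y (left_ne_zero_of_mul hne)
    have a2 := hge h' z (right_ne_zero_of_mul hne)
    simp only at a1 a2 hyz
    rw [← hyz, map_add]
    omega

theorem lowT_C (c : k) : LowT w (C c) (C c) 0 := lowT_self (isWeightedHomogeneous_C w c)

theorem LowT.const_mul {f l : Fn k n} {E : ℤ} (h : LowT w f l E) (c : k) : LowT w (C c * f) (C c * l) E := by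
  simpa using (lowT_C c).mul h

theorem lowT_one : LowT w (1 : Fn k n) 1 0 := lowT_self (isWeightedHomogeneous_one k w)

theorem LowT.prod {ι : Type*} (s : Finset ι) {f l : ι → Fn k n} {E : ι → ℤ}
    (h : ∀ i ∈ s, LowT w (f i) (l i) (E i)) : LowT w (∏ i ∈ s, f i) (∏ i ∈ s, l i) (∑ i ∈ s, E i) := by
  classical
  induction s using Finset.induction_on with
  | empty => simpa using lowT_one
  | insert a s ha ih =>
    rw [Finset.prod_insert ha, Finset.prod_insert ha, Finset.sum_insert ha]
    exact (h a (Finset.mem_insert_self a s)).mul (ih fun i hi => h i (Finset.mem_insert_of_mem hi))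

theorem LowT.pow {f l : Fn k n} {E : ℤ} (h : LowT w f l E) (e : ℕ) : LowT w (f ^ e) (l ^ e) (e * E) := by
  simpa using LowT.prod (Finset.range e) (f := fun _ => f) (l := fun _ => l) (E := fun _ => E) fun _ _ => h

theorem LowT.add {f l f' l' : Fn k n} {E : ℤ} (h : LowT w f l E) (h' : LowT w f' l' E) :
    LowT w (f + f') (l + l') E := by
  refine ⟨h.1.add h'.1, fun x hx => ?_⟩
  rw [show f + f' - (l + l') = (f - l) + (f' - l') by ring, coeff_add] at hx
  by_cases h1 : coeff x (f - l) = 0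
  · exact h'.2 x (by rwa [h1, zero_add] at hx)
  · exact h.2 x h1

theorem lowT_zero {E : ℤ} : LowT w (0 : Fn k n) 0 E := lowT_self (isWeightedHomogeneous_zero k w E)

/-- Weight by rows. -/
def wRow (n : ℕ) : Fin n × Fin n → ℤ := fun ij => (ij.1 : ℕ)

/-- Weight by the squared distance to the diagonal. -/
def wDiag (n : ℕ) : Fin n × Fin n → ℤ := fun ij => (((ij.1 : ℕ) : ℤ) - (ij.2 : ℕ)) ^ 2

/-- A minor of the generic matrix. -/
def minor {j : ℕ} (r c : Fin j → Fin n) : Fn k n := ((gen k n).submatrix r c).det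

theorem minor_eq {j : ℕ} (r c : Fin j → Fin n) :
    (minor r c : Fn k n) = ∑ π : Equiv.Perm (Fin j), C ((Equiv.Perm.sign π : ℤ) : k) * ∏ b, X (r (π b), c b) := by
  rw [minor, Matrix.det_apply']
  exact Finset.sum_congr rfl fun π _ => by simp [gen]

theorem minor_perm_left {j : ℕ} (r c : Fin j → Fin n) (π : Equiv.Perm (Fin j)) :
    (minor (r ∘ π) c : Fn k n) = C ((Equiv.Perm.sign π : ℤ) : k) * minor r c := by
  rw [minor, show (gen k n).submatrix (r ∘ π) c = ((gen k n).submatrix r c).submatrix π id from rfl,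
    Matrix.det_permute]
  simp [minor]

theorem minor_perm_right {j : ℕ} (r c : Fin j → Fin n) (π : Equiv.Perm (Fin j)) :
    (minor r (c ∘ π) : Fn k n) = C ((Equiv.Perm.sign π : ℤ) : k) * minor r c := by
  rw [minor, show (gen k n).submatrix r (c ∘ π) = ((gen k n).submatrix r c).submatrix id π from rfl,
    Matrix.det_permute']
  simp [minor]

theorem isWeightedHomogeneous_minor_row {j : ℕ} (r c : Fin j → Fin n) :
    IsWeightedHomogeneous (wRow n) (minor r c : Fn k n) (∑ a, ((r a : ℕ) : ℤ)) := by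
  rw [minor_eq]
  refine IsWeightedHomogeneous.sum _ _ _ fun π _ => ?_
  have h := (IsWeightedHomogeneous.prod (Finset.univ : Finset (Fin j)) (fun b => (X (r (π b), c b) : Fn k n))
    (fun b => ((r (π b) : ℕ) : ℤ)) fun b _ => isWeightedHomogeneous_X k (wRow n) _)
  rw [Equiv.sum_comp π fun a => ((r a : ℕ) : ℤ)] at h
  have h2 := (isWeightedHomogeneous_C (wRow n) ((Equiv.Perm.sign π : ℤ) : k)).mul h
  rwa [zero_add] at h2

theorem lowT_minor_diag {j : ℕ} (r c : Fin j → Fin n) (α γ : ℕ) (hr : ∀ a, (r a : ℕ) = α + (a : ℕ))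
    (hc : ∀ a, (c a : ℕ) = γ + (a : ℕ)) :
    LowT (wDiag n) (minor r c : Fn k n) (∏ b, X (r b, c b)) ((j : ℤ) * ((α : ℤ) - γ) ^ 2) := by
  classical
  have hw : ∀ π : Equiv.Perm (Fin j), IsWeightedHomogeneous (wDiag n) (∏ b, (X (r (π b), c b) : Fn k n))
      ((j : ℤ) * ((α : ℤ) - γ) ^ 2 + ∑ b, (((π b : ℕ) : ℤ) - (b : ℕ)) ^ 2) := by
    intro π
    have h := IsWeightedHomogeneous.prod (Finset.univ : Finset (Fin j)) (fun b => (X (r (π b), c b) : Fn k n))
      (fun b => wDiag n (r (π b), c b)) fun b _ => isWeightedHomogeneous_X k (wDiag n) _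
    convert h using 1
    have h0 : ∑ b, (((π b : ℕ) : ℤ) - (b : ℕ)) = 0 := by
      rw [Finset.sum_sub_distrib, Equiv.sum_comp π fun b => ((b : ℕ) : ℤ), sub_self]
    simp only [wDiag, hr, hc]
    calc _ = (j : ℤ) * ((α : ℤ) - γ) ^ 2 + ∑ b, (((π b : ℕ) : ℤ) - (b : ℕ)) ^ 2
          + 2 * ((α : ℤ) - γ) * ∑ b, (((π b : ℕ) : ℤ) - (b : ℕ)) := by rw [h0]; ring
      _ = ∑ b : Fin j, (((α : ℤ) - γ) ^ 2 + (((π b : ℕ) : ℤ) - (b : ℕ)) ^ 2
          + 2 * ((α : ℤ) - γ) * (((π b : ℕ) : ℤ) - (b : ℕ))) := by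
        rw [Finset.sum_add_distrib, Finset.sum_add_distrib, ← Finset.mul_sum]; simp
      _ = _ := Finset.sum_congr rfl fun b _ => by push_cast; ring
  refine ⟨by simpa using hw 1, fun x hx => ?_⟩
  rw [minor_eq, Finset.sum_eq_add_sum_sdiff_singleton_of_mem (Finset.mem_univ (1 : Equiv.Perm (Fin j)))] at hx
  simp only [Equiv.Perm.sign_one, Units.val_one, Int.cast_one, map_one, one_mul, Equiv.Perm.coe_one, id_eq,
    add_sub_cancel_left, coeff_sum] at hx
  obtain ⟨π, hπ, hne⟩ := Finset.exists_ne_zero_of_sum_ne_zero hx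
  rw [coeff_C_mul] at hne
  rw [hw π (right_ne_zero_of_mul hne)]
  have hπ1 : π ≠ 1 := by simpa using hπ
  obtain ⟨b, hb⟩ : ∃ b, π b ≠ b := by
    by_contra! hall
    exact hπ1 (Equiv.ext hall)
  have : 0 < ∑ b, (((π b : ℕ) : ℤ) - (b : ℕ)) ^ 2 :=
    Finset.sum_pos' (fun _ _ => sq_nonneg _) ⟨b, Finset.mem_univ _, by
      refine lt_of_le_of_ne (sq_nonneg _) (Ne.symm (pow_ne_zero 2 ?_))
      have := Fin.val_ne_of_ne hb
      omega⟩
  omega

/-- The first `j` indices. -/
def top (j : Fin n) : Fin (j : ℕ) → Fin n := Fin.castLE j.isLt.le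

/-- The last `j` indices. -/
def bot (j : Fin n) (a : Fin (j : ℕ)) : Fin n := ⟨n - j + a, by omega⟩

theorem rev_top (j : Fin n) : (Fin.rev ∘ top j) = bot j ∘ (Fin.revPerm : Equiv.Perm (Fin (j : ℕ))) := by
  funext b
  refine Fin.ext ?_
  simp only [Function.comp_apply, top, bot, Fin.val_rev, Fin.val_castLE, Fin.revPerm_apply]
  omega

/-- The product of the leading minors to the power `e`. -/
def h0 (k : Type u) [Field k] (n e : ℕ) : Fn k n := ∏ j : Fin n, minor (top j) (top j) ^ e

theorem det_mul_expand {R : Type*} [CommRing R] {j : ℕ} (A : Matrix (Fin j) (Fin n) R) (B : Matrix (Fin n) (Fin j) R) :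
    (A * B).det = ∑ s : Fin j → Fin n, (∏ i, A i (s i)) * (B.submatrix s id).det := by
  classical
  have h : (A * B).det = Matrix.detRowAlternating.toMultilinearMap (fun i => ∑ l, A i l • B l) := by
    have e : (A * B : Matrix (Fin j) (Fin j) R) = fun i => ∑ l, A i l • B l := by
      funext i c
      simp [Matrix.mul_apply]
    show Matrix.detRowAlternating (A * B) = _
    rw [e]
    rfl
  rw [h, MultilinearMap.map_sum]
  refine Finset.sum_congr rfl fun s _ => ?_
  rw [MultilinearMap.map_smul_univ, smul_eq_mul]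
  rfl

theorem sum_range_lt {j : ℕ} {S : Finset ℕ} (hS : S.card = j) {x : ℕ} (hx : x ∈ S) (hxj : j ≤ x) :
    ∑ i ∈ Finset.range j, i < ∑ i ∈ S, i := by
  have hcard : (Finset.range j \ S).card = (S \ Finset.range j).card := Finset.card_sdiff_comm (by simp [hS])
  rw [← Finset.sum_inter_add_sum_sdiff (Finset.range j) S, ← Finset.sum_inter_add_sum_sdiff S (Finset.range j),
    Finset.inter_comm S]
  refine Nat.add_lt_add_left ?_ _
  have hne : 0 < (S \ Finset.range j).card := Finset.card_pos.2 ⟨x, by simp [hx, hxj]⟩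
  have h1 : ∑ i ∈ Finset.range j \ S, i < (Finset.range j \ S).card * j := by
    rw [← smul_eq_mul, ← Finset.sum_const]
    refine Finset.sum_lt_sum_of_nonempty (Finset.card_pos.1 (hcard ▸ hne)) fun i hi => ?_
    exact Finset.mem_range.1 (Finset.mem_sdiff.1 hi).1
  rw [hcard] at h1
  have h2 : (S \ Finset.range j).card * j ≤ ∑ i ∈ S \ Finset.range j, i := by
    rw [← smul_eq_mul]
    exact Finset.card_nsmul_le_sum _ _ _ fun i hi => by simpa using (Finset.mem_sdiff.1 hi).2
  omega

theorem lowT_lmul_lead (h : Matrix (Fin n) (Fin n) k) (j : Fin n) :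
    LowT (wRow n) (lmul h (minor (top j) (top j)))
      (C (h.submatrix (top j) (top j)).det * minor (top j) (top j)) (∑ a : Fin (j : ℕ), ((a : ℕ) : ℤ)) := by
  classical
  set A : Matrix (Fin (j : ℕ)) (Fin n) (Fn k n) := Matrix.of fun i l => C (h (top j i) l) with hA
  set G : Matrix (Fin n) (Fin (j : ℕ)) (Fn k n) := (gen k n).submatrix id (top j) with hG
  set A₀ : Matrix (Fin (j : ℕ)) (Fin n) (Fn k n) := Matrix.of fun i l => if (l : ℕ) < j then A i l else 0 with hA₀
  have hlow : IsWeightedHomogeneous (wRow n) (C (h.submatrix (top j) (top j)).det * minor (top j) (top j) : Fn k n)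
      (∑ a : Fin (j : ℕ), ((a : ℕ) : ℤ)) := by
    simpa [top] using (isWeightedHomogeneous_C (wRow n) ((h.submatrix (top j) (top j)).det)).mul
      (isWeightedHomogeneous_minor_row (k := k) (top j) (top j))
  refine ⟨hlow, fun x hx => ?_⟩
  have e1 : lmul h (minor (top j) (top j)) = (A * G).det := by
    rw [minor, AlgHom.map_det]
    congr 1
    ext a b
    simp [hA, hG, gen, lmul, Matrix.mul_apply]
  have e2 : (C (h.submatrix (top j) (top j)).det * minor (top j) (top j) : Fn k n) = (A₀ * G).det := by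
    rw [RingHom.map_det, minor, ← Matrix.det_mul]
    congr 1
    refine Matrix.ext fun a b => ?_
    simp only [Matrix.mul_apply, RingHom.mapMatrix_apply, Matrix.map_apply, Matrix.submatrix_apply, hG, hA₀, hA,
      Matrix.of_apply, id_eq, ite_mul, zero_mul]
    rw [← Finset.sum_filter]
    refine Finset.sum_nbij (top j) (fun i _ => Finset.mem_filter.2 ⟨Finset.mem_univ _, i.isLt⟩) ?_ ?_ (fun i _ => by rfl)
    · intro a _ b _ hab; exact Fin.castLE_injective _ hab
    · intro l hl
      simp only [Finset.coe_filter, Set.mem_ofPred_eq] at hl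
      exact ⟨⟨l, hl.2⟩, by simp, Fin.ext rfl⟩
  rw [e1, e2, det_mul_expand, det_mul_expand, ← Finset.sum_sub_distrib, coeff_sum] at hx
  obtain ⟨s, -, hs⟩ := Finset.exists_ne_zero_of_sum_ne_zero hx
  rw [← sub_mul] at hs
  have hd : G.submatrix s id = (gen k n).submatrix s (top j) := rfl
  rw [hd] at hs
  change coeff x (_ * minor s (top j)) ≠ 0 at hs
  have hex : ∃ i, (j : ℕ) ≤ s i := by
    by_contra! hall
    refine hs ?_
    rw [show (∏ i, A i (s i)) = ∏ i, A₀ i (s i) from Finset.prod_congr rfl fun i _ => by simp only [hA₀, Matrix.of_apply, if_pos (hall i)], sub_self,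
      zero_mul, coeff_zero]
  have hinj : Function.Injective s := by
    intro a b hab
    by_contra hne
    refine hs ?_
    rw [show minor s (top j) = (0 : Fn k n) from Matrix.det_zero_of_row_eq hne (by funext c; simp [hab]), mul_zero,
      coeff_zero]
  obtain ⟨i, hi⟩ := hex
  have hAe : (∏ i, A i (s i) - ∏ i, A₀ i (s i) : Fn k n) = C (∏ i, h (top j i) (s i)) := by
    rw [Finset.prod_eq_zero (f := fun i => A₀ i (s i)) (Finset.mem_univ i) (by simp only [hA₀, Matrix.of_apply, if_neg (not_lt.2 hi)]), sub_zero,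
      map_prod]
    rfl
  rw [hAe, coeff_C_mul] at hs
  rw [isWeightedHomogeneous_minor_row s (top j) (right_ne_zero_of_mul hs)]
  have hinj' : Function.Injective fun a => (s a : ℕ) := fun a b hab => hinj (Fin.ext hab)
  have := sum_range_lt (S := Finset.univ.image fun a => (s a : ℕ))
    (by rw [Finset.card_image_of_injective _ hinj']; simp) (x := (s i : ℕ)) (Finset.mem_image_of_mem _ (Finset.mem_univ i)) hi
  rw [Finset.sum_image fun a _ b _ hab => hinj' hab] at this
  rw [← Fin.sum_univ_eq_sum_range] at this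
  exact_mod_cast this

/-- The span of the left translates of `h0`. -/
def M (k : Type u) [Field k] (n e : ℕ) : Submodule k (Fn k n) :=
  Submodule.span k (Set.range fun h => lmul h (h0 k n e))

theorem h0_mem (e : ℕ) : h0 k n e ∈ M k n e := Submodule.subset_span ⟨1, lmul_one _⟩

theorem lmul_mem_M (e : ℕ) (h : Matrix (Fin n) (Fin n) k) {f : Fn k n} (hf : f ∈ M k n e) : lmul h f ∈ M k n e := by
  induction hf using Submodule.span_induction with
  | mem y hy =>
    obtain ⟨g, rfl⟩ := hy
    exact Submodule.subset_span ⟨g * h, by simp [lmul_lmul]⟩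
  | zero => simp
  | add a b _ _ ha hb => rw [map_add]; exact add_mem ha hb
  | smul c a _ ha => rw [map_smul]; exact Submodule.smul_mem _ c ha

theorem isHomogeneous_h0 (e : ℕ) : (h0 k n e).IsHomogeneous (∑ j : Fin n, (j : ℕ) * e) := by
  refine IsHomogeneous.prod _ _ _ fun j _ => ?_
  refine IsHomogeneous.pow ?_ e
  rw [minor, Matrix.det_apply']
  refine IsHomogeneous.sum _ _ _ fun π _ => ?_
  have h := IsHomogeneous.prod (Finset.univ : Finset (Fin (j : ℕ)))
    (fun b => (X (top j (π b), top j b) : Fn k n)) (fun _ => 1) fun b _ => isHomogeneous_X k _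
  simp only [Finset.sum_const, Finset.card_univ, Fintype.card_fin, smul_eq_mul, mul_one] at h
  simpa [gen] using (isHomogeneous_C (Fin n × Fin n) ((Equiv.Perm.sign π : ℤ) : k)).mul h

theorem M_le (e : ℕ) : M k n e ≤ homogeneousSubmodule (Fin n × Fin n) k (∑ j : Fin n, (j : ℕ) * e) :=
  Submodule.span_le.2 <| by rintro _ ⟨h, rfl⟩; exact isHomogeneous_lmul h (isHomogeneous_h0 e)

theorem finite_M (e : ℕ) : Module.Finite k (M k n e) := by
  have hle : M k n e ≤ restrictTotalDegree (Fin n × Fin n) k (∑ j : Fin n, (j : ℕ) * e) := fun f hf => by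
    rw [mem_restrictTotalDegree]
    exact (M_le e hf).totalDegree_le
  exact Module.Finite.of_injective (Submodule.inclusion hle) (Submodule.inclusion_injective hle)

theorem lowT_of_mem (e : ℕ) {f : Fn k n} (hf : f ∈ M k n e) :
    LowT (wRow n) f (C (eval (fun ij => (1 : Matrix (Fin n) (Fin n) k) ij.1 ij.2) f) * h0 k n e)
      (∑ j : Fin n, (e : ℤ) * ∑ a : Fin (j : ℕ), ((a : ℕ) : ℤ)) := by
  induction hf using Submodule.span_induction with
  | mem y hy =>
    obtain ⟨h, rfl⟩ := hy
    have := LowT.prod Finset.univ fun j _ => (lowT_lmul_lead h j).pow e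
    rw [eval_lmul, mul_one]
    simp only [h0, map_prod, map_pow, mul_pow, Finset.prod_mul_distrib] at this ⊢
    convert this using 4 with j
    rw [minor, RingHom.map_det]
    congr 2
    ext a b
    simp [gen]
  | zero => simpa using lowT_zero
  | add a b _ _ ha hb => simpa [add_mul] using ha.add hb
  | smul c a _ ha =>
    rw [smul_eq_C_mul, map_mul, eval_C, C_mul, mul_assoc]
    exact ha.const_mul c

theorem lmul_rev (f : Fn k n) :
    lmul ((Fin.revPerm : Equiv.Perm (Fin n)).permMatrix k) f = rename (fun ij => (Fin.rev ij.1, ij.2)) f := by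
  refine DFunLike.congr_fun (MvPolynomial.algHom_ext fun ij => ?_) f
  simp only [lmul, aeval_X, rename_X]
  rw [Finset.sum_eq_single (Fin.rev ij.1)]
  · simp [Equiv.Perm.permMatrix, PEquiv.toMatrix_apply]
  · intro b _ hb
    simp [Equiv.Perm.permMatrix, PEquiv.toMatrix_apply, Ne.symm hb]
  · simp

theorem lmul_rev_lead (j : Fin n) :
    lmul ((Fin.revPerm : Equiv.Perm (Fin n)).permMatrix k) (minor (top j) (top j)) =
      C ((Equiv.Perm.sign (Fin.revPerm : Equiv.Perm (Fin (j : ℕ))) : ℤ) : k) * minor (bot j) (top j) := by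
  rw [lmul_rev, ← minor_perm_left, ← rev_top, minor, minor, AlgHom.map_det]
  congr 1
  ext a b
  simp [gen]

theorem colRev_lead (j : Fin n) :
    colRev (minor (top j) (top j)) =
      C ((Equiv.Perm.sign (Fin.revPerm : Equiv.Perm (Fin (j : ℕ))) : ℤ) : k) * minor (top j) (bot j) := by
  rw [← minor_perm_right, ← rev_top, minor, minor, colRev, AlgHom.map_det]
  congr 1
  ext a b
  simp [gen]

theorem coeff_det_mul_ne_zero (e : ℕ) :
    coeff (allExp n e) ((gen k n).det ^ e *
      (lmul ((Fin.revPerm : Equiv.Perm (Fin n)).permMatrix k) (h0 k n e) * colRev (h0 k n e))) ≠ 0 := by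
  classical
  have hd : LowT (wDiag n) ((gen k n).det) (∏ b, X (b, b)) ((n : ℤ) * (0 : ℤ)) := by
    have := lowT_minor_diag (k := k) (id : Fin n → Fin n) id 0 0 (fun a => by simp) (fun a => by simp)
    simpa [minor] using this
  have hb : ∀ j : Fin n, LowT (wDiag n) (lmul ((Fin.revPerm : Equiv.Perm (Fin n)).permMatrix k) (minor (top j) (top j)))
      (C ((Equiv.Perm.sign (Fin.revPerm : Equiv.Perm (Fin (j : ℕ))) : ℤ) : k) * ∏ b, X (bot j b, top j b))
      ((j : ℕ) * (((n - j : ℕ) : ℤ) - (0 : ℕ)) ^ 2) := fun j => by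
    rw [lmul_rev_lead]
    exact (lowT_minor_diag (bot j) (top j) (n - j) 0 (fun a => rfl) (fun a => by simp [top])).const_mul _
  have ht : ∀ j : Fin n, LowT (wDiag n) (colRev (minor (top j) (top j)))
      (C ((Equiv.Perm.sign (Fin.revPerm : Equiv.Perm (Fin (j : ℕ))) : ℤ) : k) * ∏ b, X (top j b, bot j b))
      ((j : ℕ) * ((0 : ℕ) - ((n - j : ℕ) : ℤ)) ^ 2) := fun j => by
    rw [colRev_lead]
    exact (lowT_minor_diag (top j) (bot j) 0 (n - j) (fun a => by simp [top]) (fun a => rfl)).const_mul _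
  have htot := (hd.pow e).mul
    ((LowT.prod Finset.univ fun j _ => (hb j).pow e).mul (LowT.prod Finset.univ fun j _ => (ht j).pow e))
  rw [show ∏ j : Fin n, lmul ((Fin.revPerm : Equiv.Perm (Fin n)).permMatrix k) (minor (top j) (top j)) ^ e =
      lmul ((Fin.revPerm : Equiv.Perm (Fin n)).permMatrix k) (h0 k n e) by simp [h0, map_prod],
    show ∏ j : Fin n, colRev (minor (top j) (top j)) ^ e = colRev (h0 k n e) by simp [h0, map_prod]] at htot
  let cell : Fin n ⊕ ((Σ j : Fin n, Fin (j : ℕ)) ⊕ (Σ j : Fin n, Fin (j : ℕ))) → Fin n × Fin n :=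
    Sum.elim (fun b => (b, b)) (Sum.elim (fun x => (bot x.1 x.2, top x.1 x.2)) (fun x => (top x.1 x.2, bot x.1 x.2)))
  have hcell : Function.Bijective cell := by
    constructor
    · rintro (a | ⟨ja, a⟩ | ⟨ja, a⟩) (b | ⟨jb, b⟩ | ⟨jb, b⟩) hab <;>
        simp only [cell, Sum.elim_inl, Sum.elim_inr, Prod.mk.injEq, Fin.ext_iff, bot, top, Fin.val_castLE] at hab <;>
        have := a.isLt <;> have := b.isLt
      · exact congrArg Sum.inl (Fin.ext hab.1)
      · omega
      · omega
      · omega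
      · obtain rfl : ja = jb := Fin.ext (by omega)
        obtain rfl : a = b := Fin.ext hab.2
        rfl
      · omega
      · omega
      · omega
      · obtain rfl : ja = jb := Fin.ext (by omega)
        obtain rfl : a = b := Fin.ext hab.1
        rfl
    · rintro ⟨r, c⟩
      rcases lt_trichotomy (r : ℕ) c with h | h | h
      · refine ⟨Sum.inr (Sum.inr ⟨⟨n - (c - r), by omega⟩, ⟨r, ?_⟩⟩), ?_⟩
        · show (r : ℕ) < n - (c - r)
          omega
        · refine Prod.ext (Fin.ext ?_) (Fin.ext ?_) <;> simp [cell, top, bot] <;> omega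
      · exact ⟨Sum.inl r, by simp [cell, Fin.ext_iff, h]⟩
      · refine ⟨Sum.inr (Sum.inl ⟨⟨n - (r - c), by omega⟩, ⟨c, ?_⟩⟩), ?_⟩
        · show (c : ℕ) < n - (r - c)
          omega
        · refine Prod.ext (Fin.ext ?_) (Fin.ext ?_) <;> simp [cell, top, bot] <;> omega
  have hall : (∏ b : Fin n, (X (b, b) : Fn k n)) * ((∏ j : Fin n, ∏ b, X (bot j b, top j b)) *
      ∏ j : Fin n, ∏ b, X (top j b, bot j b)) = monomial (allExp n 1) 1 := by
    rw [monomial_eq, C_1, one_mul, Finsupp.prod_fintype _ _ (fun _ => by simp)]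
    simp only [allExp_apply, pow_one]
    rw [← hcell.prod_comp fun z => (X z : Fn k n)]
    simp [cell, Fintype.prod_sum_type, Fintype.prod_sigma]
  set c : k := (∏ j : Fin n, ((Equiv.Perm.sign (Fin.revPerm : Equiv.Perm (Fin (j : ℕ))) : ℤ) : k) ^ e) ^ 2
  have hl : (∏ b : Fin n, (X (b, b) : Fn k n)) ^ e *
      ((∏ j : Fin n, (C ((Equiv.Perm.sign (Fin.revPerm : Equiv.Perm (Fin (j : ℕ))) : ℤ) : k) *
          ∏ b, X (bot j b, top j b)) ^ e) *
        ∏ j : Fin n, (C ((Equiv.Perm.sign (Fin.revPerm : Equiv.Perm (Fin (j : ℕ))) : ℤ) : k) *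
          ∏ b, X (top j b, bot j b)) ^ e) = monomial (allExp n e) c := by
    have he : allExp n e = e • allExp n 1 := Finsupp.ext fun _ => by simp [allExp_apply]
    rw [he, show c = c * 1 from (mul_one c).symm, ← C_mul_monomial, ← one_pow (M := k) e, ← monomial_pow, ← hall]
    simp only [c, mul_pow, Finset.prod_mul_distrib, Finset.prod_pow, map_pow, map_prod]
    ring
  rw [hl] at htot
  have hc : c ≠ 0 := pow_ne_zero _ (Finset.prod_ne_zero_iff.2 fun j _ => pow_ne_zero _ (by
    rcases Int.units_eq_one_or (Equiv.Perm.sign (Fin.revPerm : Equiv.Perm (Fin (j : ℕ)))) with hs | hs <;> simp [hs]))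
  have hwt := htot.1 (d := allExp n e) (by simpa using hc)
  rw [htot.coeff_eq hwt]
  simpa using hc

theorem pairing_nondegenerate [Infinite k] (p r : ℕ) [ExpChar k p] {f : Fn k n} (hf : f ∈ M k n (p ^ r - 1))
    (h : ∀ f' ∈ M k n (p ^ r - 1),
      coeff (allExp n (p ^ r - 1)) ((gen k n).det ^ (p ^ r - 1) * (f * colRev f')) = 0) : f = 0 := by
  classical
  set e := p ^ r - 1 with he
  let K : Submodule k (Fn k n) :=
    { carrier := {g | g ∈ M k n e ∧ ∀ f' ∈ M k n e, coeff (allExp n e) ((gen k n).det ^ e * (g * colRev f')) = 0}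
      zero_mem' := ⟨zero_mem _, fun f' _ => by simp⟩
      add_mem' := fun {a b} ha hb => ⟨add_mem ha.1 hb.1, fun f' hf' => by
        simp [add_mul, mul_add, coeff_add, ha.2 f' hf', hb.2 f' hf']⟩
      smul_mem' := fun c a ha => ⟨Submodule.smul_mem _ c ha.1, fun f' hf' => by
        simp [coeff_smul, ha.2 f' hf']⟩ }
  have hdeg : ∀ {a b : Fn k n}, a ∈ M k n e → b ∈ M k n e →
      ((gen k n).det ^ e * (a * colRev b)).IsHomogeneous (n * n * e) := by
    intro a b ha hb
    have h1 := ((isHomogeneous_det (n := n) (A := k)).pow e).mul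
      ((M_le e ha : a.IsHomogeneous _).mul (isHomogeneous_colRev (M_le e hb)))
    have h2 : n * e + ((∑ j : Fin n, (j : ℕ) * e) + ∑ j : Fin n, (j : ℕ) * e) = n * n * e := by
      rw [← Finset.sum_mul, Fin.sum_univ_eq_sum_range (fun i => i), ← two_mul, ← mul_assoc, mul_comm 2,
        Finset.sum_range_id_mul_two]
      rcases n with - | m
      · simp
      · rw [Nat.add_sub_cancel]; ring
    rwa [h2] at h1
  have hK : ∀ g : Matrix (Fin n) (Fin n) k, g.det ≠ 0 → ∀ a ∈ K, lmul g a ∈ K := by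
    intro g hg a ha
    refine ⟨lmul_mem_M e g ha.1, fun f' hf' => ?_⟩
    have hu := (Matrix.isUnit_iff_isUnit_det g).2 hg.isUnit
    have e1 : lmul g (lmul g⁻¹ f') = f' := by
      rw [lmul_lmul, Matrix.nonsing_inv_mul _ hg.isUnit, lmul_one]
    have h2 := coeff_lmul p r g (hdeg ha.1 (lmul_mem_M e g⁻¹ hf'))
    rw [map_mul, map_mul, map_pow, lmul_det, lmul_colRev, e1, mul_pow, ← map_pow, mul_assoc, coeff_C_mul,
      ha.2 _ (lmul_mem_M e g⁻¹ hf'), mul_zero] at h2
    exact (mul_eq_zero.1 h2).resolve_left (pow_ne_zero _ hg)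
  by_contra hne
  obtain ⟨g, hgdet, hgf⟩ : ∃ g : Matrix (Fin n) (Fin n) k, g.det ≠ 0 ∧ eval (fun ij => g ij.1 ij.2) f ≠ 0 := by
    by_contra! hall
    have : f * (gen k n).det = 0 := MvPolynomial.funext fun v => by
      rw [map_mul, map_zero, mul_eq_zero]
      refine or_iff_not_imp_right.2 fun hv => hall (Matrix.of fun i j => v (i, j)) ?_
      rw [RingHom.map_det] at hv
      convert hv using 3
      ext i j
      simp [gen]
    rcases mul_eq_zero.1 this with h' | h'
    · exact hne h'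
    · exact Matrix.det_mvPolynomialX_ne_zero (Fin n) k h'
  set f₁ := lmul g f with hf₁
  have hf₁K : f₁ ∈ K := hK g hgdet f ⟨hf, h⟩
  set v := eval (fun ij => (1 : Matrix (Fin n) (Fin n) k) ij.1 ij.2) f₁ with hv
  have hv0 : v ≠ 0 := by rw [hv, hf₁, eval_lmul, mul_one]; exact hgf
  have hlow := lowT_of_mem e hf₁K.1
  rw [← hv] at hlow
  have hmem : C v * h0 k n e ∈ K := by
    by_contra hnot
    obtain ⟨ξ, hξ, hξK⟩ := Submodule.exists_dual_map_eq_bot_of_notMem hnot inferInstance
    have hξ0 : ∀ a ∈ K, ξ a = 0 := fun a ha => (Submodule.mem_bot k).1 (hξK ▸ Submodule.mem_map_of_mem ha)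
    let N : (Fin n × Fin n →₀ ℕ) → ℕ := fun x => Finsupp.weight (fun ij => (ij.1 : ℕ)) x
    have hN : ∀ x, Finsupp.weight (wRow n) x = (N x : ℤ) := fun x => by
      simp [N, Finsupp.weight_apply, Finsupp.sum, wRow]
    have hscale : ∀ c : k, lmul (Matrix.diagonal fun i => c ^ (i : ℕ)) f₁ =
        ∑ x ∈ f₁.support, monomial x (coeff x f₁ * c ^ N x) := fun c => by
      conv_lhs => rw [f₁.as_sum, map_sum]
      refine Finset.sum_congr rfl fun x _ => ?_
      simp only [lmul, aeval_monomial, MvPolynomial.algebraMap_eq, N, Finsupp.weight_apply,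
        Matrix.diagonal_apply, apply_ite (C : k → Fn k n), map_zero, ite_mul, zero_mul, Finset.sum_ite_eq,
        Finset.mem_univ, if_true]
      rw [monomial_eq, map_mul, mul_assoc, Finsupp.sum, ← Finset.prod_pow_eq_pow_sum, map_prod, Finsupp.prod,
        Finsupp.prod, ← Finset.prod_mul_distrib]
      congr 1
      exact Finset.prod_congr rfl fun ij _ => by rw [smul_eq_mul, mul_pow, ← map_pow, ← pow_mul, mul_comm (x ij)]
    let P : Polynomial k := ∑ x ∈ f₁.support, Polynomial.monomial (N x) (ξ (monomial x (coeff x f₁)))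
    have hP : P = 0 := by
      refine Polynomial.eq_zero_of_infinite_isRoot _ ((Set.finite_singleton (0 : k)).infinite_compl.mono fun c hc => ?_)
      have h1 := hξ0 _ (hK (Matrix.diagonal fun i => c ^ (i : ℕ))
        (by rw [Matrix.det_diagonal]; exact Finset.prod_ne_zero_iff.2 fun i _ => pow_ne_zero _ hc) _ hf₁K)
      rw [hscale, map_sum] at h1
      simp only [Set.mem_ofPred_eq, Polynomial.IsRoot, P, Polynomial.eval_finsetSum, Polynomial.eval_monomial]
      rw [← h1]
      refine Finset.sum_congr rfl fun x _ => ?_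
      rw [show monomial x (coeff x f₁ * c ^ N x) = (c ^ N x) • monomial x (coeff x f₁) by
        rw [smul_monomial, smul_eq_mul, mul_comm], map_smul, smul_eq_mul, mul_comm]
    set E : ℕ := ∑ j : Fin n, e * ∑ a : Fin (j : ℕ), (a : ℕ) with hE
    have hEeq : (E : ℤ) = ∑ j : Fin n, (e : ℤ) * ∑ a : Fin (j : ℕ), ((a : ℕ) : ℤ) := by simp [hE]
    rw [← hEeq] at hlow
    have hsum : C v * h0 k n e = ∑ x ∈ f₁.support.filter (fun x => N x = E), monomial x (coeff x f₁) := by
      ext y
      simp only [coeff_sum, coeff_monomial, Finset.sum_ite_eq', Finset.mem_filter, mem_support_iff]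
      by_cases hy : N y = E
      · have hwy : Finsupp.weight (wRow n) y = (E : ℤ) := by rw [hN, hy]
        rw [← hlow.coeff_eq hwy]
        by_cases h0' : coeff y f₁ = 0 <;> simp [h0', hy]
      · rw [if_neg fun h' => hy h'.2]
        by_contra hne'
        have := hlow.1 hne'
        rw [hN] at this
        exact hy (by exact_mod_cast this)
    have := congrArg (fun Q => Polynomial.coeff Q E) hP
    simp only [P, Polynomial.finset_sum_coeff, Polynomial.coeff_monomial, Polynomial.coeff_zero,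
      ← Finset.sum_filter] at this
    exact hξ (by rw [hsum, map_sum]; exact this)
  have h0K : h0 k n e ∈ K := by
    have := K.smul_mem v⁻¹ hmem
    rwa [smul_eq_C_mul, ← mul_assoc, ← map_mul, inv_mul_cancel₀ hv0, map_one, one_mul] at this
  have hPdet : ((Fin.revPerm : Equiv.Perm (Fin n)).permMatrix k).det ≠ 0 := by
    rw [Matrix.det_permutation]
    rcases Int.units_eq_one_or (Equiv.Perm.sign (Fin.revPerm : Equiv.Perm (Fin n))) with hs | hs <;> simp [hs]
  exact coeff_det_mul_ne_zero e ((hK _ hPdet _ h0K).2 _ (h0_mem e))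

end Groth.Agent.GITLib.Steinberg
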