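import Mathlib

/-!
# A Steinberg pairing on polynomial functions of matrices

Over a field of characteristic `p`, with `q = p ^ r` and `e = q - 1`, the functional `τ` (coefficient of the
product of all entries to the power `e`) is equivariant for left multiplication. On the span of the left
translates of the product of the leading minors to the power `e` it gives a non-degenerate pairing
`(f₁, f₂) ↦ τ (det ^ e * f₁ * (f₂ with columns reversed))`.
-/

set_option autoImplicit false
universe u

open MvPolynomial

noncomputable section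

namespace Groth.Agent.GITLib.Steinberg

variable {k : Type u} [Field k] {n : ℕ}

/-- Polynomial functions of `n × n` matrices. -/
abbrev Fn (k : Type u) [Field k] (n : ℕ) := MvPolynomial (Fin n × Fin n) k

/-- The generic matrix. -/
def gen (k : Type u) [Field k] (n : ℕ) : Matrix (Fin n) (Fin n) (Fn k n) := Matrix.of fun i j => X (i, j)

/-- Left translation `f ↦ f (h * ·)`. -/
def lmul (h : Matrix (Fin n) (Fin n) k) : Fn k n →ₐ[k] Fn k n := aeval fun ij => ∑ l, C (h ij.1 l) * X (l, ij.2)

/-- Reversal of the columns. -/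
def colRev : Fn k n →ₐ[k] Fn k n := rename fun ij => (ij.1, Fin.rev ij.2)

theorem eval_lmul (h g : Matrix (Fin n) (Fin n) k) (f : Fn k n) :
    eval (fun ij => g ij.1 ij.2) (lmul h f) = eval (fun ij => (h * g) ij.1 ij.2) f := by
  induction f using MvPolynomial.induction_on with
  | C a => simp [lmul]
  | add p q hp hq => simp [hp, hq]
  | mul_X p ij hp => simp [map_mul, hp]; simp [lmul, Matrix.mul_apply]

theorem lmul_lmul (h h' : Matrix (Fin n) (Fin n) k) (f : Fn k n) : lmul h (lmul h' f) = lmul (h' * h) f := by
  rw [← AlgHom.comp_apply]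
  refine DFunLike.congr_fun (MvPolynomial.algHom_ext fun ij => ?_) f
  simp only [lmul, AlgHom.comp_apply, aeval_X, map_sum, map_mul, aeval_C, MvPolynomial.algebraMap_eq,
    Matrix.mul_apply, Finset.sum_mul, Finset.mul_sum]
  rw [Finset.sum_comm]
  exact Finset.sum_congr rfl fun l _ => Finset.sum_congr rfl fun j _ => by ring

theorem lmul_one (f : Fn k n) : lmul (1 : Matrix (Fin n) (Fin n) k) f = f := by
  refine DFunLike.congr_fun (MvPolynomial.algHom_ext (g := AlgHom.id k _) fun ij => ?_) f
  simp [lmul, Matrix.one_apply, apply_ite (C : k → Fn k n), Finset.sum_ite_eq]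

theorem lmul_colRev (h : Matrix (Fin n) (Fin n) k) (f : Fn k n) : lmul h (colRev f) = colRev (lmul h f) := by
  rw [← AlgHom.comp_apply, ← AlgHom.comp_apply]
  refine DFunLike.congr_fun (MvPolynomial.algHom_ext fun ij => ?_) f
  simp [lmul, colRev]

theorem lmul_det (h : Matrix (Fin n) (Fin n) k) : lmul h (gen k n).det = C h.det * (gen k n).det := by
  rw [AlgHom.map_det, RingHom.map_det, ← Matrix.det_mul]
  congr 1
  ext i j
  simp [gen, lmul, Matrix.mul_apply]

theorem isHomogeneous_lmul (h : Matrix (Fin n) (Fin n) k) {f : Fn k n} {D : ℕ} (hf : f.IsHomogeneous D) :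
    (lmul h f).IsHomogeneous D := by
  have := hf.aeval (fun ij => ∑ l, C (h ij.1 l) * (X (l, ij.2) : Fn k n)) (n := 1) fun ij =>
    IsHomogeneous.sum _ _ _ fun l _ => (isHomogeneous_X k (l, ij.2)).C_mul _
  simpa [lmul] using this

theorem homogeneousComponent_lmul (h : Matrix (Fin n) (Fin n) k) (l : ℕ) (f : Fn k n) :
    homogeneousComponent l (lmul h f) = lmul h (homogeneousComponent l f) := by
  conv_lhs => rw [← sum_homogeneousComponent f, map_sum, map_sum]
  rw [Finset.sum_congr rfl fun i _ => homogeneousComponent_of_mem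
    (isHomogeneous_lmul h (homogeneousComponent_isHomogeneous i f))]
  rw [Finset.sum_ite_eq]
  split_ifs with hl
  · rfl
  · rw [homogeneousComponent_eq_zero l f (by simp at hl; omega), map_zero]

theorem isHomogeneous_det {A : Type*} [CommRing A] :
    (Matrix.of fun i j : Fin n => (X (i, j) : MvPolynomial (Fin n × Fin n) A)).det.IsHomogeneous n := by
  rw [Matrix.det_apply]
  refine IsHomogeneous.sum _ _ _ fun π _ => ?_
  have h : (∏ i, (X (π i, i) : MvPolynomial (Fin n × Fin n) A)).IsHomogeneous (∑ _i : Fin n, 1) :=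
    IsHomogeneous.prod _ _ _ fun i _ => isHomogeneous_X A _
  rw [Finset.sum_const, Finset.card_univ, Fintype.card_fin, smul_eq_mul, mul_one] at h
  rcases Int.units_eq_one_or (Equiv.Perm.sign π) with hs | hs <;> rw [hs]
  · simpa using h
  · simpa using h.neg

theorem isHomogeneous_colRev {f : Fn k n} {D : ℕ} (hf : f.IsHomogeneous D) : (colRev f).IsHomogeneous D :=
  hf.rename_isHomogeneous

/-- A monoid homomorphism from matrices to `k` is trivial on matrices of determinant one. -/
theorem monoidHom_eq_one [Infinite k] [NeZero n] (χ : Matrix (Fin n) (Fin n) k →* k) {h : Matrix (Fin n) (Fin n) k}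
    (hh : h.det = 1) : χ h = 1 := by
  classical
  have hu : ∀ A : Matrix (Fin n) (Fin n) k, A.det ≠ 0 → χ A ≠ 0 := fun A hA => by
    have hA' : IsUnit A := (Matrix.isUnit_iff_isUnit_det A).2 hA.isUnit
    exact (hA'.map χ).ne_zero
  let E : Fin n → k → (Fin n → k) := fun i c l => if l = i then c else 1
  let ε : Fin n → k → k := fun i c => χ (Matrix.diagonal (E i c))
  have htr : ∀ (i j : Fin n) (_ : i ≠ j) (t : k), χ (Matrix.transvection i j t) = 1 := by
    intro i j hij t
    obtain ⟨s, hs⟩ := Infinite.exists_notMem_finset ({0, 1} : Finset k)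
    simp only [Finset.mem_insert, Finset.mem_singleton, not_or] at hs
    have hs1 : s - 1 ≠ 0 := sub_ne_zero.2 hs.2
    set v := t / (s - 1) with hv
    have e1 : Matrix.transvection i j (s * v) * Matrix.diagonal (E i s) =
        Matrix.diagonal (E i s) * Matrix.transvection i j v := by
      simp only [Matrix.transvection, add_mul, mul_add, one_mul, mul_one]
      congr 1
      ext a b
      rw [Matrix.mul_diagonal, Matrix.diagonal_mul]
      simp only [Matrix.single_apply, E]
      by_cases h1 : i = a ∧ j = b
      · obtain ⟨rfl, rfl⟩ := h1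
        simp [hij.symm, mul_comm]
      · simp [h1]
    have h2 := congrArg χ e1
    rw [map_mul, map_mul, mul_comm (χ (Matrix.diagonal _))] at h2
    have hd0 : χ (Matrix.diagonal (E i s)) ≠ 0 := hu _ (by
      rw [Matrix.det_diagonal, Finset.prod_ne_zero_iff]
      intro l _
      simp only [E]; split_ifs <;> simp [hs.1])
    have h3 : χ (Matrix.transvection i j (s * v)) = χ (Matrix.transvection i j v) := mul_right_cancel₀ hd0 h2
    have h4 : s * v = t + v := by rw [hv]; field_simp; ring
    rw [h4, ← Matrix.transvection_mul_transvection_same i j hij, map_mul] at h3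
    exact mul_eq_right₀ (hu _ (by rw [Matrix.det_transvection_of_ne i j hij]; exact one_ne_zero)) |>.1 h3
  have hε : ∀ (i j : Fin n) (c : k), ε i c = ε j c := by
    intro i j c
    let P : Matrix (Fin n) (Fin n) k := (Equiv.swap i j).permMatrix k
    have hP : P.det ≠ 0 := by
      rw [Matrix.det_permutation]
      rcases Int.units_eq_one_or (Equiv.Perm.sign (Equiv.swap i j)) with hs | hs <;> simp [hs]
    have e1 : P * Matrix.diagonal (E j c) = Matrix.diagonal (E i c) * P := by
      ext a b
      rw [Matrix.mul_diagonal, Matrix.diagonal_mul]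
      simp only [P, Equiv.Perm.permMatrix, PEquiv.toMatrix_apply, Equiv.toPEquiv_apply, Option.mem_def, Option.some.injEq]
      by_cases hab : Equiv.swap i j a = b
      · subst hab
        have : (Equiv.swap i j a = j) ↔ a = i := by
          rw [Equiv.swap_apply_eq_iff]; simp
        simp [E, this]
      · simp [hab]
    have h2 := congrArg χ e1
    rw [map_mul, map_mul, mul_comm] at h2
    exact (mul_right_cancel₀ (hu P hP) h2).symm
  have hεm : ∀ i (c c' : k), ε i (c * c') = ε i c * ε i c' := fun i c c' => by
    simp only [ε, ← map_mul, Matrix.diagonal_mul_diagonal]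
    congr 2; funext l; simp only [E]; split_ifs <;> simp
  have hdiag : ∀ D : Fin n → k, χ (Matrix.diagonal D) = ε 0 (∏ i, D i) := by
    intro D
    have key : ∀ s : Finset (Fin n),
        χ (Matrix.diagonal fun l => if l ∈ s then D l else 1) = ε 0 (∏ i ∈ s, D i) := by
      intro s
      induction s using Finset.induction_on with
      | empty => simp [ε, E]
      | insert i s hi ih =>
        rw [Finset.prod_insert hi, hεm, hε 0 i, ← ih]
        simp only [ε, ← map_mul, Matrix.diagonal_mul_diagonal]
        congr 2; funext l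
        simp only [E, Finset.mem_insert]
        by_cases hl : l = i
        · subst hl; simp [hi]
        · simp [hl]
    simpa using key Finset.univ
  obtain ⟨L, L', D, rfl⟩ := Matrix.Pivot.exists_list_transvec_mul_diagonal_mul_list_transvec h
  have hL : ∀ M : List (Matrix.TransvectionStruct (Fin n) k),
      χ (M.map Matrix.TransvectionStruct.toMatrix).prod = 1 := fun M => by
    induction M with
    | nil => simp
    | cons t M ih => rw [List.map_cons, List.prod_cons, map_mul, ih, mul_one]; exact htr _ _ t.hij _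
  have hD : ∏ i, D i = 1 := by
    rw [Matrix.det_mul, Matrix.det_mul, Matrix.TransvectionStruct.det_toMatrix_prod,
      Matrix.TransvectionStruct.det_toMatrix_prod, one_mul, mul_one, Matrix.det_diagonal] at hh
    exact hh
  rw [map_mul, map_mul, hL, hL, one_mul, mul_one, hdiag, hD]
  simp [ε, E]

/-- The exponent with all entries `e`. -/
def allExp (n e : ℕ) : Fin n × Fin n →₀ ℕ := Finsupp.equivFunOnFinite.symm fun _ => e

theorem allExp_apply (e : ℕ) (ij : Fin n × Fin n) : allExp n e ij = e := rfl

/-- The character of `τ`. -/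
def kappa (e : ℕ) (h : Matrix (Fin n) (Fin n) k) : k := coeff (allExp n e) (lmul h (monomial (allExp n e) 1))

section Frobenius

variable (p r : ℕ) [ExpChar k p]

theorem coeff_eq_zero_of_mem {f : Fn k n}
    (hf : f ∈ Ideal.span (Set.range fun ij : Fin n × Fin n => (X ij : Fn k n) ^ p ^ r)) :
    coeff (allExp n (p ^ r - 1)) f = 0 := by
  classical
  obtain ⟨c, rfl⟩ := (Submodule.mem_span_range_iff_exists_fun _).1 hf
  rw [coeff_sum]
  refine Finset.sum_eq_zero fun ij _ => ?_
  rw [smul_eq_mul, X_pow_eq_monomial, coeff_mul_monomial', if_neg]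
  intro hle
  have := hle ij
  rw [Finsupp.single_eq_same, allExp_apply] at this
  have := pow_pos (expChar_pos k p) r
  omega

theorem lmul_mem (h : Matrix (Fin n) (Fin n) k) {f : Fn k n}
    (hf : f ∈ Ideal.span (Set.range fun ij : Fin n × Fin n => (X ij : Fn k n) ^ p ^ r)) :
    lmul h f ∈ Ideal.span (Set.range fun ij : Fin n × Fin n => (X ij : Fn k n) ^ p ^ r) := by
  show f ∈ Ideal.comap (lmul h) (Ideal.span (Set.range fun ij : Fin n × Fin n => (X ij : Fn k n) ^ p ^ r))
  refine Ideal.span_le.2 ?_ hf
  rintro _ ⟨ij, rfl⟩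
  simp only [SetLike.mem_coe, Ideal.mem_comap, map_pow]
  rw [lmul, aeval_X, sum_pow_char_pow]
  exact sum_mem fun l _ => by
    rw [mul_pow]; exact Ideal.mul_mem_left _ _ (Ideal.subset_span ⟨_, rfl⟩)

omit [ExpChar k p] in
theorem sub_mem_span {f : Fn k n} (hf : f.IsHomogeneous (n * n * (p ^ r - 1))) :
    f - monomial (allExp n (p ^ r - 1)) (coeff (allExp n (p ^ r - 1)) f) ∈
      Ideal.span (Set.range fun ij : Fin n × Fin n => (X ij : Fn k n) ^ p ^ r) := by
  classical
  set g := f - monomial (allExp n (p ^ r - 1)) (coeff (allExp n (p ^ r - 1)) f) with hg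
  rw [g.as_sum]
  refine sum_mem fun x hx => ?_
  rw [mem_support_iff, hg, coeff_sub, coeff_monomial] at hx
  have hne : allExp n (p ^ r - 1) ≠ x := fun h => hx (by rw [if_pos h, ← h, sub_self])
  rw [if_neg hne, sub_zero] at hx
  have hsum : x.degree = n * n * (p ^ r - 1) := by
    by_contra h; exact hx (hf.coeff_eq_zero h)
  obtain ⟨ij, hij⟩ : ∃ ij, p ^ r ≤ x ij := by
    by_contra! hall
    refine hne (Finsupp.ext fun ij => ?_)
    have hle : ∀ z ∈ (Finset.univ : Finset (Fin n × Fin n)), x z ≤ p ^ r - 1 := fun z _ => by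
      have := hall z; omega
    have := (Finset.sum_eq_sum_iff_of_le hle).1 (by
      rw [← Finsupp.degree_eq_sum x, hsum]; simp) ij (Finset.mem_univ _)
    rw [allExp_apply, this]
  refine Ideal.mem_of_dvd _ ?_ (Ideal.subset_span ⟨ij, rfl⟩)
  show X ij ^ p ^ r ∣ monomial x (coeff x g)
  rw [X_pow_eq_monomial, monomial_dvd_monomial]
  exact ⟨Or.inr (Finsupp.single_le_iff.2 hij), one_dvd _⟩

theorem coeff_lmul (h : Matrix (Fin n) (Fin n) k) {f : Fn k n} (hf : f.IsHomogeneous (n * n * (p ^ r - 1))) :
    coeff (allExp n (p ^ r - 1)) (lmul h f) = kappa (p ^ r - 1) h * coeff (allExp n (p ^ r - 1)) f := by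
  have h0 := coeff_eq_zero_of_mem p r (lmul_mem p r h (sub_mem_span p r hf))
  rw [map_sub, coeff_sub, sub_eq_zero] at h0
  rw [h0, kappa, ← mul_one (coeff (allExp n (p ^ r - 1)) f), ← smul_eq_mul, ← smul_monomial, map_smul, coeff_smul,
    smul_eq_mul, smul_eq_mul, mul_one, mul_comm]

theorem isHomogeneous_allExp (e : ℕ) : (monomial (allExp n e) (1 : k)).IsHomogeneous (n * n * e) :=
  isHomogeneous_monomial _ (by rw [Finsupp.degree_eq_sum]; simp [allExp_apply])

/-- The character of `τ` as a homomorphism. -/
def kappaHom : Matrix (Fin n) (Fin n) k →* k where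
  toFun := kappa (p ^ r - 1)
  map_one' := by simp [kappa, lmul_one]
  map_mul' h h' := by
    conv_lhs => rw [kappa, ← lmul_lmul]
    rw [coeff_lmul p r h' (isHomogeneous_lmul h (isHomogeneous_allExp _)), mul_comm]
    rfl

end Frobenius

end Groth.Agent.GITLib.Steinberg
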