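import Groth.Prelude.Def_ComodTens
import Groth.Prelude.Def_GLin5
import Groth.Agent.GITLib.GLChar
import Groth.Agent.GITLib.LinRedGLSL
import Groth.Agent.Comodule.Coalg

/-! Homogeneous representations of GL_n are summands of twisted tensor powers. -/

set_option autoImplicit false
universe u v w w'

open TensorProduct WithConv LaurentPolynomial

noncomputable section

namespace Groth.Agent.GITLib.TEmb

set_option backward.isDefEq.respectTransparency false

section Hom

variable {k : Type u} [CommRing k] {A : Type v} [CommRing A] [Bialgebra k A]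
  {V : Type w} [AddCommGroup V] [Module k V] {W : Type w'} [AddCommGroup W] [Module k W]

/-- homomorphism to the regular comodule -/
def HomA (c : HopfRep.Comod k A V) (f : V →ₗ[k] A) : Prop :=
  ∀ v, Coalgebra.comul (R := k) (f v) = f.rTensor A (c.coact v)

theorem homA_tensor {c : HopfRep.Comod k A V} {d : HopfRep.Comod k A W} {f : V →ₗ[k] A} {g : W →ₗ[k] A}
    (hf : HomA c f) (hg : HomA d g) :
    HomA (ComodTens.Comod.tensor c d) (LinearMap.mul' k A ∘ₗ TensorProduct.map f g) := by
  intro x
  induction x with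
  | zero => simp
  | add x y hx hy => simp only [map_add, hx, hy]
  | tmul v w =>
    rw [LinearMap.comp_apply, TensorProduct.map_tmul, LinearMap.mul'_apply, Bialgebra.comul_mul, hf v, hg w,
      ComodTens.tensor_coact_tmul]
    induction c.coact v with
    | zero => simp
    | add a b ha hb => simp only [map_add, add_mul, add_tmul, ha, hb]
    | tmul p q =>
      induction d.coact w with
      | zero => simp
      | add a b ha hb => simp only [map_add, mul_add, tmul_add, ha, hb]
      | tmul r s => simp [Algebra.TensorProduct.tmul_mul_tmul]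

theorem homA_ofEquiv {c : HopfRep.Comod k A V} (e : V ≃ₗ[k] W) {f : V →ₗ[k] A} (hf : HomA c f) :
    HomA (ComodTens.Comod.ofEquiv e c) (f ∘ₗ (e.symm : W →ₗ[k] V)) := by
  intro w
  rw [LinearMap.comp_apply, ComodTens.ofEquiv_coact, ← LinearMap.rTensor_comp_apply]
  simp only [LinearMap.comp_assoc]
  rw [show ((e.symm : W →ₗ[k] V) ∘ₗ (e : V →ₗ[k] W)) = LinearMap.id from LinearMap.ext fun v => e.symm_apply_apply v,
    LinearMap.comp_id]
  exact hf _

theorem homA_twist {c : HopfRep.Comod k A V} {g : A} (hg : IsGroupLikeElem k g) {f : V →ₗ[k] A} (hf : HomA c f) :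
    HomA (ComodTens.Comod.twist c g hg) (LinearMap.mulRight k g ∘ₗ f) := by
  intro v
  rw [LinearMap.comp_apply, LinearMap.mulRight_apply, ComodTens.comul_mul_of_isGroupLikeElem hg, hf v,
    ComodTens.twist_coact]
  induction c.coact v with
  | zero => simp
  | add a b ha hb => simp only [map_add, ha, hb]
  | tmul p q => simp

variable {ι : Type w'} [Fintype ι] [DecidableEq ι]

theorem isComodHom_proj (c : HopfRep.Comod k A V) (g : A) (hg : IsGroupLikeElem k g) (i : ι) :
    @Hoch.IsComodHom k _ A _ _ _ (ι → V) _ _ (ComodTens.Comod.twist (ComodTens.Comod.pi fun _ : ι => c) g hg) V _ _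
      (ComodTens.Comod.twist c g hg) (LinearMap.proj i) := by
  refine LinearMap.ext fun f => ?_
  show (LinearMap.mulRight k g).lTensor V (c.coact (f i)) =
    (LinearMap.proj i).rTensor A ((LinearMap.mulRight k g).lTensor (ι → V) ((ComodTens.Comod.pi fun _ : ι => c).coact f))
  rw [ComodTens.pi_coact, map_sum, map_sum, Finset.sum_eq_single i]
  · rw [← ComodTens.lTensor_rTensor_comm, ← LinearMap.rTensor_comp_apply,
      show (LinearMap.proj i : (ι → V) →ₗ[k] V) ∘ₗ LinearMap.single k (fun _ => V) i = LinearMap.id from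
        LinearMap.ext fun x => by simp, LinearMap.rTensor_id_apply]
  · intro j _ hj
    rw [← ComodTens.lTensor_rTensor_comm, ← LinearMap.rTensor_comp_apply,
      show (LinearMap.proj i : (ι → V) →ₗ[k] V) ∘ₗ LinearMap.single k (fun _ => V) j = 0 from
        LinearMap.ext fun x => by simp [Pi.single_eq_of_ne (Ne.symm hj)], LinearMap.rTensor_zero, LinearMap.zero_apply,
      map_zero]
  · simp

theorem rTensor_sum_apply {κ : Type*} (s : Finset κ) (F : κ → (V →ₗ[k] W)) (x : V ⊗[k] A) :
    (∑ I ∈ s, F I).rTensor A x = ∑ I ∈ s, (F I).rTensor A x := by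
  induction x with
  | zero => simp
  | add a b ha hb => simp only [map_add, ha, hb, Finset.sum_add_distrib]
  | tmul a b => simp [LinearMap.sum_apply, TensorProduct.sum_tmul]

theorem isComodHom_sum {κ : Type*} [Fintype κ] (c : HopfRep.Comod k A V) (g : A) (hg : IsGroupLikeElem k g)
    (m : κ → ι) (ψ : κ → (V →ₗ[k] A)) (hψ : ∀ I, HomA (ComodTens.Comod.twist c g hg) (ψ I)) :
    @Hoch.IsComodHom k _ A _ _ _ (ι → V) _ _ (ComodTens.Comod.twist (ComodTens.Comod.pi fun _ : ι => c) g hg) A _ _
      (HopfRep.Comod.regular k A) (∑ I, ψ I ∘ₗ LinearMap.proj (m I)) := by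
  refine LinearMap.ext fun f => ?_
  show Coalgebra.comul (R := k) ((∑ I, ψ I ∘ₗ LinearMap.proj (m I)) f) =
    (∑ I, ψ I ∘ₗ LinearMap.proj (m I)).rTensor A
      ((ComodTens.Comod.twist (ComodTens.Comod.pi fun _ : ι => c) g hg).coact f)
  rw [LinearMap.sum_apply, map_sum, rTensor_sum_apply]
  refine Finset.sum_congr rfl fun I _ => ?_
  refine Eq.trans ?_ (LinearMap.rTensor_comp_apply A (ψ I)
    (LinearMap.proj (R := k) (φ := fun _ : ι => V) (m I)) _).symm
  have h1 := LinearMap.congr_fun (isComodHom_proj c g hg (m I)) f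
  rw [LinearMap.comp_apply, LinearMap.comp_apply] at h1
  rw [LinearMap.comp_apply, hψ I]
  exact congrArg ((ψ I).rTensor A) h1

end Hom

section Std

variable {k : Type u} [Field k] {n : ℕ}

/-- the standard comodule of GL_n -/
abbrev stdGL (n : ℕ) (k : Type u) [Field k] : HopfRep.Comod k (CoordGrp.GLn n k) (Fin n → k) :=
  GLin.comodAlong (CoordGrp.Mat.toGLn n k) (ComodTens.stdVec n k)

/-- a row of the generic matrix -/
def rowMap (i : Fin n) : (Fin n → k) →ₗ[k] CoordGrp.GLn n k :=
  Fintype.linearCombination k fun j => CoordGrp.GLn.X i j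

theorem rowMap_single (i j : Fin n) : rowMap (k := k) i (Pi.single j 1) = CoordGrp.GLn.X i j := by
  rw [rowMap, Fintype.linearCombination_apply_single, one_smul]

theorem homA_row (i : Fin n) : HomA (stdGL n k) (rowMap i) := by
  intro v
  refine LinearMap.congr_fun (f := Coalgebra.comul ∘ₗ rowMap i)
    (g := (rowMap i).rTensor (CoordGrp.GLn n k) ∘ₗ (stdGL n k).coact) ((Pi.basisFun k (Fin n)).ext fun j => ?_) v
  simp only [LinearMap.comp_apply, GLin.comodAlong_coact, Pi.basisFun_apply, rowMap_single, ComodTens.stdVec_coact_single,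
    map_sum, CoordGrp.GLn.comul_X, TensorProduct.map_tmul, LinearMap.rTensor_tmul, LinearMap.id_apply]
  refine Finset.sum_congr rfl fun l _ => ?_
  congr 1
  exact (CoordGrp.Mat.toGLn_X l j).symm

/-- products of rows -/
def rowsMap : (a : ℕ) → (Fin a → Fin n) → (TensorPower k a (Fin n → k) →ₗ[k] CoordGrp.GLn n k)
  | 0, _ => Algebra.linearMap k (CoordGrp.GLn n k) ∘ₗ
      ((PiTensorProduct.isEmptyEquiv (Fin 0) (R := k) (s := fun _ : Fin 0 => (Fin n → k))).symm.symm :
        TensorPower k 0 (Fin n → k) →ₗ[k] k)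
  | a + 1, I => (LinearMap.mul' k (CoordGrp.GLn n k) ∘ₗ TensorProduct.map (rowsMap a (Fin.init I))
      (rowMap (I (Fin.last a)) ∘ₗ
        ((PiTensorProduct.subsingletonEquiv (R := k) (s := fun _ : Fin 1 => (Fin n → k)) (0 : Fin 1)).symm.symm : TensorPower k 1 (Fin n → k) →ₗ[k] (Fin n → k)))) ∘ₗ
      ((TensorPower.mulEquiv (R := k) (M := Fin n → k) (n := a) (m := 1)).symm :
        TensorPower k (a + 1) (Fin n → k) →ₗ[k] TensorPower k a (Fin n → k) ⊗[k] TensorPower k 1 (Fin n → k))

theorem homA_rows : ∀ (a : ℕ) (I : Fin a → Fin n), HomA (ComodTens.Comod.tpow (stdGL n k) a) (rowsMap a I)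
  | 0, _ => homA_ofEquiv _ (f := Algebra.linearMap k (CoordGrp.GLn n k)) fun c => by
      rw [Algebra.linearMap_apply, Bialgebra.comul_algebraMap]
      show _ = (Algebra.linearMap k (CoordGrp.GLn n k)).rTensor (CoordGrp.GLn n k) ((TensorProduct.mk k k (CoordGrp.GLn n k)).flip 1 c)
      rw [LinearMap.flip_apply, TensorProduct.mk_apply, LinearMap.rTensor_tmul, Algebra.linearMap_apply, Algebra.TensorProduct.algebraMap_apply]
  | a + 1, I => homA_ofEquiv _ (homA_tensor (homA_rows a _) (homA_ofEquiv _ (homA_row _)))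

theorem monomial_mem_rows : ∀ (a : ℕ) (s : Fin n × Fin n →₀ ℕ), s.degree = a →
    ∃ (I : Fin a → Fin n) (x : TensorPower k a (Fin n → k)),
      rowsMap a I x = jGL n k (MvPolynomial.monomial s 1)
  | 0, s, hs => by
    refine ⟨Fin.elim0, (PiTensorProduct.isEmptyEquiv (Fin 0) (R := k) (s := fun _ : Fin 0 => (Fin n → k))).symm 1, ?_⟩
    rw [(Finsupp.degree_eq_zero_iff s).1 hs]
    simp [rowsMap]
  | a + 1, s, hs => by
    classical
    obtain ⟨p, hp⟩ : ∃ p, s p ≠ 0 := by
      by_contra h
      push Not at h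
      rw [show s = 0 from Finsupp.ext h] at hs
      simp at hs
    have hle : Finsupp.single p 1 ≤ s := Finsupp.single_le_iff.2 (Nat.one_le_iff_ne_zero.2 hp)
    have hs' : s = (s - Finsupp.single p 1) + Finsupp.single p 1 := (tsub_add_cancel_of_le hle).symm
    obtain ⟨I, x, hx⟩ := monomial_mem_rows a (s - Finsupp.single p 1) (by
      have := congrArg Finsupp.degree hs'
      rw [map_add, Finsupp.degree_single, hs] at this
      omega)
    refine ⟨Fin.snoc I p.1, TensorPower.mulEquiv (R := k) (M := Fin n → k) (n := a) (m := 1)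
      (x ⊗ₜ[k] (PiTensorProduct.subsingletonEquiv (0 : Fin 1)).symm (Pi.single p.2 (1 : k))), ?_⟩
    have hX : MvPolynomial.monomial s (1 : k) = MvPolynomial.monomial (s - Finsupp.single p 1) 1 * MvPolynomial.X p := by
      conv_lhs => rw [hs']
      rw [MvPolynomial.X, MvPolynomial.monomial_mul, one_mul]
    rw [hX, map_mul, ← hx, jGL, MvPolynomial.aeval_X]
    simp [rowsMap, rowMap_single]

variable [IsAlgClosed k] [CharZero k]

theorem coef_mem {V : Type w} [AddCommGroup V] [Module k V] [HopfRep.Comod k (CoordGrp.GLn n k) V] {h : ℤ}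
    (hh : @HopfRep.eigenspace k k[T;T⁻¹] _ _ _ V _ _
      (GLin.comodAlong (CoordGrp.GLn.diag n k (fun _ => 1)) ‹_›) (LaurentPolynomial.T h) = ⊤)
    (φ : V →ₗ[k] k) (v : V) (a c : ℕ) (P : MvPolynomial (Fin n × Fin n) k) (hc : (a : ℤ) = h + n * c)
    (hP : Comodule.coefMap (C := CoordGrp.GLn n k) φ v = jGL n k P * CoordGrp.GLn.Dinv ^ c) :
    P.IsHomogeneous a := by
  classical
  set g := (Comodule.coefMap (C := CoordGrp.GLn n k) φ).restrictScalars k with hg
  let t : kˣ := Units.mk0 2 two_ne_zero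
  have hsd : ((t : k) • (1 : Matrix (Fin n) (Fin n) k)).det ≠ 0 := by
    rw [Matrix.det_smul, Matrix.det_one, mul_one]
    exact pow_ne_zero _ t.ne_zero
  have hdiag : ∀ z, evalU t (CoordGrp.GLn.diag n k (fun _ => (1 : ℤ)) z) = ptGL ((t : k) • 1) hsd z := fun z => by
    refine DFunLike.congr_fun (CoordGrp.GLn.algHom_ext
      (f := (evalU t).comp (CoordGrp.GLn.diag n k (fun _ => (1 : ℤ)) : CoordGrp.GLn n k →ₐ[k] k[T;T⁻¹]))
      (fun i j => ?_) ?_) z
    · rw [AlgHom.comp_apply, ptGL, CoordGrp.GLn.pt_X]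
      show evalU t (CoordGrp.GLn.diag n k (fun _ => (1 : ℤ)) (CoordGrp.GLn.X i j)) = _
      rw [CoordGrp.GLn.diag_X]
      show _ = ((t : k) • (1 : Matrix (Fin n) (Fin n) k)) i j
      simp only [Matrix.smul_apply, Matrix.one_apply]
      split_ifs <;> simp [evalU_T]
    · rw [AlgHom.comp_apply, ptGL, CoordGrp.GLn.pt_Dinv]
      show evalU t (CoordGrp.GLn.diag n k (fun _ => (1 : ℤ)) CoordGrp.GLn.Dinv) = _
      rw [CoordGrp.GLn.diag_Dinv, evalU_T]
      simp [Matrix.det_smul, zpow_neg]
  have hpt : ∀ (M : Matrix (Fin n) (Fin n) k) (hM : M.det ≠ 0) (hM' : (M * ((t : k) • 1)).det ≠ 0),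
      ptGL (M * ((t : k) • 1)) hM' (g v) = (t : k) ^ h * ptGL M hM (g v) := fun M hM hM' => by
    have hv : v ∈ @HopfRep.eigenspace k k[T;T⁻¹] _ _ _ V _ _
        (GLin.comodAlong (CoordGrp.GLn.diag n k (fun _ => 1)) ‹_›) (LaurentPolynomial.T h) := by
      rw [hh]; exact Submodule.mem_top
    let Λ : V ⊗[k] k[T;T⁻¹] →ₗ[k] k :=
      (TensorProduct.lid k k).toLinearMap ∘ₗ TensorProduct.map ((ptGL M hM).toLinearMap ∘ₗ g) (evalU t).toLinearMap
    have hv' : TensorProduct.map LinearMap.id
        (CoordGrp.GLn.diag n k (fun _ => (1 : ℤ)) : CoordGrp.GLn n k →ₗ[k] k[T;T⁻¹])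
        (HopfRep.Comod.coact (k := k) (A := CoordGrp.GLn n k) v) = v ⊗ₜ[k] LaurentPolynomial.T h := hv
    have h1 := congrArg Λ hv'
    have h2 := LinearMap.congr_fun (Comodule.isComodHom_restrictScalars (Comodule.coefMap (C := CoordGrp.GLn n k) φ)) v
    simp only [LinearMap.comp_apply, Comodule.coact_regular] at h2
    rw [ptGL_mul M _ hM hsd, AlgHom.convMul_apply, hg, h2, ← hg]
    refine Eq.trans ?_ (h1.trans ?_)
    · induction HopfRep.Comod.coact (k := k) (A := CoordGrp.GLn n k) v with
      | zero => simp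
      | add p q hp hq => simp only [map_add, hp, hq]
      | tmul p q => simp [Λ, ← hdiag]
    · simp [Λ, evalU_T, mul_comm]
  intro s hs
  by_contra hne
  refine hne ?_
  have key : ∀ w : Fin n × Fin n → k, MvPolynomial.eval w
      ((MvPolynomial.aeval (fun p => MvPolynomial.C (t : k) * MvPolynomial.X p) P - MvPolynomial.C ((t : k) ^ a) * P) *
        detP n k) = 0 := fun w => by
    rw [map_mul]
    by_cases hd : MvPolynomial.eval w (detP n k) = 0
    · rw [hd, mul_zero]
    · have hM : (Matrix.of fun i j => w (i, j)).det ≠ 0 := by rwa [← aeval_detP (R := k)]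
      have hM' : ((Matrix.of fun i j => w (i, j)) * ((t : k) • 1)).det ≠ 0 := by
        rw [Matrix.det_mul]; exact mul_ne_zero hM hsd
      have h1 := hpt _ hM hM'
      rw [hg, LinearMap.coe_restrictScalars, hP, map_mul, map_mul, map_pow, map_pow, ptGL_jGL, ptGL_jGL, ptGL, ptGL,
        CoordGrp.GLn.pt_Dinv, CoordGrp.GLn.pt_Dinv, Matrix.det_mul, Matrix.det_smul, Matrix.det_one, mul_one,
        Fintype.card_fin, inv_pow, inv_pow, mul_pow, mul_inv, ← pow_mul] at h1
      have hA : MvPolynomial.eval (fun p : Fin n × Fin n => ((Matrix.of fun i j => w (i, j)) * ((t : k) • 1)) p.1 p.2) P =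
          MvPolynomial.eval w (MvPolynomial.aeval (fun p => MvPolynomial.C (t : k) * MvPolynomial.X p) P) := by
        rw [← MvPolynomial.aeval_eq_eval, ← MvPolynomial.aeval_eq_eval, ← AlgHom.comp_apply, MvPolynomial.comp_aeval]
        refine congrArg (fun f => MvPolynomial.aeval f P) (funext fun p => ?_)
        simp [mul_comm]
      rw [hA, show (fun p : Fin n × Fin n => (Matrix.of fun i j => w (i, j)) p.1 p.2) = w from rfl] at h1
      have hd' : ((Matrix.of fun i j => w (i, j)).det ^ c)⁻¹ ≠ 0 := inv_ne_zero (pow_ne_zero _ hM)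
      have ht : ((t : k) ^ (n * c)) ≠ 0 := pow_ne_zero _ t.ne_zero
      have h2 : MvPolynomial.eval w (MvPolynomial.aeval (fun p => MvPolynomial.C (t : k) * MvPolynomial.X p) P) =
          (t : k) ^ a * MvPolynomial.eval w P := by
        have ha : (t : k) ^ h * (t : k) ^ (n * c) = (t : k) ^ a := by
          rw [← zpow_natCast, ← zpow_natCast, ← zpow_add₀ t.ne_zero]
          congr 1
          push_cast
          omega
        rw [← ha]
        field_simp at h1
        linear_combination h1
      rw [map_sub, h2, map_mul, MvPolynomial.eval_C, sub_self, zero_mul]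
  have hz : MvPolynomial.aeval (fun p => MvPolynomial.C (t : k) * MvPolynomial.X p) P = MvPolynomial.C ((t : k) ^ a) * P := by
    refine sub_eq_zero.1 ((mul_eq_zero.1 (MvPolynomial.funext fun w => (key w).trans (map_zero _).symm)).resolve_right ?_)
    intro h0
    have := congrArg (MvPolynomial.eval fun p : Fin n × Fin n => (1 : Matrix (Fin n) (Fin n) k) p.1 p.2) h0
    rw [map_zero, ← MvPolynomial.aeval_eq_eval, aeval_detP] at this
    exact one_ne_zero ((Matrix.det_one (n := Fin n) (R := k)).symm.trans this)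
  have hco := congrArg (MvPolynomial.coeff s) hz
  have hcoeff : MvPolynomial.coeff s (MvPolynomial.aeval (fun p => MvPolynomial.C (t : k) * MvPolynomial.X p) P) =
      (t : k) ^ s.degree * MvPolynomial.coeff s P := by
    clear hco hz key hP hs hne
    induction P using MvPolynomial.induction_on' with
    | monomial d b =>
      rw [MvPolynomial.aeval_monomial, Finsupp.prod]
      simp only [mul_pow, Finset.prod_mul_distrib, ← map_pow, ← map_prod]
      rw [Finset.prod_pow_eq_pow_sum, ← mul_assoc, MvPolynomial.algebraMap_eq, ← map_mul,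
        show ∏ x ∈ d.support, MvPolynomial.X (R := k) x ^ d x = MvPolynomial.monomial d 1 by
          rw [MvPolynomial.monomial_eq, map_one, one_mul]; rfl,
        MvPolynomial.C_mul_monomial, MvPolynomial.coeff_monomial, MvPolynomial.coeff_monomial]
      split_ifs with hds
      · subst hds
        rw [Finsupp.degree_apply]
        ring
      · simp
    | add p q hp hq => simp only [map_add, MvPolynomial.coeff_add, hp, hq, mul_add]
  rw [hcoeff, MvPolynomial.coeff_C_mul] at hco
  have h3 := mul_right_cancel₀ hs hco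
  have h4 : ((2 ^ s.degree : ℕ) : k) = ((2 ^ a : ℕ) : k) := by push_cast; exact h3
  rw [show Finsupp.weight (1 : Fin n × Fin n → ℕ) s = s.degree from
    (DFunLike.congr_fun (Finsupp.degree_eq_weight_one (R := ℕ)) s).symm]
  exact Nat.pow_right_injective le_rfl (Nat.cast_injective h4)

end Std

end Groth.Agent.GITLib.TEmb
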